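import Groth.Agent.HigherDirect.OpenRestr
import Groth.Agent.SubtermOn.Basic
import Groth.Agent.SSExist.OverKInj
import Groth.Agent.ModPush.Acyclic
import Groth.Prelude.Def_CxOX

/-!
Restriction to an open subscheme preserves injective modules and K-injective complexes.
-/

set_option autoImplicit false
set_option linter.style.haveILetI false
set_option backward.isDefEq.respectTransparency false
set_option backward.isDefEq.respectTransparency.types false
universe u

open CategoryTheory CategoryTheory.Limits AlgebraicGeometry Opposite TopologicalSpace

namespace Groth.Agent.DQCPush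

open Groth.Agent.HigherDirect

variable {X : Scheme.{u}}

/-- The unit `I ⟶ j_* (I|_W)` splits for injective `I`. -/
theorem exists_section_η (W : X.Opens) (I : X.Modules) [hI : Injective I] :
    ∃ α : (J W).obj I ⟶ I, α ≫ (η W).app I = 𝟙 _ := by
  let O : Sheaf (Opens.grothendieckTopology X) CommRingCat.{u} := X.sheaf
  let I' : ModSite.Mod O := I
  let P' : ModSite.Mod O := (J W).obj I
  let e' : I' ⟶ P' := (η W).app I
  haveI : Injective I' := hI
  have hU : ∀ V : X.Opens, Subsingleton (V ⟶ W) := fun V => inferInstance
  haveI hiso : IsIso ((ModSite.restr O W).map e') := by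
    haveI : IsIso ((PresheafOfModules.toPresheaf _).map ((ModSite.restr O W).map e').val) := by
      rw [NatTrans.isIso_iff_isIso_app]
      intro Y
      have h : IsIso (((η W).app I).app Y.unop.left) := η_app_isIso W I (leOfHom Y.unop.hom)
      refine (ConcreteCategory.isIso_iff_bijective _).2 ?_
      exact (ConcreteCategory.isIso_iff_bijective (((η W).app I).app Y.unop.left)).1 h
    have h' : IsIso ((ModSite.restr O W).map e').val := isIso_of_reflects_iso _ (PresheafOfModules.toPresheaf _)
    haveI : IsIso ((SheafOfModules.forget _).map ((ModSite.restr O W).map e')) := h'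
    exact isIso_of_reflects_iso _ (SheafOfModules.forget _)
  obtain ⟨α, hα⟩ := SubtermOn.restr_map_surjective hU P' I' (inv ((ModSite.restr O W).map e'))
  have key : (ModSite.restr O W).map (α ≫ e') = 𝟙 _ := by rw [Functor.map_comp, hα, IsIso.inv_hom_id]
  let a : (J W).obj I ⟶ I := α
  refine ⟨a, Scheme.Modules.hom_ext _ _ fun V => ?_⟩
  have hle : im W V ≤ V := W.ι.image_preimage_le V
  haveI : IsIso (((J W).obj I).presheaf.map (homOfLE hle).op) :=
    J_res_isIso W I hle fun h => isIso_res I h (by simp only [im_eq]; exact le_inf inf_le_left le_rfl)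
  have h2 : (a ≫ (η W).app I).app (im W V) = 𝟙 _ := by
    have hW : im W V ≤ W := (im_eq W V).le.trans inf_le_left
    ext x
    exact congrArg (fun g => g.val.app (op (Over.mk (homOfLE hW))) x) key
  rw [← cancel_mono (((J W).obj I).presheaf.map (homOfLE hle).op)]
  refine ((a ≫ (η W).app I).mapPresheaf.naturality (homOfLE hle).op).symm.trans ?_
  change ((J W).obj I).presheaf.map (homOfLE hle).op ≫ (a ≫ (η W).app I).app (im W V) = _
  rw [h2]
  exact (Category.comp_id _).trans (Category.id_comp _).symm

/-- Restriction to an open subscheme preserves injectives. -/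
theorem injective_restrict (W : X.Opens) (I : X.Modules) [Injective I] :
    Injective ((Scheme.Modules.restrictFunctor W.ι).obj I) := by
  obtain ⟨α, hα⟩ := exists_section_η W I
  have hJ : Injective ((J W).obj I) := (Retract.mk α ((η W).app I) hα).injective
  constructor
  intro A B g m hm
  haveI := hm
  haveI : Mono ((Scheme.Modules.pushforward W.ι).map m) := inferInstance
  let g' := @Injective.factorThru _ _ ((J W).obj I) _ _ hJ ((Scheme.Modules.pushforward W.ι).map g)
    ((Scheme.Modules.pushforward W.ι).map m) inferInstance
  refine ⟨(Scheme.Modules.pushforward W.ι).preimage g', (Scheme.Modules.pushforward W.ι).map_injective ?_⟩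
  rw [Functor.map_comp, Functor.map_preimage]
  exact @Injective.comp_factorThru _ _ ((J W).obj I) _ _ hJ _ _ _

/-- Restriction to an open subscheme preserves K-injective complexes. -/
theorem isKInjective_restrict (W : X.Opens) (I : CochainComplex X.Modules ℤ) [I.IsKInjective] :
    CochainComplex.IsKInjective
      (((Scheme.Modules.restrictFunctor W.ι).mapHomologicalComplex (ComplexShape.up ℤ)).obj I) := by
  let R := Scheme.Modules.restrictFunctor W.ι
  let adj := Adjunction.ofIsRightAdjoint R
  haveI : EnoughInjectives X.Modules := enoughInjectives_modules X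
  haveI : PreservesColimitsOfSize.{0, 0} R.leftAdjoint := adj.leftAdjoint_preservesColimits
  haveI : PreservesFiniteColimits R.leftAdjoint := PreservesColimitsOfSize.preservesFiniteColimits _
  haveI : R.leftAdjoint.Additive := adj.left_adjoint_additive
  haveI : R.leftAdjoint.PreservesMonomorphisms := ⟨fun {A B} m hm => by
    haveI := hm
    let E := EnoughInjectives.presentation (R.leftAdjoint.obj A)
    obtain ⟨T⟩ := E
    haveI := injective_restrict W T.J
    obtain ⟨g, hg⟩ := Injective.factors (J := R.obj T.J) (adj.homEquiv _ _ T.f) m
    have h : R.leftAdjoint.map m ≫ (adj.homEquiv _ _).symm g = T.f := by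
      rw [← adj.homEquiv_naturality_left_symm, hg, Equiv.symm_apply_apply]
    exact mono_of_mono_fac h⟩
  haveI : R.leftAdjoint.PreservesHomology :=
    Functor.preservesHomology_of_preservesMonos_and_cokernels _
  haveI : PreservesFiniteLimits R.leftAdjoint :=
    Functor.preservesFiniteLimits_of_preservesHomology _
  exact SSExist.isKInjective_map_rightAdjoint adj I

end Groth.Agent.DQCPush
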