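import Groth.Agent.DQCPush.Restrict
import Groth.Agent.DQCPush.RestrInj
import Groth.Agent.CechShRes.Basic
import Groth.Agent.TriH.CountableSum

/-!
# Derived sections over opens, and detection of isomorphisms on a basis
-/

set_option autoImplicit false
set_option linter.style.haveILetI false
set_option backward.isDefEq.respectTransparency false
set_option backward.isDefEq.respectTransparency.types false
universe u

open CategoryTheory CategoryTheory.Limits AlgebraicGeometry Opposite TopologicalSpace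

attribute [local instance] HasDerivedCategory.standard

namespace Groth.Agent.DQCPush

section Generic

variable {A B : Type*} [Category* A] [Abelian A] [HasDerivedCategory A]
  [Category* B] [Abelian B] [HasDerivedCategory B] (F : A ⥤ B) [F.Additive]
  [(F.mapHomotopyCategory (ComplexShape.up ℤ) ⋙ DerivedCategory.Qh).HasRightDerivedFunctor
    (HomotopyCategory.quasiIso A (ComplexShape.up ℤ))]

/-- Between K-injective complexes, `RF` is computed termwise on morphisms. -/
theorem isIso_RF_map_iff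
    (hKinj : ∀ K : CochainComplex A ℤ, ∃ (I : CochainComplex A ℤ) (f : K ⟶ I), I.IsKInjective ∧ QuasiIso f)
    {I₁ I₂ : CochainComplex A ℤ} [I₁.IsKInjective] [I₂.IsKInjective] (φ : I₁ ⟶ I₂) :
    IsIso ((DerAdj.RFun F).map (DerivedCategory.Q.map φ)) ↔
      QuasiIso ((F.mapHomologicalComplex (ComplexShape.up ℤ)).map φ) := by
  let WA := HomotopyCategory.quasiIso A (ComplexShape.up ℤ)
  let P := F.mapHomotopyCategory (ComplexShape.up ℤ) ⋙ DerivedCategory.Qh
  let β := P.totalRightDerivedUnit DerivedCategory.Qh WA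
  haveI : P.HasPointwiseRightDerivedFunctor WA :=
    TriH.hasPointwiseRightDerivedFunctor_of_bijective (L := DerivedCategory.Qh)
      (TriH.exists_kInjective_homotopy hKinj) P
  have hβ : ∀ I : CochainComplex A ℤ, I.IsKInjective →
      IsIso (β.app ((HomotopyCategory.quotient A _).obj I)) := fun I hI =>
    TriH.isIso_unit_of_bijective (W := WA) P (DerAdj.RFun F) β _
      (fun X => TriH.Qh_bijective_of_isKInjective I X)
  haveI := hβ I₁ ‹_›
  haveI := hβ I₂ ‹_›
  rw [← DerivedCategory.isIso_Q_map_iff_quasiIso]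
  refine Iff.trans ?_ (NatIso.isIso_map_iff ((Functor.associator _ _ _).symm ≪≫
      Functor.isoWhiskerRight (F.mapHomotopyCategoryFactors (ComplexShape.up ℤ)) _ ≪≫
      Functor.associator _ _ _ ≪≫ Functor.isoWhiskerLeft _ (DerivedCategory.quotientCompQhIso B) :
      HomotopyCategory.quotient A (ComplexShape.up ℤ) ⋙ P ≅
        F.mapHomologicalComplex (ComplexShape.up ℤ) ⋙ DerivedCategory.Q) φ)
  refine (NatIso.isIso_map_iff
    (Functor.isoWhiskerRight (DerivedCategory.quotientCompQhIso A) (DerAdj.RFun F)) φ).symm.trans ?_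
  have h := β.naturality ((HomotopyCategory.quotient A (ComplexShape.up ℤ)).map φ)
  dsimp only [Functor.comp_map] at h ⊢
  constructor <;> intro hh
  · haveI : IsIso (β.app ((HomotopyCategory.quotient A (ComplexShape.up ℤ)).obj I₁) ≫
        (P.totalRightDerived DerivedCategory.Qh WA).map
          (DerivedCategory.Qh.map ((HomotopyCategory.quotient A (ComplexShape.up ℤ)).map φ))) :=
      IsIso.comp_isIso' inferInstance hh
    exact IsIso.of_isIso_fac_right h
  · haveI := hh
    exact IsIso.of_isIso_fac_left h.symm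

end Generic

variable {X : Scheme.{u}}

instance secF_additive (U : X.Opens) : (CechShRes.secF U).Additive where
  map_add := by intros; rfl

/-- Sections over an open, through the open subscheme. -/
noncomputable def gammaRestrictIso (U : X.Opens) :
    Scheme.Modules.restrictFunctor U.ι ⋙ DCoh.gammaAb (U : Scheme.{u}) ≅ CechShRes.secF U :=
  NatIso.ofComponents (fun M => M.presheaf.mapIso (eqToIso U.ι_image_top.symm).op)
    (fun {M N} φ => (φ.mapPresheaf.naturality (eqToHom U.ι_image_top.symm).op).symm)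

/-- A short complex of modules is exact if cycles lift locally. -/
theorem exact_of_locally_lift (S : ShortComplex X.Modules)
    (h : ∀ (U : X.Opens) (x : Γ(S.X₂, U)), S.g.app U x = 0 → ∀ p : X, p ∈ U →
      ∃ (V : X.Opens) (i : V ⟶ U), p ∈ V ∧ ∃ b, S.f.app V b = S.X₂.presheaf.map i.op x) : S.Exact := by
  haveI : PreservesFiniteLimits (QCohLib.toSh X) :=
    inferInstanceAs (PreservesFiniteLimits (SheafOfModules.toSheaf.{u} X.ringCatSheaf))
  rw [← ShortComplex.exact_map_iff_of_faithful S (QCohLib.toSh X)]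
  refine TwoTop.exact_of_local (C := X.Opens) _ fun U x hx => ?_
  refine ⟨{ arrows := fun V g => ∃ b, S.f.app V b = S.X₂.presheaf.map g.op x
            downward_closed := fun {V W g} ⟨b, hb⟩ k => ⟨S.X₁.presheaf.map k.op b, ?_⟩ },
    fun p hp => ?_, fun {V} g hg => hg⟩
  · refine (QCohLib.app_map S.f (leOfHom k) b).trans ?_
    refine (congrArg (S.X₂.presheaf.map k.op) hb).trans ?_
    exact (ConcreteCategory.congr_hom (S.X₂.presheaf.map_comp g.op k.op) x).symm
  · obtain ⟨V, i, hpV, hb⟩ := h U x hx p hp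
    exact ⟨V, i, hb, hpV⟩

/-- A map of complexes of modules is a quasi-isomorphism if it is one on sections over a basis. -/
theorem quasiIso_of_secF {I : Type*} (B : I → X.Opens)
    (hB : ∀ (U : X.Opens) (p : X), p ∈ U → ∃ i, p ∈ B i ∧ B i ≤ U)
    {K L : CochainComplex X.Modules ℤ} (φ : K ⟶ L)
    (h : ∀ i, QuasiIso (((CechShRes.secF (B i)).mapHomologicalComplex (ComplexShape.up ℤ)).map φ)) :
    QuasiIso φ := by
  haveI : HasFiniteBiproducts X.Modules := Abelian.hasFiniteBiproducts
  let C := CochainComplex.mappingCone φ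
  have hC : ∀ i n, (((CechShRes.secF (B i)).mapHomologicalComplex (ComplexShape.up ℤ)).obj C).ExactAt n := by
    intro i n
    have hi := h i
    have : HomologicalComplex.Acyclic (CochainComplex.mappingCone
        (((CechShRes.secF (B i)).mapHomologicalComplex (ComplexShape.up ℤ)).map φ)) := by
      rw [← HomotopyCategory.quotient_obj_mem_subcategoryAcyclic_iff_acyclic]
      have hi' := (HomotopyCategory.quotient_map_mem_quasiIso_iff _).2 ((HomologicalComplex.mem_quasiIso_iff _).2 hi)
      rw [HomotopyCategory.quasiIso_eq_trW_subcategoryAcyclic] at hi'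
      exact (ObjectProperty.trW_iff_of_distinguished _ _ (HomotopyCategory.mappingCone_triangleh_distinguished _)).1 hi'
    exact (this n).of_iso (CochainComplex.mappingCone.mapHomologicalComplexIso φ (CechShRes.secF (B i))).symm
  have hac : HomologicalComplex.Acyclic C := by
    intro n
    rw [HomologicalComplex.exactAt_iff' _ (n - 1) n (n + 1) (by simp) (by simp)]
    refine exact_of_locally_lift _ fun U x hx p hp => ?_
    obtain ⟨i, hpi, hiU⟩ := hB U p hp
    have hn := hC i n
    rw [HomologicalComplex.exactAt_iff' _ (n - 1) n (n + 1) (by simp) (by simp),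
      ShortComplex.ab_exact_iff] at hn
    refine ⟨B i, homOfLE hiU, hpi, hn _ ?_⟩
    refine (QCohLib.app_map _ hiU x).trans ?_
    exact (congrArg _ hx).trans (map_zero _)
  rw [← HomologicalComplex.mem_quasiIso_iff, ← HomotopyCategory.quotient_map_mem_quasiIso_iff,
    HomotopyCategory.quasiIso_eq_trW_subcategoryAcyclic]
  refine (ObjectProperty.trW_iff_of_distinguished _ _ (HomotopyCategory.mappingCone_triangleh_distinguished φ)).2 ?_
  exact (HomotopyCategory.quotient_obj_mem_subcategoryAcyclic_iff_acyclic _).2 hac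

/-- Isomorphisms of `D(O_X)` are detected by derived sections over affine opens. -/
theorem isIso_iff_RΓ [hR : ∀ U : X.Opens, DCoh.HasRΓ (U : Scheme.{u})] {G₁ G₂ : DCoh.D X} (φ : G₁ ⟶ G₂) :
    IsIso φ ↔ ∀ U : X.Opens, IsAffineOpen U →
      IsIso ((DCoh.RΓ (U : Scheme.{u})).map ((DCoh.restrictD U.ι).map φ)) := by
  refine ⟨fun _ U _ => inferInstance, fun h => ?_⟩
  obtain ⟨K₁, ⟨e₁⟩⟩ : ∃ K, Nonempty (DerivedCategory.Q.obj K ≅ G₁) := ⟨_, ⟨DerivedCategory.Q.objObjPreimageIso G₁⟩⟩
  obtain ⟨K₂, ⟨e₂⟩⟩ : ∃ K, Nonempty (DerivedCategory.Q.obj K ≅ G₂) := ⟨_, ⟨DerivedCategory.Q.objObjPreimageIso G₂⟩⟩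
  obtain ⟨I₁, s₁, hI₁, hs₁⟩ := DerAdj.modules_hKinj X K₁
  obtain ⟨I₂, s₂, hI₂, hs₂⟩ := DerAdj.modules_hKinj X K₂
  let a₁ : DerivedCategory.Q.obj I₁ ≅ G₁ := (asIso (DerivedCategory.Q.map s₁)).symm ≪≫ e₁
  let a₂ : DerivedCategory.Q.obj I₂ ≅ G₂ := (asIso (DerivedCategory.Q.map s₂)).symm ≪≫ e₂
  obtain ⟨ψ, hψ⟩ : ∃ ψ : I₁ ⟶ I₂, DerivedCategory.Q.map ψ = a₁.hom ≫ φ ≫ a₂.inv := by
    let c := DerivedCategory.quotientCompQhIso X.Modules
    obtain ⟨g, hg⟩ := (TriH.Qh_bijective_of_isKInjective I₂ _).2 (c.hom.app I₁ ≫ (a₁.hom ≫ φ ≫ a₂.inv) ≫ c.inv.app I₂)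
    obtain ⟨ψ, rfl⟩ := (HomotopyCategory.quotient X.Modules (ComplexShape.up ℤ)).map_surjective g
    refine ⟨ψ, ?_⟩
    have := c.hom.naturality ψ
    simp only [Functor.comp_map, hg, Category.assoc, Iso.inv_hom_id_app, Category.comp_id] at this
    exact ((cancel_epi (c.hom.app I₁)).1 this.symm)
  suffices hq : QuasiIso ψ by
    have : IsIso (a₁.hom ≫ φ ≫ a₂.inv) := hψ ▸ inferInstanceAs (IsIso (DerivedCategory.Q.map ψ))
    have e : φ = a₁.inv ≫ (a₁.hom ≫ φ ≫ a₂.inv) ≫ a₂.hom := by simp
    rw [e]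
    infer_instance
  refine quasiIso_of_secF (fun U : {U : X.Opens // IsAffineOpen U} => U.1) (fun U p hp => ?_) ψ fun U => ?_
  · obtain ⟨V, hV, hpV, hVU⟩ := exists_isAffineOpen_mem_and_subset (show p ∈ U from hp)
    exact ⟨⟨V, hV⟩, hpV, hVU⟩
  · haveI : IsIso ((DCoh.RΓ (U.1 : Scheme.{u})).map ((DCoh.restrictD U.1.ι).map (DerivedCategory.Q.map ψ))) := by
      haveI := h U.1 U.2
      rw [hψ, Functor.map_comp, Functor.map_comp, Functor.map_comp, Functor.map_comp]
      infer_instance
    haveI := isKInjective_restrict U.1 I₁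
    haveI := isKInjective_restrict U.1 I₂
    haveI h2 := (isIso_RF_map_iff (DCoh.gammaAb (U.1 : Scheme.{u})) (DerAdj.modules_hKinj _)
      (((Scheme.Modules.restrictFunctor U.1.ι).mapHomologicalComplex (ComplexShape.up ℤ)).map ψ)).1
      ((NatIso.isIso_map_iff (Functor.isoWhiskerRight
        (Scheme.Modules.restrictFunctor U.1.ι).mapDerivedCategoryFactors (DCoh.RΓ (U.1 : Scheme.{u}))) ψ).1 ‹_›)
    let η := NatIso.mapHomologicalComplex (gammaRestrictIso U.1) (ComplexShape.up ℤ)
    exact (quasiIso_iff_of_arrow_mk_iso _ _ (Arrow.isoMk (η.app I₁) (η.app I₂) (η.hom.naturality ψ).symm)).1 h2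

end Groth.Agent.DQCPush
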