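import Groth.Agent.DQCPush.Colim
import Groth.Agent.QCohLib.StalkRestrict

/-!
# Isomorphisms and colimits of modules are local
-/

set_option autoImplicit false
set_option linter.style.haveILetI false
set_option backward.isDefEq.respectTransparency false
set_option backward.isDefEq.respectTransparency.types false
universe u

open CategoryTheory CategoryTheory.Limits AlgebraicGeometry

attribute [local instance] HasDerivedCategory.standard

namespace Groth.Agent.DQCPush

variable {X : Scheme.{u}}

/-- A map of modules is an isomorphism if its restrictions to a cover are. -/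
theorem isIso_of_restrict {M N : X.Modules} (φ : M ⟶ N)
    (h : ∀ V : X.affineOpens, IsIso ((Scheme.Modules.restrictFunctor V.1.ι).map φ)) : IsIso φ := by
  rw [QCohLib.isIso_iff_stalk_bijective]
  intro x
  obtain ⟨V, hV⟩ := QCohLib.exists_affine_mem x
  obtain ⟨h1, h2⟩ := (QCohLib.isIso_iff_stalk_bijective _).1 (h V) ⟨x, hV⟩
  refine ⟨fun a b hab => ?_, fun b => ?_⟩
  · obtain ⟨a, rfl⟩ := (QCohLib.restrictStalkIso_bijective V.1.ι M ⟨x, hV⟩).2 a
    obtain ⟨b, rfl⟩ := (QCohLib.restrictStalkIso_bijective V.1.ι M ⟨x, hV⟩).2 b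
    refine congrArg _ (h1 ((QCohLib.restrictStalkIso_bijective V.1.ι N ⟨x, hV⟩).1 ?_))
    exact (QCohLib.stalkHom_restrict V.1.ι φ ⟨x, hV⟩ a).trans
      (hab.trans (QCohLib.stalkHom_restrict V.1.ι φ ⟨x, hV⟩ b).symm)
  · obtain ⟨n, rfl⟩ := (QCohLib.restrictStalkIso_bijective V.1.ι N ⟨x, hV⟩).2 b
    obtain ⟨m, rfl⟩ := h2 n
    exact ⟨_, (QCohLib.stalkHom_restrict V.1.ι φ ⟨x, hV⟩ m).symm⟩

/-- Restrictions to affine opens detect colimits. -/
theorem preservesColimit_of_restrict {C : Type*} [Category* C] {J : Type u} [SmallCategory J] {D : J ⥤ C}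
    (G : C ⥤ X.Modules)
    (h : ∀ V : X.affineOpens, PreservesColimit D (G ⋙ Scheme.Modules.restrictFunctor V.1.ι)) :
    PreservesColimit D G := by
  haveI := isGrothendieckAbelian_modules X
  refine ⟨fun {c} hc => ?_⟩
  let φ : colimit (D ⋙ G) ⟶ G.obj c.pt := colimit.desc _ (G.mapCocone c)
  haveI : IsIso φ := isIso_of_restrict φ fun V => by
    let R := Scheme.Modules.restrictFunctor V.1.ι
    haveI := h V
    haveI : PreservesColimit (D ⋙ G) R := by
      haveI := (Scheme.Modules.restrictAdjunction V.1.ι).leftAdjoint_preservesColimits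
      infer_instance
    let c1 := isColimitOfPreserves R (colimit.isColimit (D ⋙ G))
    let c2 : IsColimit (R.mapCocone (G.mapCocone c)) := isColimitOfPreserves (G ⋙ R) hc
    have he : R.map φ = (c1.coconePointUniqueUpToIso c2).hom := by
      refine c1.hom_ext fun j => ?_
      refine Eq.trans ?_ (c1.comp_coconePointUniqueUpToIso_hom c2 j).symm
      exact (R.map_comp _ _).symm.trans (congrArg R.map (colimit.ι_desc _ _))
    show IsIso (R.map φ)
    rw [he]
    infer_instance
  exact ⟨IsColimit.ofIsoColimit (colimit.isColimit _) (Cocone.ext (asIso φ) fun j => colimit.ι_desc _ j)⟩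

/-- Cohomology sheaves commute with restriction, naturally. -/
noncomputable def HDRestrictNatIso {U : Scheme.{u}} (j : U ⟶ X) [IsOpenImmersion j]
    [PreservesFiniteLimits (Scheme.Modules.restrictFunctor j)] (i : ℤ) :
    DCoh.restrictD j ⋙ DerivedCategory.homologyFunctor U.Modules i ≅
      DerivedCategory.homologyFunctor X.Modules i ⋙ Scheme.Modules.restrictFunctor j :=
  haveI := preservesFiniteColimits_restrict j
  let R := Scheme.Modules.restrictFunctor j
  let e : DerivedCategory.Q ⋙ DCoh.restrictD j ⋙ DerivedCategory.homologyFunctor U.Modules i ≅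
      DerivedCategory.Q ⋙ DerivedCategory.homologyFunctor X.Modules i ⋙ R :=
    (Functor.associator _ _ _).symm ≪≫ Functor.isoWhiskerRight R.mapDerivedCategoryFactors _ ≪≫
      Functor.associator _ _ _ ≪≫ Functor.isoWhiskerLeft _ (DerivedCategory.homologyFunctorFactors U.Modules i) ≪≫
      (NatIso.ofComponents (fun K : CochainComplex X.Modules ℤ => ShortComplex.mapHomologyIso (K.sc i) R)
        (fun f => ShortComplex.mapHomologyIso_hom_naturality
          ((HomologicalComplex.shortComplexFunctor X.Modules (ComplexShape.up ℤ) i).map f) R) :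
        R.mapHomologicalComplex (ComplexShape.up ℤ) ⋙ HomologicalComplex.homologyFunctor U.Modules (ComplexShape.up ℤ) i ≅
          HomologicalComplex.homologyFunctor X.Modules (ComplexShape.up ℤ) i ⋙ R) ≪≫
      Functor.isoWhiskerRight (DerivedCategory.homologyFunctorFactors X.Modules i).symm R ≪≫ Functor.associator _ _ _
  Localization.liftNatIso DerivedCategory.Q (HomologicalComplex.quasiIso X.Modules (ComplexShape.up ℤ))
    (DerivedCategory.Q ⋙ DCoh.restrictD j ⋙ DerivedCategory.homologyFunctor U.Modules i)
    (DerivedCategory.Q ⋙ DerivedCategory.homologyFunctor X.Modules i ⋙ R) _ _ e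

/-- A map in `D(O_X)` is an isomorphism if its restrictions to affine opens are. -/
theorem isIso_of_restrictD {K L : DCoh.D X} (φ : K ⟶ L)
    (h : ∀ (V : X.affineOpens) [PreservesFiniteLimits (Scheme.Modules.restrictFunctor V.1.ι)],
      IsIso ((DCoh.restrictD V.1.ι).map φ)) : IsIso φ := by
  rw [DerivedCategory.isIso_iff]
  refine fun i => isIso_of_restrict _ fun V => ?_
  haveI : PreservesFiniteLimits (Scheme.Modules.restrictFunctor V.1.ι) :=
    CxOX.preservesFiniteLimits_restrictFunctor _
  haveI := h V
  exact (NatIso.isIso_map_iff (HDRestrictNatIso V.1.ι i) φ).1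
    (inferInstanceAs (IsIso ((DerivedCategory.homologyFunctor _ i).map ((DCoh.restrictD V.1.ι).map φ))))

/-- Restriction on derived categories commutes with direct sums. -/
theorem preservesColimit_restrictD {U : Scheme.{u}} (j : U ⟶ X) [IsOpenImmersion j]
    [PreservesFiniteLimits (Scheme.Modules.restrictFunctor j)] {α : Type u} (K : α → DCoh.D X) :
    PreservesColimit (Discrete.functor K) (DCoh.restrictD j) := by
  haveI := isGrothendieckAbelian_modules X
  haveI := isGrothendieckAbelian_modules U
  haveI : HasColimit (Discrete.functor K ⋙ DCoh.restrictD j) := by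
    let L : α → CochainComplex U.Modules ℤ := fun t => DerivedCategory.Q.objPreimage ((DCoh.restrictD j).obj (K t))
    obtain ⟨hL⟩ := TriH.isColimit_Q_cofan (DerAdj.modules_hKinj U) L
    haveI : HasColimit (Discrete.functor fun t => DerivedCategory.Q.obj (L t)) := HasColimit.mk ⟨_, hL⟩
    exact hasColimit_of_iso (Discrete.natIso fun t => (DerivedCategory.Q.objObjPreimageIso ((DCoh.restrictD j).obj (K t.as))).symm :
      Discrete.functor K ⋙ DCoh.restrictD j ≅ Discrete.functor fun t => DerivedCategory.Q.obj (L t))
  refine ⟨fun {c} hc => ?_⟩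
  let φ : colimit (Discrete.functor K ⋙ DCoh.restrictD j) ⟶ (DCoh.restrictD j).obj c.pt :=
    colimit.desc _ ((DCoh.restrictD j).mapCocone c)
  haveI : IsIso φ := by
    rw [DerivedCategory.isIso_iff]
    intro i
    let H := DerivedCategory.homologyFunctor U.Modules i
    haveI := preservesColimit_HD K i
    haveI : PreservesColimit (Discrete.functor K ⋙ DCoh.restrictD j) H := by
      haveI := preservesColimit_HD (fun t => (DCoh.restrictD j).obj (K t)) i
      exact preservesColimit_of_iso_diagram H
        (Discrete.natIso fun t => Iso.refl _ :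
          (Discrete.functor fun t => (DCoh.restrictD j).obj (K t)) ≅ Discrete.functor K ⋙ DCoh.restrictD j)
    haveI : PreservesColimit (Discrete.functor K ⋙ DerivedCategory.homologyFunctor X.Modules i)
        (Scheme.Modules.restrictFunctor j) := by
      haveI := (Scheme.Modules.restrictAdjunction j).leftAdjoint_preservesColimits
      infer_instance
    haveI : PreservesColimit (Discrete.functor K) (DCoh.restrictD j ⋙ H) :=
      preservesColimit_of_natIso _ (HDRestrictNatIso j i).symm
    let c1 := isColimitOfPreserves H (colimit.isColimit (Discrete.functor K ⋙ DCoh.restrictD j))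
    let c2 : IsColimit (H.mapCocone ((DCoh.restrictD j).mapCocone c)) :=
      isColimitOfPreserves (DCoh.restrictD j ⋙ H) hc
    have he : H.map φ = (c1.coconePointUniqueUpToIso c2).hom := by
      refine c1.hom_ext fun t => ?_
      refine Eq.trans ?_ (c1.comp_coconePointUniqueUpToIso_hom c2 t).symm
      exact (H.map_comp _ _).symm.trans (congrArg H.map (colimit.ι_desc _ _))
    show IsIso (H.map φ)
    rw [he]
    infer_instance
  exact ⟨IsColimit.ofIsoColimit (colimit.isColimit _) (Cocone.ext (asIso φ) fun t => colimit.ι_desc _ t)⟩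

end Groth.Agent.DQCPush
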