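import Groth.Agent.DQCPush.Window
import Groth.Agent.DQCPush.Local

/-!
# `Rf_*` commutes with sums and filtered colimits of complexes with quasi-coherent cohomology
-/

set_option autoImplicit false
set_option linter.style.haveILetI false
set_option backward.isDefEq.respectTransparency false
set_option backward.isDefEq.respectTransparency.types false
universe u

open CategoryTheory CategoryTheory.Limits AlgebraicGeometry

attribute [local instance] HasDerivedCategory.standard

namespace Groth.Agent.DQCPush

open RlimLib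

section Generic

universe v₁ v₂ v₃ u₁ u₂ u₃

variable {J : Type u₁} [Category.{v₁} J] {C : Type u₂} [Category.{v₂} C] {A : Type u₃} [Category.{v₃} A]
  (G : C ⥤ A) {D D' : J ⥤ C} (τ : D ⟶ D') (c : Cocone D) (c' : Cocone D') (t : c.pt ⟶ c'.pt)
  (ht : ∀ j, c.ι.app j ≫ t = τ.app j ≫ c'.ι.app j)

include ht in
/-- A map of colimits with invertible components is invertible. -/
theorem isIso_map_of_isColimit [∀ j, IsIso (G.map (τ.app j))] (h : IsColimit (G.mapCocone c))
    (h' : IsColimit (G.mapCocone c')) : IsIso (G.map t) := by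
  haveI : ∀ j, IsIso ((Functor.whiskerRight τ G).app j) := fun j => inferInstanceAs (IsIso (G.map (τ.app j)))
  haveI : IsIso (Functor.whiskerRight τ G) := NatIso.isIso_of_isIso_app _
  let e := IsColimit.coconePointsIsoOfNatIso h h' (asIso (Functor.whiskerRight τ G))
  have he : G.map t = e.hom := by
    refine h.hom_ext fun j => ?_
    refine Eq.trans ?_ (IsColimit.comp_coconePointsIsoOfNatIso_hom h h' (asIso (Functor.whiskerRight τ G)) j).symm
    exact (G.map_comp _ _).symm.trans ((congrArg G.map (ht j)).trans (G.map_comp _ _))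
  rw [he]
  infer_instance

include ht in
/-- Being a colimit transports along such a map. -/
theorem nonempty_isColimit_of_isIso [∀ j, IsIso (G.map (τ.app j))] [IsIso (G.map t)]
    (h' : IsColimit (G.mapCocone c')) : Nonempty (IsColimit (G.mapCocone c)) := by
  let α : D ⋙ G ≅ D' ⋙ G := NatIso.ofComponents (fun j => asIso (G.map (τ.app j)))
    (fun {i j} g => (G.map_comp _ _).symm.trans ((congrArg G.map (τ.naturality g)).trans (G.map_comp _ _)))
  refine ⟨IsColimit.equivOfNatIsoOfIso α.symm (G.mapCocone c') (G.mapCocone c)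
    (Cocone.ext (asIso (G.map t)).symm fun j => ?_) h'⟩
  show (G.map (τ.app j) ≫ G.map (c'.ι.app j)) ≫ inv (G.map t) = G.map (c.ι.app j)
  rw [IsIso.comp_inv_eq]
  exact (G.map_comp _ _).symm.trans ((congrArg G.map (ht j).symm).trans (G.map_comp _ _))

end Generic

variable {X S : Scheme.{u}} (f : X ⟶ S)

/-- Direct sums exist in `D(O_X)`. -/
theorem hasCoproduct_D {α : Type u} (K : α → DCoh.D X) : HasColimit (Discrete.functor K) := by
  haveI := isGrothendieckAbelian_modules X
  let L : α → CochainComplex X.Modules ℤ := fun t => DerivedCategory.Q.objPreimage (K t)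
  obtain ⟨hL⟩ := TriH.isColimit_Q_cofan (DerAdj.modules_hKinj X) L
  haveI : HasColimit (Discrete.functor fun t => DerivedCategory.Q.obj (L t)) := HasColimit.mk ⟨_, hL⟩
  exact hasColimit_of_iso (Discrete.natIso fun t => (DerivedCategory.Q.objObjPreimageIso (K t.as)).symm :
    Discrete.functor K ≅ Discrete.functor fun t => DerivedCategory.Q.obj (L t))

theorem isQCohD_of_isColimit_coproduct {α : Type u} {K : α → DCoh.D X} {c : Cocone (Discrete.functor K)}
    (hc : IsColimit c) (hK : ∀ t, DCoh.IsQCohD (K t)) : DCoh.IsQCohD c.pt := fun i => by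
  haveI := isGrothendieckAbelian_modules X
  haveI := preservesColimit_HD K i
  exact @QCohLib.isQuasicoherent_of_iso _ _ _
    ((isColimitOfPreserves (DerivedCategory.homologyFunctor X.Modules i) hc).coconePointUniqueUpToIso
      (colimit.isColimit _)).symm
    (QCohColim.isQuasicoherent_colimit _ fun t => hK t.as i)

variable [QuasiCompact f] [QuasiSeparated f] [DCoh.HasRpush f]

/-- Sums, with a bound. -/
theorem preservesColimit_of_bound [HasInjectiveResolutions X.Modules] {N : ℤ} (hN : Bound f N) {α : Type u}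
    (K : α → DCoh.D X) (hK : ∀ t, DCoh.IsQCohD (K t)) (j : ℤ) :
    PreservesColimit (Discrete.functor K) (DCoh.Rpush f ⋙ DerivedCategory.homologyFunctor S.Modules j) := by
  let a := j - N - 1
  let K' : α → DCoh.D X := fun t => tge a (K t)
  haveI := hasCoproduct_D K'
  let τ : Discrete.functor K ⟶ Discrete.functor K' := Discrete.natTrans fun t => tgeπ a (K t.as)
  refine ⟨fun {c} hc => ?_⟩
  let c' := colimit.cocone (Discrete.functor K')
  let t : c.pt ⟶ c'.pt := hc.desc ((Cocone.precompose τ).obj c')
  have ht : ∀ x, c.ι.app x ≫ t = τ.app x ≫ c'.ι.app x := fun x => hc.fac _ x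
  have hge : ∀ x, (K' x).IsGE a := fun x => isGE_tge _ _
  have hiso : ∀ i, a ≤ i → IsIso ((DerivedCategory.homologyFunctor X.Modules i).map t) := fun i hi => by
    haveI := preservesColimit_HD K i
    haveI := preservesColimit_HD K' i
    haveI : ∀ x, IsIso ((DerivedCategory.homologyFunctor X.Modules i).map (τ.app x)) := fun x =>
      isIso_homology_tgeπ (K x.as) hi
    exact isIso_map_of_isColimit _ τ c c' t ht (isColimitOfPreserves _ hc)
      (isColimitOfPreserves _ (colimit.isColimit _))
  let G := DCoh.Rpush f ⋙ DerivedCategory.homologyFunctor S.Modules j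
  haveI : IsIso (G.map t) := isIso_HD_Rpush_map f hN t (isQCohD_of_isColimit_coproduct hc hK)
    (isQCohD_of_isColimit_coproduct (colimit.isColimit _) fun x => isQCohD_tge _ (hK x) a) a hiso j (by omega)
  haveI : ∀ x, IsIso (G.map (τ.app x)) := fun x => isIso_HD_Rpush_map f hN (tgeπ a (K x.as)) (hK x.as)
    (isQCohD_tge _ (hK x.as) a) a (fun i hi => isIso_homology_tgeπ _ hi) j (by omega)
  haveI := preservesColimit_HD_Rpush f K' a hge j
  exact nonempty_isColimit_of_isIso G τ c c' t ht (isColimitOfPreserves G (colimit.isColimit _))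

omit [DCoh.HasRpush f] in
/-- Filtered colimits of complexes, with a bound. -/
theorem preservesColimit_filtered_of_bound [DCoh.HasRpush f] [HasInjectiveResolutions X.Modules] {N : ℤ}
    (hN : Bound f N) {J : Type u} [SmallCategory J] [IsFiltered J] (C : J ⥤ CochainComplex X.Modules ℤ)
    (hC : ∀ x, DCoh.IsQCohD (DCoh.toD X (C.obj x))) (j : ℤ) :
    PreservesColimit C (DerivedCategory.Q ⋙ DCoh.Rpush f ⋙ DerivedCategory.homologyFunctor S.Modules j) := by
  haveI := isGrothendieckAbelian_modules X
  let a := j - N - 1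
  let tr := (ComplexShape.embeddingUpIntGE a).truncGEFunctor X.Modules
  let C' := C ⋙ tr
  let τ : C ⟶ C' := Functor.whiskerLeft C ((ComplexShape.embeddingUpIntGE a).πTruncGENatTrans X.Modules)
  refine ⟨fun {c} hc => ?_⟩
  let c' := colimit.cocone C'
  let t : c.pt ⟶ c'.pt := hc.desc ((Cocone.precompose τ).obj c')
  have ht : ∀ x, c.ι.app x ≫ t = τ.app x ≫ c'.ι.app x := fun x => hc.fac _ x
  have hge : ∀ x, (DCoh.toD X (C'.obj x)).IsGE a := fun x => by
    haveI : CochainComplex.IsStrictlyGE (C'.obj x) a :=
      inferInstanceAs (CochainComplex.IsStrictlyGE ((C.obj x).truncGE a) a)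
    exact (DerivedCategory.isGE_Q_obj_iff _ a).2 inferInstance
  have hH : ∀ i, PreservesColimitsOfShape J (DerivedCategory.Q ⋙ DerivedCategory.homologyFunctor X.Modules i) := fun i => by
    haveI := FiltDerived.preservesColimitsOfShape_homologyFunctor (J := J) (A := X.Modules) (ComplexShape.up ℤ) i
    exact preservesColimitsOfShape_of_natIso (DerivedCategory.homologyFunctorFactors X.Modules i).symm
  have hτ : ∀ x i, a ≤ i →
      IsIso ((DerivedCategory.Q ⋙ DerivedCategory.homologyFunctor X.Modules i).map (τ.app x)) := fun x i hi => by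
    refine (NatIso.isIso_map_iff (DerivedCategory.homologyFunctorFactors X.Modules i) (τ.app x)).2 ?_
    haveI : QuasiIsoAt ((C.obj x).πTruncGE a) i := (C.obj x).quasiIsoAt_πTruncGE a i hi
    exact (quasiIsoAt_iff_isIso_homologyMap ((C.obj x).πTruncGE a) i).1 inferInstance
  have hq' : ∀ x, DCoh.IsQCohD (DCoh.toD X (C'.obj x)) := fun x i => by
    by_cases h : a ≤ i
    · haveI := hτ x i h
      exact @QCohLib.isQuasicoherent_of_iso _ _ _
        (asIso ((DerivedCategory.Q ⋙ DerivedCategory.homologyFunctor X.Modules i).map (τ.app x))) (hC x i)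
    · exact QCohLib.isQuasicoherent_of_isZero ((DerivedCategory.isGE_iff _ a).1 (hge x) i (by omega))
  have hq : ∀ {D : J ⥤ CochainComplex X.Modules ℤ} {d : Cocone D}, IsColimit d →
      (∀ x, DCoh.IsQCohD (DCoh.toD X (D.obj x))) → DCoh.IsQCohD (DCoh.toD X d.pt) := fun {D d} hd h i => by
    haveI := hH i
    exact @QCohLib.isQuasicoherent_of_iso _ _ _
      ((isColimitOfPreserves (DerivedCategory.Q ⋙ DerivedCategory.homologyFunctor X.Modules i) hd).coconePointUniqueUpToIso
        (colimit.isColimit _)).symm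
      (QCohColim.isQuasicoherent_colimit _ fun x => h x i)
  have hiso : ∀ i, a ≤ i → IsIso ((DerivedCategory.homologyFunctor X.Modules i).map (DerivedCategory.Q.map t)) := fun i hi => by
    haveI := hH i
    haveI : ∀ x, IsIso ((DerivedCategory.Q ⋙ DerivedCategory.homologyFunctor X.Modules i).map (τ.app x)) :=
      fun x => hτ x i hi
    exact isIso_map_of_isColimit (DerivedCategory.Q ⋙ DerivedCategory.homologyFunctor X.Modules i) τ c c' t ht
      (isColimitOfPreserves _ hc) (isColimitOfPreserves _ (colimit.isColimit _))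
  let G := DerivedCategory.Q ⋙ DCoh.Rpush f ⋙ DerivedCategory.homologyFunctor S.Modules j
  haveI : IsIso (G.map t) := isIso_HD_Rpush_map f hN (DerivedCategory.Q.map t) (hq hc hC)
    (hq (colimit.isColimit _) hq') a hiso j (by omega)
  haveI : ∀ x, IsIso (G.map (τ.app x)) := fun x => isIso_HD_Rpush_map f hN (DerivedCategory.Q.map (τ.app x))
    (hC x) (hq' x) a (fun i hi => hτ x i hi) j (by omega)
  obtain ⟨h'⟩ := nonempty_isColimit_HD_Rpush f C' c' (colimit.isColimit _) a hge j
  exact nonempty_isColimit_of_isIso G τ c c' t ht h'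

/-- Sums, over any base. -/
theorem preservesColimit_HD_Rpush_qcoh {α : Type u} (K : α → DCoh.D X) (hK : ∀ t, DCoh.IsQCohD (K t)) (j : ℤ) :
    PreservesColimit (Discrete.functor K) (DCoh.Rpush f ⋙ DerivedCategory.homologyFunctor S.Modules j) := by
  refine preservesColimit_of_restrict _ fun V => ?_
  let U := f ⁻¹ᵁ V.1
  haveI : IsAffine V.1.toScheme := V.2
  haveI : PreservesFiniteLimits (Scheme.Modules.restrictFunctor V.1.ι) := CxOX.preservesFiniteLimits_restrictFunctor _
  haveI : PreservesFiniteLimits (Scheme.Modules.restrictFunctor U.ι) := CxOX.preservesFiniteLimits_restrictFunctor _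
  haveI := hasRpush (f ∣_ V.1)
  haveI := HigherDirect.hasInjectiveResolutions_modules U.toScheme
  obtain ⟨e⟩ := nonempty_Rpush_restrict_iso f V.1
  obtain ⟨N, hN⟩ := exists_Bound (f ∣_ V.1)
  let G' := DCoh.Rpush (f ∣_ V.1) ⋙ DerivedCategory.homologyFunctor V.1.toScheme.Modules j
  let i : (DCoh.Rpush f ⋙ DerivedCategory.homologyFunctor S.Modules j) ⋙ Scheme.Modules.restrictFunctor V.1.ι ≅
      DCoh.restrictD U.ι ⋙ G' :=
    Functor.associator _ _ _ ≪≫ Functor.isoWhiskerLeft _ (HDRestrictNatIso V.1.ι j).symm ≪≫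
      (Functor.associator _ _ _).symm ≪≫ Functor.isoWhiskerRight e _ ≪≫ Functor.associator _ _ _
  haveI := preservesColimit_restrictD U.ι K
  haveI : PreservesColimit (Discrete.functor K ⋙ DCoh.restrictD U.ι) G' := by
    haveI := preservesColimit_of_bound (f ∣_ V.1) hN (fun t => (DCoh.restrictD U.ι).obj (K t)) (fun t i =>
      @QCohLib.isQuasicoherent_of_iso _ _ _ (HDRestrictIso U.ι (K t) i).symm (isQCoh_restrict U.ι (hK t i))) j
    exact preservesColimit_of_iso_diagram G' (Discrete.natIso fun t => Iso.refl _ :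
      (Discrete.functor fun t => (DCoh.restrictD U.ι).obj (K t)) ≅ Discrete.functor K ⋙ DCoh.restrictD U.ι)
  exact preservesColimit_of_natIso _ i.symm

/-- Filtered colimits, over any base. -/
theorem preservesColimit_filtered_HD_Rpush_qcoh {J : Type u} [SmallCategory J] [IsFiltered J]
    (C : J ⥤ CochainComplex X.Modules ℤ) (hC : ∀ x, DCoh.IsQCohD (DCoh.toD X (C.obj x))) (j : ℤ) :
    PreservesColimit C (DerivedCategory.Q ⋙ DCoh.Rpush f ⋙ DerivedCategory.homologyFunctor S.Modules j) := by
  refine preservesColimit_of_restrict _ fun V => ?_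
  let U := f ⁻¹ᵁ V.1
  haveI : IsAffine V.1.toScheme := V.2
  haveI := isGrothendieckAbelian_modules X
  haveI : PreservesFiniteLimits (Scheme.Modules.restrictFunctor V.1.ι) := CxOX.preservesFiniteLimits_restrictFunctor _
  haveI : PreservesFiniteLimits (Scheme.Modules.restrictFunctor U.ι) := CxOX.preservesFiniteLimits_restrictFunctor _
  haveI := preservesFiniteColimits_restrict U.ι
  haveI := hasRpush (f ∣_ V.1)
  haveI := HigherDirect.hasInjectiveResolutions_modules U.toScheme
  obtain ⟨e⟩ := nonempty_Rpush_restrict_iso f V.1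
  obtain ⟨N, hN⟩ := exists_Bound (f ∣_ V.1)
  let R := (Scheme.Modules.restrictFunctor U.ι).mapHomologicalComplex (ComplexShape.up ℤ)
  let G' := DerivedCategory.Q ⋙ DCoh.Rpush (f ∣_ V.1) ⋙ DerivedCategory.homologyFunctor V.1.toScheme.Modules j
  let i : (DerivedCategory.Q ⋙ DCoh.Rpush f ⋙ DerivedCategory.homologyFunctor S.Modules j) ⋙
      Scheme.Modules.restrictFunctor V.1.ι ≅ R ⋙ G' :=
    Functor.associator _ _ _ ≪≫ Functor.isoWhiskerLeft _ (Functor.associator _ _ _ ≪≫
      Functor.isoWhiskerLeft _ (HDRestrictNatIso V.1.ι j).symm ≪≫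
      (Functor.associator _ _ _).symm ≪≫ Functor.isoWhiskerRight e _ ≪≫ Functor.associator _ _ _) ≪≫
      (Functor.associator _ _ _).symm ≪≫
      Functor.isoWhiskerRight (Scheme.Modules.restrictFunctor U.ι).mapDerivedCategoryFactors _ ≪≫
      Functor.associator _ _ _
  haveI : PreservesColimit C R := by
    haveI := (Scheme.Modules.restrictAdjunction U.ι).leftAdjoint_preservesColimits
    haveI : PreservesColimitsOfShape J R := HomologicalComplex.preservesColimitsOfShape_of_eval _ fun m =>
      show PreservesColimitsOfShape J (HomologicalComplex.eval X.Modules (ComplexShape.up ℤ) m ⋙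
        Scheme.Modules.restrictFunctor U.ι) from inferInstance
    infer_instance
  haveI : PreservesColimit (C ⋙ R) G' := preservesColimit_filtered_of_bound (f ∣_ V.1) hN (C ⋙ R) (fun x =>
    isQCohD_of_iso ((Scheme.Modules.restrictFunctor U.ι).mapDerivedCategoryFactors.app (C.obj x)) fun i =>
      @QCohLib.isQuasicoherent_of_iso _ _ _ (HDRestrictIso U.ι (DCoh.toD X (C.obj x)) i).symm
        (isQCoh_restrict U.ι (hC x i))) j
  exact preservesColimit_of_natIso _ i.symm

end Groth.Agent.DQCPush
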