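import Groth.Agent.DQCPush.Comp
import Groth.Agent.DQCPush.RestrInj
import Groth.Agent.HigherDirect.QCohGlobal
import Groth.Agent.DerAdj.LpullRpush
import Groth.Prelude.Def_DCoh3

/-!
# `Rf_*` commutes with restriction to opens of the base
-/

set_option autoImplicit false
set_option linter.style.haveILetI false
universe u

open CategoryTheory CategoryTheory.Limits AlgebraicGeometry

attribute [local instance] HasDerivedCategory.standard

namespace Groth.Agent.DQCPush

variable {X Y : Scheme.{u}} (f : X ⟶ Y) (V : Y.Opens)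

/-- The derived direct image exists for every morphism of schemes. -/
theorem hasRpush : DCoh.HasRpush f := by
  haveI := TriH.hasPointwiseRightDerivedFunctor_of_bijective (L := DerivedCategory.Qh)
    (W := HomotopyCategory.quasiIso X.Modules (ComplexShape.up ℤ))
    (TriH.exists_kInjective_homotopy (DerAdj.modules_hKinj X)) (DCoh.pushKh f)
  infer_instance

theorem preservesFiniteColimits_restrict {U : Scheme.{u}} (j : U ⟶ X) [IsOpenImmersion j] :
    PreservesFiniteColimits (Scheme.Modules.restrictFunctor j) := by
  haveI := (Scheme.Modules.restrictAdjunction j).leftAdjoint_preservesColimits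
  infer_instance

theorem nonempty_Rpush_restrict_iso [DCoh.HasRpush f] [DCoh.HasRpush (f ∣_ V)]
    [PreservesFiniteLimits (Scheme.Modules.restrictFunctor V.ι)]
    [PreservesFiniteLimits (Scheme.Modules.restrictFunctor (f ⁻¹ᵁ V).ι)] :
    Nonempty (DCoh.Rpush f ⋙ DCoh.restrictD V.ι ≅ DCoh.restrictD (f ⁻¹ᵁ V).ι ⋙ DCoh.Rpush (f ∣_ V)) := by
  haveI := preservesFiniteColimits_restrict V.ι
  haveI := preservesFiniteColimits_restrict (f ⁻¹ᵁ V).ι
  obtain ⟨φ⟩ := HigherDirect.nonempty_push_restrict_iso f V
  exact nonempty_RF_comp_exact_iso (Scheme.Modules.pushforward f) (Scheme.Modules.restrictFunctor V.ι)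
    (Scheme.Modules.restrictFunctor (f ⁻¹ᵁ V).ι) (Scheme.Modules.pushforward (f ∣_ V)) φ
    (DerAdj.modules_hKinj X) (DerAdj.modules_hKinj _) (fun I hI => by
      haveI := hI
      exact isKInjective_restrict (f ⁻¹ᵁ V) I)

/-- Cohomology sheaves commute with restriction. -/
noncomputable def HDRestrictIso {U : Scheme.{u}} (j : U ⟶ X) [IsOpenImmersion j]
    [PreservesFiniteLimits (Scheme.Modules.restrictFunctor j)] (K : DCoh.D X) (i : ℤ) :
    DCoh.HD ((DCoh.restrictD j).obj K) i ≅ (Scheme.Modules.restrictFunctor j).obj (DCoh.HD K i) :=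
  haveI := preservesFiniteColimits_restrict j
  let e := DerivedCategory.Q.objObjPreimageIso K
  (DerivedCategory.homologyFunctor U.Modules i).mapIso
      (((Scheme.Modules.restrictFunctor j).mapDerivedCategory.mapIso e).symm ≪≫
        (Scheme.Modules.restrictFunctor j).mapDerivedCategoryFactors.app _) ≪≫
    (DerivedCategory.homologyFunctorFactors U.Modules i).app _ ≪≫
    ShortComplex.mapHomologyIso ((DerivedCategory.Q.objPreimage K).sc i) (Scheme.Modules.restrictFunctor j) ≪≫
    (Scheme.Modules.restrictFunctor j).mapIso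
      (((DerivedCategory.homologyFunctorFactors X.Modules i).app _).symm ≪≫
        (DerivedCategory.homologyFunctor X.Modules i).mapIso e)

theorem isQCoh_restrict {U : Scheme.{u}} (j : U ⟶ X) [IsOpenImmersion j] {M : X.Modules} (hM : Coh.IsQCoh M) :
    Coh.IsQCoh ((Scheme.Modules.restrictFunctor j).obj M) := by
  haveI : M.IsQuasicoherent := hM
  exact inferInstanceAs ((M.restrict j).IsQuasicoherent)

end Groth.Agent.DQCPush
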