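import Groth.Agent.FiltDerived.Main
import Groth.Agent.SpecColim.Scheme
import Groth.Agent.DQCPush.Restrict
import Groth.Agent.TriH.DerivedCoproducts

/-!
# `Rf_*` and filtered colimits or direct sums of uniformly bounded below complexes
-/

set_option autoImplicit false
set_option linter.style.haveILetI false
set_option backward.isDefEq.respectTransparency false
set_option backward.isDefEq.respectTransparency.types false
universe u

open CategoryTheory CategoryTheory.Limits AlgebraicGeometry

attribute [local instance] HasDerivedCategory.standard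

namespace Groth.Agent.DQCPush

variable {X S : Scheme.{u}} (f : X ⟶ S)

theorem isGrothendieckAbelian_modules (X : Scheme.{u}) : IsGrothendieckAbelian.{u} X.Modules :=
  SpecColim.isGrothendieckAbelian_modules X

/-- Cohomology commutes with direct sums in `D(O_X)`. -/
theorem preservesColimit_HD {α : Type u} (K : α → DCoh.D X) (i : ℤ) :
    PreservesColimit (Discrete.functor K) (DerivedCategory.homologyFunctor X.Modules i) := by
  haveI := isGrothendieckAbelian_modules X
  let L : α → CochainComplex X.Modules ℤ := fun t => DerivedCategory.Q.objPreimage (K t)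
  obtain ⟨hc⟩ := TriH.isColimit_Q_cofan (DerAdj.modules_hKinj X) L
  haveI : PreservesColimit (Discrete.functor fun t => DerivedCategory.Q.obj (L t))
      (DerivedCategory.homologyFunctor X.Modules i) := by
    refine preservesColimit_of_preserves_colimit_cocone hc ((isColimitMapCoconeCofanMkEquiv _ _ _).symm ?_)
    haveI := FiltDerived.preservesColimitsOfShape_homologyFunctor (J := Discrete α) (A := X.Modules)
      (ComplexShape.up ℤ) i
    refine IsColimit.equivOfNatIsoOfIso
      (Discrete.natIso fun t => ((DerivedCategory.homologyFunctorFactors X.Modules i).app (L t.as)).symm :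
        Discrete.functor (fun t => (HomologicalComplex.homologyFunctor X.Modules (ComplexShape.up ℤ) i).obj (L t)) ≅
          Discrete.functor (fun t => (DerivedCategory.homologyFunctor X.Modules i).obj (DerivedCategory.Q.obj (L t))))
      (Cofan.mk _ fun t => (HomologicalComplex.homologyFunctor X.Modules (ComplexShape.up ℤ) i).map (Sigma.ι L t))
      (Cofan.mk _ fun t => (DerivedCategory.homologyFunctor X.Modules i).map (DerivedCategory.Q.map (Sigma.ι L t)))
      (Cofan.ext ((DerivedCategory.homologyFunctorFactors X.Modules i).app (∐ L)).symm fun t => ?_)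
      (isColimitCofanMkObjOfIsColimit (HomologicalComplex.homologyFunctor X.Modules (ComplexShape.up ℤ) i) L _
        (coproductIsCoproduct L))
    show ((DerivedCategory.homologyFunctorFactors X.Modules i).hom.app (L t) ≫
      (HomologicalComplex.homologyFunctor X.Modules (ComplexShape.up ℤ) i).map (Sigma.ι L t)) ≫
        (DerivedCategory.homologyFunctorFactors X.Modules i).inv.app (∐ L) = _
    rw [← (DerivedCategory.homologyFunctorFactors X.Modules i).hom.naturality, Category.assoc, Iso.hom_inv_id_app]
    exact Category.comp_id _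
  exact preservesColimit_of_iso_diagram _
    (Discrete.natIso fun t => DerivedCategory.Q.objObjPreimageIso (K t.as) :
      (Discrete.functor fun t => DerivedCategory.Q.obj (L t)) ≅ Discrete.functor K)

variable [QuasiCompact f] [QuasiSeparated f]

theorem isAcyclic_colimit_injective {J : Type u} [SmallCategory J] [IsFiltered J]
    [EnoughInjectives X.Modules] (G : J ⥤ X.Modules) (c : Cocone G) (hc : IsColimit c)
    (hG : ∀ j, Injective (G.obj j)) : TriH.IsAcyclicObj (Scheme.Modules.pushforward f) c.pt := by
  rintro (_ | n) h
  · exact absurd h (lt_irrefl 0)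
  · exact SpecColim.isZero_rpush_colimit f J hc hG n

theorem isAcyclic_coproduct_injective {α : Type u} [EnoughInjectives X.Modules]
    (G : Discrete α ⥤ X.Modules) (c : Cocone G) (hc : IsColimit c)
    (hG : ∀ j, Injective (G.obj j)) : TriH.IsAcyclicObj (Scheme.Modules.pushforward f) c.pt := by
  haveI := isGrothendieckAbelian_modules X
  rintro (_ | n) h
  · exact absurd h (lt_irrefl 0)
  · refine (SpecColim.isZero_rpush_coproduct f (fun a => G.obj ⟨a⟩) (fun a => hG ⟨a⟩) n).of_iso
      ((Coh.Rpush f (n + 1)).mapIso ?_)
    exact hc.coconePointsIsoOfNatIso (coproductIsCoproduct fun a => G.obj ⟨a⟩) (Discrete.natIso fun a => Iso.refl _)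

/-- `Hⁱ(Rf_* -)` commutes with filtered colimits of uniformly bounded below complexes. -/
theorem nonempty_isColimit_HD_Rpush [DCoh.HasRpush f] {J : Type u} [SmallCategory J] [IsFiltered J]
    (C : J ⥤ CochainComplex X.Modules ℤ) (c : Cocone C) (hc : IsColimit c) (n : ℤ)
    (hC : ∀ j : J, (DCoh.toD X (C.obj j)).IsGE n) (i : ℤ) :
    Nonempty (IsColimit ((DerivedCategory.Q ⋙ DCoh.Rpush f ⋙
      DerivedCategory.homologyFunctor S.Modules i).mapCocone c)) := by
  haveI := isGrothendieckAbelian_modules X
  haveI := isGrothendieckAbelian_modules S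
  haveI := HigherDirect.preservesFiniteLimits_pushforward f
  haveI := SpecColim.preservesColimitsOfShape_pushforward f J
  exact FiltDerived.nonempty_isColimit_homology_RF (Scheme.Modules.pushforward f) (DerAdj.modules_hKinj X)
    (fun G c hc hG => isAcyclic_colimit_injective f G c hc hG) C c hc n
    (fun j => (DerivedCategory.isGE_Q_obj_iff _ n).1 (hC j)) i

/-- Termwise computation of `Rf_*` passes to filtered colimits of uniformly bounded below complexes. -/
theorem isIso_unit_colimit [DCoh.HasRpush f] {J : Type u} [SmallCategory J] [IsFiltered J]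
    (C : J ⥤ CochainComplex X.Modules ℤ) (c : Cocone C) (hc : IsColimit c) (n : ℤ)
    (hC : ∀ j : J, (DCoh.toD X (C.obj j)).IsGE n)
    (hac : ∀ j : J, IsIso (((DCoh.pushKh f).totalRightDerivedUnit DerivedCategory.Qh
      (HomotopyCategory.quasiIso X.Modules (ComplexShape.up ℤ))).app
      ((HomotopyCategory.quotient X.Modules (ComplexShape.up ℤ)).obj (C.obj j)))) :
    IsIso (((DCoh.pushKh f).totalRightDerivedUnit DerivedCategory.Qh
      (HomotopyCategory.quasiIso X.Modules (ComplexShape.up ℤ))).app
      ((HomotopyCategory.quotient X.Modules (ComplexShape.up ℤ)).obj c.pt)) := by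
  haveI := isGrothendieckAbelian_modules X
  haveI := isGrothendieckAbelian_modules S
  haveI := HigherDirect.preservesFiniteLimits_pushforward f
  haveI := SpecColim.preservesColimitsOfShape_pushforward f J
  exact FiltDerived.isIso_unit_colimit (Scheme.Modules.pushforward f) (DerAdj.modules_hKinj X)
    (fun G c hc hG => isAcyclic_colimit_injective f G c hc hG) C c hc n
    (fun j => (DerivedCategory.isGE_Q_obj_iff _ n).1 (hC j)) hac

/-- `Hⁱ(Rf_* -)` commutes with direct sums of uniformly bounded below objects. -/
theorem preservesColimit_HD_Rpush [DCoh.HasRpush f] {α : Type u} (K : α → DCoh.D X) (n : ℤ)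
    (hK : ∀ t, (K t).IsGE n) (i : ℤ) :
    PreservesColimit (Discrete.functor K) (DCoh.Rpush f ⋙ DerivedCategory.homologyFunctor S.Modules i) := by
  haveI := isGrothendieckAbelian_modules X
  haveI := isGrothendieckAbelian_modules S
  haveI := HigherDirect.preservesFiniteLimits_pushforward f
  haveI := SpecColim.preservesCoproducts_pushforward f α
  let L : α → CochainComplex X.Modules ℤ := fun t => DerivedCategory.Q.objPreimage (K t)
  obtain ⟨hc⟩ := TriH.isColimit_Q_cofan (DerAdj.modules_hKinj X) L
  haveI : PreservesColimit (Discrete.functor fun t => DerivedCategory.Q.obj (L t))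
      (DCoh.Rpush f ⋙ DerivedCategory.homologyFunctor S.Modules i) := by
    obtain ⟨h⟩ := FiltDerived.nonempty_isColimit_homology_RF (Scheme.Modules.pushforward f) (DerAdj.modules_hKinj X)
      (fun G c hc hG => isAcyclic_coproduct_injective f G c hc hG) (Discrete.functor L) _ (coproductIsCoproduct L) n
      (fun t => (DerivedCategory.isGE_Q_obj_iff _ n).1
        (haveI := hK t.as; DerivedCategory.TStructure.t.isGE_of_iso (DerivedCategory.Q.objObjPreimageIso (K t.as)).symm n)) i
    refine preservesColimit_of_preserves_colimit_cocone hc ((isColimitMapCoconeCofanMkEquiv _ _ _).symm ?_)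
    exact (isColimitMapCoconeCofanMkEquiv (DerivedCategory.Q ⋙ DCoh.Rpush f ⋙
      DerivedCategory.homologyFunctor S.Modules i) L (Sigma.ι L)) h
  exact preservesColimit_of_iso_diagram _
    (Discrete.natIso fun t => DerivedCategory.Q.objObjPreimageIso (K t.as) :
      (Discrete.functor fun t => DerivedCategory.Q.obj (L t)) ≅ Discrete.functor K)

omit [QuasiCompact f] [QuasiSeparated f] in
/-- The criterion for `∐ Rf_* K ⟶ Rf_* ∐ K` to be an isomorphism. -/
theorem isIso_sigmaDesc [DCoh.HasRpush f] {α : Type u} (K : α → DCoh.D X) [HasCoproduct K]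
    [HasCoproduct fun t => (DCoh.Rpush f).obj (K t)]
    (h : ∀ i, PreservesColimit (Discrete.functor K) (DCoh.Rpush f ⋙ DerivedCategory.homologyFunctor S.Modules i)) :
    IsIso (Sigma.desc (fun t => (DCoh.Rpush f).map (Sigma.ι K t))) := by
  rw [DerivedCategory.isIso_iff]
  intro i
  haveI := h i
  haveI := preservesColimit_HD (fun t => (DCoh.Rpush f).obj (K t)) i
  let H := DerivedCategory.homologyFunctor S.Modules i
  let c1 := isColimitCofanMkObjOfIsColimit H (fun t => (DCoh.Rpush f).obj (K t)) _
    (coproductIsCoproduct fun t => (DCoh.Rpush f).obj (K t))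
  let c2 := isColimitCofanMkObjOfIsColimit (DCoh.Rpush f ⋙ H) K _ (coproductIsCoproduct K)
  let e := c1.coconePointUniqueUpToIso c2
  have he : H.map (Sigma.desc (fun t => (DCoh.Rpush f).map (Sigma.ι K t))) = e.hom := by
    refine Cofan.IsColimit.hom_ext c1 _ _ fun t => ?_
    refine Eq.trans ?_ (c1.comp_coconePointUniqueUpToIso_hom c2 ⟨t⟩).symm
    exact (H.map_comp _ _).symm.trans (congrArg H.map (Sigma.ι_desc _ _))
  show IsIso (H.map _)
  rw [he]
  infer_instance

/-- `Rf_*` commutes with uniformly bounded below direct sums. -/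
theorem isIso_sigmaDesc_of_isGE [DCoh.HasRpush f] {α : Type u} (K : α → DCoh.D X) (n : ℤ) (hK : ∀ t, (K t).IsGE n)
    [HasCoproduct K] [HasCoproduct fun t => (DCoh.Rpush f).obj (K t)] :
    IsIso (Sigma.desc (fun t => (DCoh.Rpush f).map (Sigma.ι K t))) :=
  isIso_sigmaDesc f K (preservesColimit_HD_Rpush f K n hK)

end Groth.Agent.DQCPush
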