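import Groth.Agent.DQCPush.QCohD
import Groth.Agent.DQCPush.Colim
import Groth.Agent.QCohColim.Basic

/-!
# `Hʲ(Rf_* E)` only depends on a window of degrees for quasi-coherent cohomology
-/

set_option autoImplicit false
set_option linter.style.haveILetI false
set_option backward.isDefEq.respectTransparency false
set_option backward.isDefEq.respectTransparency.types false
universe u

open CategoryTheory CategoryTheory.Limits CategoryTheory.Pretriangulated AlgebraicGeometry DerivedCategory ZeroObject

attribute [local instance] HasDerivedCategory.standard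

namespace Groth.Agent.DQCPush

open RlimLib

variable {X S : Scheme.{u}} (f : X ⟶ S)

/-- The bound hypothesis on higher direct images. -/
abbrev Bound [HasInjectiveResolutions X.Modules] (N : ℤ) : Prop :=
  ∀ M : X.Modules, Coh.IsQCoh M → ∀ p : ℕ, N < (p : ℤ) → IsZero ((Coh.Rpush f p).obj M)

theorem exists_Bound [QuasiCompact f] [QuasiSeparated f] [CompactSpace S] [HasInjectiveResolutions X.Modules] :
    ∃ N : ℕ, Bound f N := by
  obtain ⟨N, hN⟩ := HigherDirect.exists_bound_rpushAb f
  exact ⟨N, fun M hM p hp => HigherDirect.isZero_rpush_of_isZero_rpushAb f M p (hN M hM p (by omega))⟩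

theorem bound_zero_of_isAffineHom [IsAffineHom f] [HasInjectiveResolutions X.Modules] : Bound f 0 := by
  intro M hM p hp
  obtain ⟨p, rfl⟩ : ∃ q, p = q + 1 := ⟨p - 1, by omega⟩
  haveI : M.IsQuasicoherent := hM
  exact HigherDirect.isZero_rpush_of_isZero_rpushAb f M (p + 1) (HigherDirect.isZero_rpushAb_of_isAffineHom f M p)

theorem isQCohD_of_iso {K L : DCoh.D X} (e : K ≅ L) (hK : DCoh.IsQCohD K) : DCoh.IsQCohD L := fun i =>
  @QCohLib.isQuasicoherent_of_iso _ _ _ ((homologyFunctor X.Modules i).mapIso e) (hK i)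

theorem isQCohD_tge (K : DCoh.D X) (hK : DCoh.IsQCohD K) (a : ℤ) : DCoh.IsQCohD (tge a K) := fun i => by
  by_cases h : a ≤ i
  · haveI := isIso_homology_tgeπ K h
    exact @QCohLib.isQuasicoherent_of_iso _ _ _ (asIso ((homologyFunctor X.Modules i).map (tgeπ a K))) (hK i)
  · exact QCohLib.isQuasicoherent_of_isZero (isZero_homology_tge K (by omega))

theorem isGE_tge (K : DCoh.D X) (a : ℤ) : (tge a K).IsGE a := by
  rw [DerivedCategory.isGE_iff]
  exact fun k hk => isZero_homology_tge K hk

theorem isQCoh_obj₃ {T : Triangle (DCoh.D X)} (hT : T ∈ distTriang _) (h₁ : DCoh.IsQCohD T.obj₁)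
    (h₂ : DCoh.IsQCohD T.obj₂) : DCoh.IsQCohD T.obj₃ := fun i =>
  HigherDirect.isQCoh_mid _ _ _ _ _ _ _ (HomologySequence.exact₂ _ hT i)
    (HomologySequence.exact₃ _ hT i (i + 1) rfl) (HomologySequence.exact₁ _ hT i (i + 1) rfl)
    (h₁ i) (h₂ i) (h₁ (i + 1)) (h₂ (i + 1))

variable [QuasiCompact f] [QuasiSeparated f] [DCoh.HasRpush f] [HasInjectiveResolutions X.Modules]

/-- `Rf_*` of a complex with quasi-coherent cohomology in degrees `≤ b` lives in degrees `≤ b + N`. -/
theorem isZero_HD_Rpush_high {N : ℤ} (hN : Bound f N) (E : DCoh.D X) (hE : DCoh.IsQCohD E) (b : ℤ) [E.IsLE b]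
    (j : ℤ) (hj : b + N < j) : IsZero (DCoh.HD ((DCoh.Rpush f).obj E) j) := by
  let n := (N - j).toNat
  haveI := isIso_HD_Rpush_tge f N hN E hE n j (by omega)
  refine IsZero.of_iso ?_ (asIso ((homologyFunctor S.Modules j).map ((DCoh.Rpush f).map (tgeπ (-(n : ℤ)) E))))
  suffices key : ∀ (k : ℕ) (c : ℤ), b < c + k → IsZero (DCoh.HD ((DCoh.Rpush f).obj (tge c E)) j) from
    key (b + (n : ℤ) + 1).toNat (-(n : ℤ)) (by omega)
  intro k
  induction k with
  | zero =>
    intro c hc
    haveI := preservesZeroMorphisms_RFun (Scheme.Modules.pushforward f) (DerAdj.modules_hKinj X)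
    have : IsIso (0 : tge c E ⟶ 0) := by
      rw [DerivedCategory.isIso_iff]
      intro l
      refine isIso_of_source_target_iso_zero _ (IsZero.isoZero ?_)
        ((homologyFunctor X.Modules l).map_isZero (isZero_zero _)).isoZero
      by_cases hl : c ≤ l
      · haveI := isIso_homology_tgeπ E hl
        exact ((DerivedCategory.isLE_iff E b).1 inferInstance l (by omega)).of_iso
          (asIso ((homologyFunctor X.Modules l).map (tgeπ c E))).symm
      · exact isZero_homology_tge E (by omega)
    exact (homologyFunctor S.Modules j).map_isZero ((DerAdj.RFun (Scheme.Modules.pushforward f)).map_isZero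
      ((isZero_zero _).of_iso (asIso (0 : tge c E ⟶ 0))))
  | succ k ih =>
    intro c hc
    by_cases hcb : b < c + k
    · exact ih c hcb
    obtain ⟨F, φ, δ, hT, ⟨e⟩⟩ := exists_layer E c (c + 1) rfl
    obtain ⟨γ, hγ⟩ := DerAdj.exists_distinguished_map (Scheme.Modules.pushforward f) (DerAdj.modules_hKinj X) _ hT
    refine (HomologySequence.exact₂ _ hγ j).isZero_X₂ (IsZero.eq_of_src ?_ _ _)
      ((ih (c + 1) (by omega)).eq_of_tgt _ _)
    exact isZero_HD_Rpush_single f F c j fun p hp =>
      (hN _ (hE c) p (by omega)).of_iso ((Coh.Rpush f p).mapIso e)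

/-- A map inducing isomorphisms in degrees `≥ a` induces isomorphisms on `Hʲ(Rf_* -)` for `j > a + N`. -/
theorem isIso_HD_Rpush_map {N : ℤ} (hN : Bound f N) {E E' : DCoh.D X} (φ : E ⟶ E') (hE : DCoh.IsQCohD E)
    (hE' : DCoh.IsQCohD E') (a : ℤ) (h : ∀ i, a ≤ i → IsIso ((homologyFunctor X.Modules i).map φ))
    (j : ℤ) (hj : a + N < j) : IsIso ((homologyFunctor S.Modules j).map ((DCoh.Rpush f).map φ)) := by
  obtain ⟨C, g, d, hT⟩ := distinguished_cocone_triangle φ
  have hC : DCoh.IsQCohD C := isQCoh_obj₃ hT hE hE'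
  haveI : C.IsLE (a - 1) := by
    rw [DerivedCategory.isLE_iff]
    intro i hi
    haveI := h i (by omega)
    haveI := h (i + 1) (by omega)
    refine (HomologySequence.exact₃ _ hT i (i + 1) rfl).isZero_X₂ ?_ ?_
    · exact (cancel_epi ((homologyFunctor X.Modules i).map φ)).1
        ((((homologyFunctor X.Modules i).map_comp _ _).symm.trans ((congrArg _ (comp_distTriang_mor_zero₁₂ _ hT)).trans
          (Functor.map_zero _ _ _))).trans comp_zero.symm)
    · exact (cancel_mono ((homologyFunctor X.Modules (i + 1)).map φ)).1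
        ((HomologySequence.δ_comp _ hT i (i + 1) rfl).trans zero_comp.symm)
  obtain ⟨γ, hγ⟩ := DerAdj.exists_distinguished_map (Scheme.Modules.pushforward f) (DerAdj.modules_hKinj X) _ hT
  haveI hm := (HomologySequence.mono_homologyMap_mor₁_iff _ hγ (j - 1) j (by omega)).2
    ((isZero_HD_Rpush_high f hN C hC (a - 1) (j - 1) (by omega)).eq_of_src _ _)
  haveI he := (HomologySequence.epi_homologyMap_mor₁_iff _ hγ j).2
    ((isZero_HD_Rpush_high f hN C hC (a - 1) j (by omega)).eq_of_tgt _ _)
  exact @isIso_of_mono_of_epi _ _ _ _ _ _ hm he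

end Groth.Agent.DQCPush
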