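import Groth.Agent.DQCPush.MV

/-!
# Mayer–Vietoris triangles for derived functors
-/

set_option autoImplicit false
set_option linter.style.haveILetI false
set_option backward.isDefEq.respectTransparency false
set_option backward.isDefEq.respectTransparency.types false
universe u

open CategoryTheory CategoryTheory.Limits AlgebraicGeometry

attribute [local instance] HasDerivedCategory.standard

namespace Groth.Agent.DQCPush

variable {X : Scheme.{u}}

theorem exists_injective_rep (E : DCoh.D X) : ∃ I : CochainComplex X.Modules ℤ,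
    I.IsKInjective ∧ (∀ n, Injective (I.X n)) ∧ Nonempty (DerivedCategory.Q.obj I ≅ E) := by
  haveI : IsGrothendieckAbelian.{u} X.Modules :=
    ModGroth.sheaf_isGrothendieckAbelian (ModSite.ringSh X.sheaf)
  obtain ⟨I, φ, h1, h2, -, h3⟩ := TriH.exists_kInjective_resolution (DerivedCategory.Q.objPreimage E)
  exact ⟨I, h1, h3, ⟨(asIso (DerivedCategory.Q.map φ)).symm ≪≫ DerivedCategory.Q.objObjPreimageIso E⟩⟩

/-- Derived functors of restrictions, computed with a K-injective representative. -/
theorem nonempty_RF_restrict_iso {B : Type*} [Category* B] [Abelian B] [HasDerivedCategory B] (W : X.Opens)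
    (G : (W : Scheme.{u}).Modules ⥤ B) [G.Additive]
    [(G.mapHomotopyCategory (ComplexShape.up ℤ) ⋙ DerivedCategory.Qh).HasRightDerivedFunctor
      (HomotopyCategory.quasiIso (W : Scheme.{u}).Modules (ComplexShape.up ℤ))]
    [PreservesFiniteLimits (Scheme.Modules.restrictFunctor W.ι)] {E : DCoh.D X}
    (I : CochainComplex X.Modules ℤ) [I.IsKInjective] (e : DerivedCategory.Q.obj I ≅ E) :
    Nonempty (DerivedCategory.Q.obj ((G.mapHomologicalComplex _).obj ((DCoh.restrictCx W).obj I)) ≅
      (DerAdj.RFun G).obj ((DCoh.restrictD W.ι).obj E)) := by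
  haveI := preservesFiniteColimits_restrict W.ι
  haveI := isKInjective_restrict W I
  obtain ⟨e'⟩ := DerAdj.nonempty_RF_iso G (DerAdj.modules_hKinj _) ((DCoh.restrictCx W).obj I)
  exact ⟨e'.symm ≪≫ (DerAdj.RFun G).mapIso
    (((Scheme.Modules.restrictFunctor W.ι).mapDerivedCategoryFactors.app I).symm ≪≫
      (Scheme.Modules.restrictFunctor W.ι).mapDerivedCategory.mapIso e)⟩

end Groth.Agent.DQCPush
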