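import Groth.Agent.DerAdj.LeftRes

/-!
# A right adjoint of a functor with good resolutions maps K-injectives to objects orthogonal to good ones
-/

set_option autoImplicit false
set_option linter.style.haveILetI false

universe v w v' w'

open CategoryTheory CategoryTheory.Limits

attribute [local instance] HasDerivedCategory.standard

namespace Groth.Agent.DQCPush

variable {B : Type w} [Category.{v} B] [Abelian B] {A : Type w'} [Category.{v'} A] [Abelian A]
  {G : B ⥤ A} {F : A ⥤ B} [G.Additive] [F.Additive]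
  {r : KFlat.FunctorialRes (HomologicalComplex.quasiIso B (ComplexShape.up ℤ))}

/-- From a good complex, maps in the homotopy category into the image of a K-injective complex under the right
adjoint are the maps in the derived category. -/
theorem Qh_bijective_of_good (adj : G ⊣ F) (hG : ModGroth.DerivedLeft.GoodInverts G r)
    (I : CochainComplex A ℤ) [I.IsKInjective] (P : CochainComplex B ℤ) (hP : r.good P) :
    Function.Bijective (DerivedCategory.Qh.map :
      ((HomotopyCategory.quotient B (ComplexShape.up ℤ)).obj P ⟶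
        (F.mapHomotopyCategory (ComplexShape.up ℤ)).obj
          ((HomotopyCategory.quotient A (ComplexShape.up ℤ)).obj I)) → _) := by
  let a := DerAdj.mapHomotopyCategoryAdj adj
  let q := HomotopyCategory.quotient B (ComplexShape.up ℤ)
  let WB := HomotopyCategory.quasiIso B (ComplexShape.up ℤ)
  have hbij : ∀ (P₁ P₂ : CochainComplex B ℤ) (t : P₁ ⟶ P₂), r.good P₁ → r.good P₂ → QuasiIso t →
      Function.Bijective (fun g : q.obj P₂ ⟶ (F.mapHomotopyCategory (ComplexShape.up ℤ)).obj
        ((HomotopyCategory.quotient A (ComplexShape.up ℤ)).obj I) => q.map t ≫ g) := by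
    intro P₁ P₂ t h₁ h₂ ht
    have hGt : QuasiIso ((G.mapHomologicalComplex (ComplexShape.up ℤ)).map t) := hG t h₁ h₂ ht
    have hQ : ∀ T, Function.Bijective (DerivedCategory.Qh.map :
        (T ⟶ (HomotopyCategory.quotient A (ComplexShape.up ℤ)).obj I) → _) :=
      fun T => TriH.Qh_bijective_of_isKInjective I T
    haveI : IsIso (DerivedCategory.Qh.map ((G.mapHomotopyCategory (ComplexShape.up ℤ)).map (q.map t))) :=
      (NatIso.isIso_map_iff ((Functor.associator _ _ _).symm ≪≫
        Functor.isoWhiskerRight (G.mapHomotopyCategoryFactors (ComplexShape.up ℤ)) _ ≪≫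
        Functor.associator _ _ _ ≪≫ Functor.isoWhiskerLeft _ (DerivedCategory.quotientCompQhIso A) :
        q ⋙ G.mapHomotopyCategory (ComplexShape.up ℤ) ⋙ DerivedCategory.Qh ≅
          G.mapHomologicalComplex (ComplexShape.up ℤ) ⋙ DerivedCategory.Q) t).2
        (inferInstanceAs (IsIso (DerivedCategory.Q.map ((G.mapHomologicalComplex (ComplexShape.up ℤ)).map t))))
    have key : Function.Bijective (fun g : (G.mapHomotopyCategory (ComplexShape.up ℤ)).obj (q.obj P₂) ⟶
        (HomotopyCategory.quotient A (ComplexShape.up ℤ)).obj I =>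
        (G.mapHomotopyCategory (ComplexShape.up ℤ)).map (q.map t) ≫ g) := by
      refine ⟨fun g₁ g₂ h => (hQ _).1 ?_, fun g' => ?_⟩
      · rw [← cancel_epi (DerivedCategory.Qh.map ((G.mapHomotopyCategory (ComplexShape.up ℤ)).map (q.map t))),
          ← Functor.map_comp, ← Functor.map_comp]
        exact congrArg _ h
      · obtain ⟨g, hg⟩ := (hQ _).2 (inv (DerivedCategory.Qh.map
          ((G.mapHomotopyCategory (ComplexShape.up ℤ)).map (q.map t))) ≫ DerivedCategory.Qh.map g')
        exact ⟨g, (hQ _).1 (by rw [Functor.map_comp, hg, IsIso.hom_inv_id_assoc])⟩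
    refine ⟨fun g₁ g₂ h => (a.homEquiv _ _).symm.injective (key.1 ?_), fun g' => ?_⟩
    · dsimp only
      rw [← a.homEquiv_naturality_left_symm, ← a.homEquiv_naturality_left_symm]
      exact congrArg _ h
    · obtain ⟨g, hg⟩ := key.2 ((a.homEquiv _ _).symm g')
      refine ⟨a.homEquiv _ _ g, ?_⟩
      dsimp only at hg ⊢
      rw [← a.homEquiv_naturality_left, hg, Equiv.apply_symm_apply]
  have hres : ∀ {T : HomotopyCategory B (ComplexShape.up ℤ)} (t : T ⟶ q.obj P), WB t →
      ∃ (P' : CochainComplex B ℤ) (w : q.obj P' ⟶ T) (t' : P' ⟶ P),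
        r.good P' ∧ QuasiIso t' ∧ w ≫ t = q.map t' := by
    intro T t ht
    obtain ⟨T, rfl⟩ := HomotopyCategory.quotient_obj_surjective T
    obtain ⟨t, rfl⟩ := q.map_surjective t
    haveI : QuasiIso t := (HomologicalComplex.mem_quasiIso_iff _).1
      ((HomotopyCategory.quotient_map_mem_quasiIso_iff t).1 ht)
    haveI : QuasiIso (r.q.app T) := (HomologicalComplex.mem_quasiIso_iff _).1 (r.q_mem T)
    exact ⟨r.R.obj T, q.map (r.q.app T), r.q.app T ≫ t, r.good_R T, inferInstance, (q.map_comp _ _).symm⟩
  refine ⟨fun g₁ g₂ h => ?_, fun φ => ?_⟩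
  · obtain ⟨T, t, ht, e⟩ := (MorphismProperty.map_eq_iff_precomp DerivedCategory.Qh WB g₁ g₂).1 h
    obtain ⟨P', w, t', hP', ht', e'⟩ := hres t ht
    apply (hbij P' P t' hP' hP ht').1
    dsimp only
    rw [← e', Category.assoc, Category.assoc, e]
  · obtain ⟨ψ, hψ⟩ := Localization.exists_rightFraction DerivedCategory.Qh WB φ
    obtain ⟨P', w, t', hP', ht', e'⟩ := hres ψ.s ψ.hs
    obtain ⟨g, hg⟩ := (hbij P' P t' hP' hP ht').2 (w ≫ ψ.f)
    refine ⟨g, ?_⟩
    dsimp only at hg
    haveI : IsIso (DerivedCategory.Qh.map (q.map t')) :=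
      Localization.inverts DerivedCategory.Qh WB _ ((HomotopyCategory.quotient_map_mem_quasiIso_iff t').2
        ((HomologicalComplex.mem_quasiIso_iff _).2 ht'))
    rw [← cancel_epi (DerivedCategory.Qh.map (q.map t')), ← Functor.map_comp, hg, hψ, ← e',
      Functor.map_comp, Functor.map_comp, Category.assoc,
      MorphismProperty.RightFraction.map_s_comp_map]

end Groth.Agent.DQCPush
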