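import Groth.Agent.DQCPush.GammaD
import Groth.Agent.DQCPush.GoodOrth
import Groth.Agent.ModGroth.FinLocFree
import Groth.Agent.ModGroth.FlatSeq

/-!
# Direct images of K-injective complexes are acyclic for sections
-/

set_option autoImplicit false
set_option linter.style.haveILetI false
set_option backward.isDefEq.respectTransparency false
set_option backward.isDefEq.respectTransparency.types false
universe u

open CategoryTheory CategoryTheory.Limits AlgebraicGeometry Opposite TopologicalSpace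

attribute [local instance] HasDerivedCategory.standard

namespace Groth.Agent.DQCPush

/-- A map of short complexes of abelian groups is a quasi-isomorphism if it is bijective on classes. -/
lemma quasiIso_of_classes {S T : ShortComplex AddCommGrpCat.{u}} (φ : S ⟶ T)
    (hs : ∀ y, T.g y = 0 → ∃ x b, S.g x = 0 ∧ φ.τ₂ x = T.f b + y)
    (hi : ∀ x b, S.g x = 0 → φ.τ₂ x = T.f b → ∃ a, S.f a = x) : ShortComplex.QuasiIso φ := by
  have hex : ∀ (U : ShortComplex AddCommGrpCat.{u}) (z : U.cycles), U.homologyπ z = 0 ↔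
      ∃ a, U.f a = U.iCycles z := by
    intro U z
    have hinj := (AddCommGrpCat.mono_iff_injective U.iCycles).1 inferInstance
    have he := (ShortComplex.ab_exact_iff _).1
      (ShortComplex.exact_of_g_is_cokernel (ShortComplex.mk _ _ U.toCycles_comp_homologyπ) U.homologyIsCokernel)
    refine ⟨fun h => ?_, fun ⟨a, ha⟩ => ?_⟩
    · obtain ⟨a, ha⟩ := he z h
      exact ⟨a, (ConcreteCategory.congr_hom U.toCycles_i a).symm.trans (congrArg _ ha)⟩
    · obtain rfl : U.toCycles a = z := hinj ((ConcreteCategory.congr_hom U.toCycles_i a).trans ha)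
      exact ConcreteCategory.congr_hom U.toCycles_comp_homologyπ a
  have hz : ∀ (U : ShortComplex AddCommGrpCat.{u}) (z : U.cycles), U.g (U.iCycles z) = 0 := fun U z =>
    ConcreteCategory.congr_hom U.iCycles_g z
  have hn : ∀ z, T.iCycles (ShortComplex.cyclesMap φ z) = φ.τ₂ (S.iCycles z) := fun z =>
    ConcreteCategory.congr_hom (ShortComplex.cyclesMap_i φ) z
  have hπ : ∀ z, ShortComplex.homologyMap φ (S.homologyπ z) = T.homologyπ (ShortComplex.cyclesMap φ z) :=
    fun z => ConcreteCategory.congr_hom (ShortComplex.homologyπ_naturality φ) z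
  rw [ShortComplex.quasiIso_iff, ConcreteCategory.isIso_iff_bijective]
  constructor
  · rw [injective_iff_map_eq_zero]
    intro h hh
    obtain ⟨z, rfl⟩ := (AddCommGrpCat.epi_iff_surjective S.homologyπ).1 inferInstance h
    rw [hπ, hex] at hh
    obtain ⟨b, hb⟩ := hh
    exact (hex S z).2 (hi _ b (hz S z) ((hn z).symm.trans hb.symm))
  · intro h
    obtain ⟨w, rfl⟩ := (AddCommGrpCat.epi_iff_surjective T.homologyπ).1 inferInstance h
    obtain ⟨x, b, hx, hxb⟩ := hs _ (hz T w)
    let z := S.abCyclesIso.inv ⟨x, hx⟩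
    refine ⟨S.homologyπ z, ?_⟩
    rw [hπ, ← sub_eq_zero, ← map_sub, hex]
    refine ⟨b, ?_⟩
    rw [map_sub, hn, S.abCyclesIso_inv_apply_iCycles, hxb, add_sub_cancel_right]

variable {Y : Scheme.{u}}

/-- The unit module. -/
noncomputable abbrev oMod (Y : Scheme.{u}) : Y.Modules := SheafOfModules.unit Y.ringCatSheaf

/-- The global section of a map out of the unit module. -/
noncomputable def ev {M : Y.Modules} (g : oMod Y ⟶ M) : Γ(M, ⊤) :=
  (SheafOfModules.unitHomEquiv M g).val (op ⊤)

lemma ev_comp {M N : Y.Modules} (g : oMod Y ⟶ M) (φ : M ⟶ N) : ev (g ≫ φ) = φ.app ⊤ (ev g) :=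
  congrArg (fun s => s.val (op ⊤)) (SheafOfModules.unitHomEquiv_comp_apply g φ)

lemma ev_zero {M : Y.Modules} : ev (0 : oMod Y ⟶ M) = 0 := rfl

lemma ev_bijective (M : Y.Modules) : Function.Bijective (ev (M := M)) := by
  refine ⟨fun g₁ g₂ h => (SheafOfModules.unitHomEquiv M).injective (PresheafOfModules.sections_ext _ _ fun T => ?_),
    fun c => ?_⟩
  · have h₁ := (SheafOfModules.unitHomEquiv M g₁).property (homOfLE (le_top : T.unop ≤ ⊤)).op
    have h₂ := (SheafOfModules.unitHomEquiv M g₂).property (homOfLE (le_top : T.unop ≤ ⊤)).op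
    exact h₁.symm.trans ((congrArg _ h).trans h₂)
  · refine ⟨(SheafOfModules.unitHomEquiv M).symm (PresheafOfModules.sectionsMk
      (fun T => M.val.map (homOfLE (le_top : T.unop ≤ ⊤)).op c) fun S T g => ?_), ?_⟩
    · exact (PresheafOfModules.map_comp_apply M.val (homOfLE (le_top : S.unop ≤ ⊤)).op g c).symm
    · rw [ev, Equiv.apply_symm_apply]
      exact ConcreteCategory.congr_hom (M.presheaf.map_id (op ⊤)) c

lemma ev_add {M : Y.Modules} (g₁ g₂ : oMod Y ⟶ M) : ev (g₁ + g₂) = ev g₁ + ev g₂ := rfl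

/-- The unit module in one degree. -/
noncomputable abbrev sO (Y : Scheme.{u}) (n : ℤ) : CochainComplex Y.Modules ℤ :=
  (HomologicalComplex.single Y.Modules (ComplexShape.up ℤ) n).obj (oMod Y)

lemma isKFlat_sO (n : ℤ) : DCoh.IsKFlat (sO Y n) :=
  ModGroth.isKFlat_of_boundedAbove (O := Y.sheaf) (sO Y n) n ((CochainComplex.isStrictlyLE_iff _ _).2 fun i hi => HomologicalComplex.isZero_single_obj_X _ _ _ _ hi.ne') fun m => by
    by_cases h : m = n
    · subst h
      exact ModGroth.isFlat_of_iso (O := Y.sheaf)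
        (HomologicalComplex.singleObjXSelf (ComplexShape.up ℤ) m (oMod Y)).symm ModGroth.Perf.isFlat_unit
    · exact ModGroth.isFlat_of_isZero (O := Y.sheaf)
        (HomologicalComplex.isZero_single_obj_X _ _ _ _ h)

/-- A cycle of sections as a map from the unit module in one degree. -/
lemma exists_cyc {K : CochainComplex Y.Modules ℤ} {n : ℤ} (c : Γ(K.X n, ⊤))
    (hc : (K.d n (n + 1)).app ⊤ c = 0) :
    ∃ g : sO Y n ⟶ K,
      ev ((HomologicalComplex.singleObjXSelf (ComplexShape.up ℤ) n (oMod Y)).inv ≫ g.f n) = c := by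
  obtain ⟨g₀, rfl⟩ := (ev_bijective (K.X n)).2 c
  refine ⟨HomologicalComplex.mkHomFromSingle g₀ fun j hj => ?_, ?_⟩
  · obtain rfl : n + 1 = j := hj
    apply (ev_bijective _).1
    rw [ev_comp, hc, ev_zero]
  · rw [HomologicalComplex.mkHomFromSingle_f, Iso.inv_hom_id_assoc]

/-- The cycle of a map from the unit module in one degree. -/
noncomputable def cyc {K : CochainComplex Y.Modules ℤ} {n : ℤ} (g : sO Y n ⟶ K) : Γ(K.X n, ⊤) :=
  ev ((HomologicalComplex.singleObjXSelf (ComplexShape.up ℤ) n (oMod Y)).inv ≫ g.f n)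

lemma cyc_d {K : CochainComplex Y.Modules ℤ} {n : ℤ} (g : sO Y n ⟶ K) :
    (K.d n (n + 1)).app ⊤ (cyc g) = 0 := by
  rw [cyc, ← ev_comp, Category.assoc, g.comm, HomologicalComplex.single_obj_d, zero_comp, comp_zero, ev_zero]

lemma cyc_comp {K L : CochainComplex Y.Modules ℤ} {n : ℤ} (g : sO Y n ⟶ K) (φ : K ⟶ L) :
    cyc (g ≫ φ) = (φ.f n).app ⊤ (cyc g) := by
  rw [cyc, cyc, ← ev_comp, HomologicalComplex.comp_f, Category.assoc]

lemma cyc_homotopy {K : CochainComplex Y.Modules ℤ} {n : ℤ} (g₁ g₂ : sO Y n ⟶ K) :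
    (HomotopyCategory.quotient Y.Modules (ComplexShape.up ℤ)).map g₁ =
        (HomotopyCategory.quotient Y.Modules (ComplexShape.up ℤ)).map g₂ ↔
      ∃ b, cyc g₁ = (K.d (n - 1) n).app ⊤ b + cyc g₂ := by
  let e := HomologicalComplex.singleObjXSelf (ComplexShape.up ℤ) n (oMod Y)
  constructor
  · intro h
    let H := HomotopyCategory.homotopyOfEq _ _ h
    have hn := H.comm n
    rw [dNext_eq _ (i' := n + 1) (by simp), prevD_eq _ (j' := n - 1) (by simp),
      HomologicalComplex.single_obj_d, zero_comp, zero_add] at hn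
    refine ⟨ev (e.inv ≫ H.hom n (n - 1)), ?_⟩
    rw [cyc, cyc, hn, Preadditive.comp_add, ← ev_comp, ev_add, Category.assoc]
  · rintro ⟨b, hb⟩
    obtain ⟨b₀, rfl⟩ := (ev_bijective (K.X (n - 1))).2 b
    refine HomotopyCategory.eq_of_homotopy _ _ ?_
    refine
      { hom := fun i j => if h : i = n ∧ j = n - 1 then
          eqToHom (by rw [h.1]) ≫ e.hom ≫ b₀ ≫ eqToHom (by rw [h.2]) else 0
        zero := fun i j hij => dif_neg fun h => hij (by simp [h.1, h.2])
        comm := fun i => ?_ }
    by_cases hi : i = n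
    · subst hi
      rw [dNext_eq _ (i' := i + 1) (by simp), prevD_eq _ (j' := i - 1) (by simp),
        HomologicalComplex.single_obj_d, zero_comp, zero_add, dif_pos ⟨rfl, rfl⟩]
      simp only [eqToHom_refl, Category.id_comp, Category.comp_id, Category.assoc]
      rw [← cancel_epi e.inv]
      apply (ev_bijective _).1
      rw [Preadditive.comp_add, Iso.inv_hom_id_assoc]
      exact hb.trans ((congrArg (· + _) (ev_comp _ _).symm).trans (ev_add _ _).symm)
    · exact (HomologicalComplex.isZero_single_obj_X _ _ _ _ hi).eq_of_src _ _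

variable {X : Scheme.{u}} (f : X ⟶ Y)

/-- The direct image of a K-injective complex is acyclic for global sections. -/
theorem quasiIso_gamma_pushforward (B : CochainComplex X.Modules ℤ) [B.IsKInjective]
    {J : CochainComplex Y.Modules ℤ} [J.IsKInjective]
    (s : ((Scheme.Modules.pushforward f).mapHomologicalComplex (ComplexShape.up ℤ)).obj B ⟶ J) [QuasiIso s] :
    QuasiIso (((DCoh.gammaAb Y).mapHomologicalComplex (ComplexShape.up ℤ)).map s) := by
  let M := ((Scheme.Modules.pushforward f).mapHomologicalComplex (ComplexShape.up ℤ)).obj B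
  let q := HomotopyCategory.quotient Y.Modules (ComplexShape.up ℤ)
  have hb : ∀ n, Function.Bijective (fun g : q.obj (sO Y n) ⟶ q.obj M => g ≫ q.map s) := by
    intro n
    have h₁ : Function.Bijective (DerivedCategory.Qh.map : (q.obj (sO Y n) ⟶ q.obj M) → _) :=
      Qh_bijective_of_good (Scheme.Modules.pullbackPushforwardAdjunction f)
        (ModGroth.Stalk.goodInverts_pullback f) B (sO Y n) (isKFlat_sO n)
    have h₂ : Function.Bijective (DerivedCategory.Qh.map : (q.obj (sO Y n) ⟶ q.obj J) → _) :=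
      TriH.Qh_bijective_of_isKInjective J _
    haveI : IsIso (DerivedCategory.Qh.map (q.map s)) :=
      Localization.inverts DerivedCategory.Qh (HomotopyCategory.quasiIso Y.Modules (ComplexShape.up ℤ)) _
        ((HomotopyCategory.quotient_map_mem_quasiIso_iff s).2 ((HomologicalComplex.mem_quasiIso_iff _).2 ‹_›))
    refine ⟨fun g₁ g₂ h => h₁.1 ?_, fun g' => ?_⟩
    · rw [← cancel_mono (DerivedCategory.Qh.map (q.map s)), ← Functor.map_comp, ← Functor.map_comp]
      exact congrArg _ h
    · obtain ⟨g, hg⟩ := h₁.2 (DerivedCategory.Qh.map g' ≫ inv (DerivedCategory.Qh.map (q.map s)))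
      exact ⟨g, h₂.1 (by rw [Functor.map_comp, hg, Category.assoc, IsIso.inv_hom_id, Category.comp_id])⟩
  refine ⟨fun n => ?_⟩
  rw [quasiIsoAt_iff' _ (n - 1) n (n + 1) (by simp) (by simp)]
  refine quasiIso_of_classes _ (fun y hy => ?_) fun x b hx hxb => ?_
  · obtain ⟨gy, hgy⟩ := exists_cyc (K := J) (n := n) y hy
    obtain ⟨g', hg'⟩ := (hb n).2 (q.map gy)
    obtain ⟨g, rfl⟩ := q.map_surjective g'
    dsimp only at hg'
    rw [← q.map_comp] at hg'
    obtain ⟨b, hb'⟩ := (cyc_homotopy _ _).1 hg'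
    exact ⟨cyc g, b, cyc_d g, ((cyc_comp g s).symm.trans hb').trans (congrArg (_ + ·) hgy)⟩
  · obtain ⟨g, hg⟩ := exists_cyc (K := M) (n := n) x hx
    have h0 : ∀ {K : CochainComplex Y.Modules ℤ}, cyc (0 : sO Y n ⟶ K) = 0 := fun {K} => by
      rw [cyc, HomologicalComplex.zero_f, comp_zero, ev_zero]
    have hz : q.map (g ≫ s) = q.map (0 : sO Y n ⟶ J) := by
      refine (cyc_homotopy _ _).2 ⟨b, ?_⟩
      rw [cyc_comp, h0, add_zero]
      exact (congrArg _ hg).trans hxb
    have hg0 : q.map g = q.map (0 : sO Y n ⟶ M) := (hb n).1 (by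
      dsimp only
      rw [← q.map_comp, ← q.map_comp, zero_comp]
      exact hz)
    obtain ⟨a, ha⟩ := (cyc_homotopy _ _).1 hg0
    rw [h0, add_zero] at ha
    exact ⟨a, ha.symm.trans hg⟩

end Groth.Agent.DQCPush
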