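import Groth.Agent.DQCPush.Bound
import Groth.Agent.HigherDirect.Coherent

/-!
# `Rf_*` preserves complexes with quasi-coherent (resp. coherent) cohomology
-/

set_option autoImplicit false
set_option linter.style.haveILetI false
set_option backward.isDefEq.respectTransparency false
set_option backward.isDefEq.respectTransparency.types false
universe u

open CategoryTheory CategoryTheory.Limits CategoryTheory.Pretriangulated AlgebraicGeometry DerivedCategory

attribute [local instance] HasDerivedCategory.standard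

namespace Groth.Agent.DQCPush

open RlimLib

variable {X S : Scheme.{u}} (f : X ⟶ S)

/-- The middle term of five is coherent. -/
theorem isCoh_mid [IsLocallyNoetherian S] {A B C D E : S.Modules} (a : A ⟶ B) (b : B ⟶ C) (c : C ⟶ D) (d : D ⟶ E)
    (hab : a ≫ b = 0) (hbc : b ≫ c = 0) (hcd : c ≫ d = 0)
    (e1 : (ShortComplex.mk a b hab).Exact) (e2 : (ShortComplex.mk b c hbc).Exact) (e3 : (ShortComplex.mk c d hcd).Exact)
    (hA : Coh.IsCoh A) (hB : Coh.IsCoh B) (hD : Coh.IsCoh D) (hE : Coh.IsCoh E) : Coh.IsCoh C := by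
  have hq : C.IsQuasicoherent :=
    HigherDirect.isQCoh_mid a b c d hab hbc hcd e1 e2 e3 hA.1 hB.1 hD.1 hE.1
  haveI := hq
  haveI : (Abelian.image b).IsQuasicoherent := by
    haveI := hB.1
    exact QCohLib.isQuasicoherent_image b
  let T := ShortComplex.mk (Abelian.image.ι b) (cokernel.π b) (by simp)
  have hT : T.ShortExact :=
    { exact := ShortComplex.exact_of_f_is_kernel _ (kernelIsKernel (cokernel.π b)) }
  haveI : Mono (cokernel.desc b c hbc) :=
    (ShortComplex.exact_iff_mono_cokernel_desc (ShortComplex.mk b c hbc)).1 e2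
  refine QCohLib.isCoh_of_extension T hT ?_ ?_
  · exact QCohLib.isCoh_of_epi (Abelian.factorThruImage b) hB inferInstance
  · exact QCohLib.isCoh_of_mono (cokernel.desc b c hbc) hD (haveI := hB.1; QCohLib.isQuasicoherent_cokernel b)

/-- A property of sheaves closed under five-term extensions passes to `Rf_*` of bounded below complexes. -/
theorem Rpush_induction [DCoh.HasRpush f] [HasInjectiveResolutions X.Modules] (P : S.Modules → Prop)
    (hiso : ∀ {M M' : S.Modules}, (M ≅ M') → P M → P M') (h0 : ∀ M : S.Modules, IsZero M → P M)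
    (hmid : ∀ {A B C D E : S.Modules} (a : A ⟶ B) (b : B ⟶ C) (c : C ⟶ D) (d : D ⟶ E)
      (hab : a ≫ b = 0) (hbc : b ≫ c = 0) (hcd : c ≫ d = 0),
      (ShortComplex.mk a b hab).Exact → (ShortComplex.mk b c hbc).Exact → (ShortComplex.mk c d hcd).Exact →
      P A → P B → P D → P E → P C)
    (Q : X.Modules → Prop) (hQiso : ∀ {M M' : X.Modules}, (M ≅ M') → Q M → Q M')
    (hQ : ∀ M : X.Modules, Q M → ∀ p : ℕ, P ((Coh.Rpush f p).obj M))
    (K : DCoh.D X) (a : ℤ) [K.IsGE a] (hK : ∀ i : ℤ, Q (DCoh.HD K i)) (j : ℤ) :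
    P (DCoh.HD ((DCoh.Rpush f).obj K) j) := by
  have hsingle : ∀ (M : X.Modules), Q M → ∀ b i : ℤ,
      P (DCoh.HD ((DCoh.Rpush f).obj ((singleFunctor X.Modules b).obj M)) i) := fun M hM b i => by
    obtain ⟨h1, h2⟩ := DerAdj.nonempty_homology_RF_single (Scheme.Modules.pushforward f)
      (DerAdj.modules_hKinj X) M b i
    by_cases hlt : i < b
    · exact h0 _ (h1 hlt)
    · obtain ⟨p, hp⟩ : ∃ p : ℕ, b + (p : ℤ) = i := ⟨(i - b).toNat, by omega⟩
      exact hiso (h2 p hp).some.symm (hQ M hM p)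
  suffices key : ∀ (n : ℕ) (b i : ℤ), i < b + n → P (DCoh.HD ((DCoh.Rpush f).obj (tge b K)) i) by
    haveI : IsIso (tgeπ a K) := by
      rw [DerivedCategory.isIso_iff]
      intro i
      by_cases h : a ≤ i
      · exact isIso_homology_tgeπ K h
      · exact isIso_of_source_target_iso_zero _
          ((DerivedCategory.isGE_iff K a).1 inferInstance i (by omega)).isoZero
          (isZero_homology_tge K (by omega)).isoZero
    exact hiso ((homologyFunctor S.Modules j).mapIso ((DCoh.Rpush f).mapIso (asIso (tgeπ a K)))).symm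
      (key (j - a + 1).toNat a j (by omega))
  intro n
  induction n with
  | zero =>
    intro b i hi
    haveI : (tge b K).IsGE b := by
      rw [DerivedCategory.isGE_iff]
      exact fun k hk => isZero_homology_tge K hk
    haveI := isGE_Rpush f (tge b K) b
    exact h0 _ (((DerivedCategory.isGE_iff _ b).1 inferInstance) i (by omega))
  | succ n ih =>
    intro b i hi
    obtain ⟨F, φ, δ, hT, ⟨e⟩⟩ := exists_layer K b (b + 1) rfl
    obtain ⟨c, hc⟩ := DerAdj.exists_distinguished_map (Scheme.Modules.pushforward f) (DerAdj.modules_hKinj X) _ hT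
    have hF : Q F := hQiso e.symm (hK b)
    exact hmid _ _ _ _ _ _ _
      (HomologySequence.exact₁ _ hc (i - 1) i (by omega))
      (HomologySequence.exact₂ _ hc i)
      (HomologySequence.exact₃ _ hc i (i + 1) rfl)
      (ih (b + 1) (i - 1) (by omega)) (hsingle F hF b i) (ih (b + 1) i (by omega)) (hsingle F hF b (i + 1))

/-- Quasi-coherent cohomology, bounded below case. -/
theorem isQCohD_Rpush_of_isGE [QuasiCompact f] [QuasiSeparated f] [DCoh.HasRpush f]
    (K : DCoh.D X) (a : ℤ) [K.IsGE a] (hK : DCoh.IsQCohD K) : DCoh.IsQCohD ((DCoh.Rpush f).obj K) := by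
  haveI := HigherDirect.hasInjectiveResolutions_modules X
  intro j
  exact Rpush_induction f (fun M => Coh.IsQCoh M) (fun e h => @QCohLib.isQuasicoherent_of_iso _ _ _ e h)
    (fun M hM => QCohLib.isQuasicoherent_of_isZero hM)
    (fun a b c d hab hbc hcd e1 e2 e3 hA hB hD hE => HigherDirect.isQCoh_mid a b c d hab hbc hcd e1 e2 e3 hA hB hD hE)
    (fun M => Coh.IsQCoh M) (fun e h => @QCohLib.isQuasicoherent_of_iso _ _ _ e h)
    (fun M hM p => @HigherDirect.isQuasicoherent_rpush _ _ f _ _ _ M hM p) K a hK j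

/-- `Rf_*` preserves quasi-coherent cohomology. -/
theorem isQCohD_Rpush [QuasiCompact f] [QuasiSeparated f] [DCoh.HasRpush f]
    (K : DCoh.D X) (hK : DCoh.IsQCohD K) : DCoh.IsQCohD ((DCoh.Rpush f).obj K) := by
  intro j
  refine QCohLib.isQuasicoherent_of_cover (ι := S.affineOpens) (fun V => V.1.ι) (fun x => ?_) fun V => ?_
  · obtain ⟨V, hV⟩ := QCohLib.exists_affine_mem x
    exact ⟨V, by rwa [Scheme.Opens.opensRange_ι]⟩
  · haveI : IsAffine V.1.toScheme := V.2
    let U := f ⁻¹ᵁ V.1
    haveI : PreservesFiniteLimits (Scheme.Modules.restrictFunctor V.1.ι) :=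
      CxOX.preservesFiniteLimits_restrictFunctor _
    haveI : PreservesFiniteLimits (Scheme.Modules.restrictFunctor U.ι) :=
      CxOX.preservesFiniteLimits_restrictFunctor _
    haveI := hasRpush (f ∣_ V.1)
    haveI := HigherDirect.hasInjectiveResolutions_modules U.toScheme
    obtain ⟨e⟩ := nonempty_Rpush_restrict_iso f V.1
    let L := (DCoh.restrictD U.ι).obj K
    have hL : DCoh.IsQCohD L := fun i =>
      @QCohLib.isQuasicoherent_of_iso _ _ _ (HDRestrictIso U.ι K i).symm (isQCoh_restrict U.ι (hK i))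
    obtain ⟨N, hN⟩ := HigherDirect.exists_bound_rpushAb (f ∣_ V.1)
    have hN' : ∀ M : U.toScheme.Modules, Coh.IsQCoh M → ∀ p : ℕ, (N : ℤ) < (p : ℤ) →
        IsZero ((Coh.Rpush (f ∣_ V.1) p).obj M) :=
      fun M hM p hp => HigherDirect.isZero_rpush_of_isZero_rpushAb _ M p (hN M hM p (by omega))
    let n : ℕ := ((N : ℤ) - j).toNat
    haveI := isIso_HD_Rpush_tge (f ∣_ V.1) N hN' L hL n j (by omega)
    haveI : (tge (-(n : ℤ)) L).IsGE (-(n : ℤ)) := by
      rw [DerivedCategory.isGE_iff]
      exact fun k hk => isZero_homology_tge L hk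
    have hT : DCoh.IsQCohD (tge (-(n : ℤ)) L) := fun i => by
      by_cases h : -(n : ℤ) ≤ i
      · haveI := isIso_homology_tgeπ L h
        exact @QCohLib.isQuasicoherent_of_iso _ _ _
          (asIso ((homologyFunctor U.toScheme.Modules i).map (tgeπ (-(n : ℤ)) L))) (hL i)
      · exact QCohLib.isQuasicoherent_of_isZero (isZero_homology_tge L (by omega))
    exact @QCohLib.isQuasicoherent_of_iso _ _ _
      ((HDRestrictIso V.1.ι _ j).symm ≪≫ (homologyFunctor V.1.toScheme.Modules j).mapIso (e.app K) ≪≫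
        asIso ((homologyFunctor V.1.toScheme.Modules j).map ((DCoh.Rpush (f ∣_ V.1)).map (tgeπ (-(n : ℤ)) L)))).symm
      (isQCohD_Rpush_of_isGE (f ∣_ V.1) (tge (-(n : ℤ)) L) (-(n : ℤ)) hT j)

/-- Coherent cohomology with proper support, bounded below case. -/
theorem isCohD_Rpush_of_isGE [IsLocallyNoetherian S] [LocallyOfFiniteType f] [DCoh.HasRpush f]
    (K : DCoh.D X) (a : ℤ) [K.IsGE a] (hK : DCoh.IsCohD K)
    (hsupp : ∀ i : ℤ, ClSub.IsProperOver f (CohB1.support (DCoh.HD K i))) :
    DCoh.IsCohD ((DCoh.Rpush f).obj K) := by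
  haveI := HigherDirect.hasInjectiveResolutions_modules X
  intro j
  exact Rpush_induction f (fun M => Coh.IsCoh M) (fun e h => QCohLib.isCoh_of_iso e h)
    (fun M hM => QCohLib.isCoh_of_isZero hM)
    (fun a b c d hab hbc hcd e1 e2 e3 hA hB hD hE => isCoh_mid a b c d hab hbc hcd e1 e2 e3 hA hB hD hE)
    (fun M => ∃ i : ℤ, Nonempty (DCoh.HD K i ≅ M))
    (fun e h => ⟨h.choose, ⟨h.choose_spec.some ≪≫ e⟩⟩)
    (fun M hM p => by
      obtain ⟨i, ⟨e⟩⟩ := hM
      exact QCohLib.isCoh_of_iso ((Coh.Rpush f p).mapIso e)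
        (HigherDirect.isCoh_rpush f (hsupp i) _ (hK i) subset_rfl p))
    K a (fun i => ⟨i, ⟨Iso.refl _⟩⟩) j

end Groth.Agent.DQCPush
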