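import Groth.Agent.DQCPush.QCohD

/-!
# `Rf_*` of bounded complexes of coherent sheaves with proper support is bounded
-/

set_option autoImplicit false
set_option linter.style.haveILetI false
set_option backward.isDefEq.respectTransparency false
set_option backward.isDefEq.respectTransparency.types false
universe u

open CategoryTheory CategoryTheory.Limits CategoryTheory.Pretriangulated AlgebraicGeometry DerivedCategory ZeroObject
  TopologicalSpace

attribute [local instance] HasDerivedCategory.standard

namespace Groth.Agent.DQCPush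

open RlimLib HigherDirect

variable {X S : Scheme.{u}} (f : X ⟶ S)

/-- Higher direct images of a sheaf only depend on a neighbourhood of its support. -/
theorem nonempty_rpush_iso_of_support [HasInjectiveResolutions X.Modules] {C : Set X} (hcl : IsClosed C)
    (U : X.Opens) [HasInjectiveResolutions U.toScheme.Modules] (hCU : C ⊆ U) (M : X.Modules)
    (hs : CohB1.support M ⊆ C) (q : ℕ) :
    Nonempty ((Coh.Rpush f q).obj M ≅ (Coh.Rpush (U.ι ≫ f) q).obj (M.restrict U.ι)) := by
  let V : X.Opens := ⟨Cᶜ, hcl.isOpen_compl⟩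
  have hz : ∀ W : X.Opens, W ≤ V → ∀ n, IsZero (((J W ⋙ Scheme.Modules.pushforward f).rightDerived n).obj M) := by
    intro W hW n
    haveI := hasInjectiveResolutions_modules W.toScheme
    obtain ⟨e⟩ := nonempty_J_rightDerived_iso f W n
    haveI : (Coh.Rpush (W.ι ≫ f) n).Additive := inferInstance
    refine (Functor.map_isZero (Coh.Rpush (W.ι ≫ f) n) ?_).of_iso (e.app M)
    refine QCohLib.isZero_restrict_of_subsingleton_stalk W.ι fun w => ?_
    by_contra hne
    exact hW w.2 (hs hne)
  have hUV : U ⊔ V = ⊤ := top_le_iff.1 fun x _ => by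
    by_cases hx : x ∈ C
    · exact Or.inl (hCU hx)
    · exact Or.inr hx
  obtain ⟨e⟩ := nonempty_iso_of_isZero f U V ⊤ hUV M q (hz V le_rfl) (hz (V ⊓ U) inf_le_left)
  obtain ⟨e'⟩ := nonempty_J_rightDerived_iso f U q
  haveI : ∀ N : X.Modules, IsIso ((η (⊤ : X.Opens)).app N) := fun N =>
    Scheme.Modules.Hom.isIso_iff_isIso_app.2 fun O => η_app_isIso _ N le_top
  haveI : IsIso (η (⊤ : X.Opens)) := NatIso.isIso_of_isIso_app _
  let e₀ := (rightDerivedIso ((Functor.leftUnitor _).symm ≪≫
    Functor.isoWhiskerRight (asIso (η (⊤ : X.Opens))) (Scheme.Modules.pushforward f)) q).app M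
  exact ⟨e₀ ≪≫ e ≪≫ e'.app M⟩

/-- Bounded higher direct images for a coherent sheaf with proper support over a Noetherian base. -/
theorem exists_bound_rpush_proper_support [IsNoetherian S] [LocallyOfFiniteType f]
    [HasInjectiveResolutions X.Modules] (M : X.Modules) (hM : Coh.IsCoh M)
    (hs : ClSub.IsProperOver f (CohB1.support M)) :
    ∃ n : ℕ, ∀ p : ℕ, n ≤ p → IsZero ((Coh.Rpush f p).obj M) := by
  obtain ⟨hcl, hp⟩ := id hs
  let I := Scheme.IdealSheafData.vanishingIdeal (⟨CohB1.support M, hcl⟩ : Closeds X)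
  haveI : IsProper (I.subschemeι ≫ f) := hp
  haveI : CompactSpace I.subscheme := QuasiCompact.compactSpace_of_compactSpace (I.subschemeι ≫ f)
  have hcpt : IsCompact (CohB1.support M) := by
    have h := isCompact_range (I.subschemeι.continuous)
    rwa [Scheme.IdealSheafData.range_subschemeι, Scheme.IdealSheafData.coe_support_vanishingIdeal] at h
  obtain ⟨t, ht⟩ := hcpt.elim_finite_subcover (fun U : X.affineOpens => (U.1 : Set X)) (fun U => U.1.2)
    fun x _ => by
      obtain ⟨U, hU, hxU, -⟩ := exists_isAffineOpen_mem_and_subset (Opens.mem_top x)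
      exact Set.mem_iUnion.2 ⟨⟨U, hU⟩, hxU⟩
  let U : X.Opens := ⨆ V ∈ t, V.1
  have hCU : CohB1.support M ⊆ U := fun x hx => by
    obtain ⟨V, hV, hxV⟩ := Set.mem_iUnion₂.1 (ht hx)
    exact Opens.mem_iSup.2 ⟨V, Opens.mem_iSup.2 ⟨hV, hxV⟩⟩
  have hUc : IsCompact (U : Set X) := by
    have : (U : Set X) = ⋃ V ∈ t, (V.1 : Set X) := by simp [U]
    rw [this]
    exact t.isCompact_biUnion fun V _ => V.2.isCompact
  haveI : IsLocallyNoetherian X := LocallyOfFiniteType.isLocallyNoetherian f
  haveI : CompactSpace U.toScheme := isCompact_iff_compactSpace.1 hUc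
  haveI : IsLocallyNoetherian U.toScheme := LocallyOfFiniteType.isLocallyNoetherian (U.ι ≫ f)
  haveI : QuasiCompact (U.ι ≫ f) := QuasiCompact.of_comp (U.ι ≫ f) (terminal.from S)
  haveI : QuasiSeparated (U.ι ≫ f) := QuasiSeparated.of_comp (U.ι ≫ f) (terminal.from S)
  haveI := hasInjectiveResolutions_modules U.toScheme
  obtain ⟨n, hn⟩ := exists_bound_rpushAb (U.ι ≫ f)
  refine ⟨n, fun p hp' => ?_⟩
  obtain ⟨e⟩ := nonempty_rpush_iso_of_support f hcl U hCU M subset_rfl p
  haveI := hM.1
  exact (isZero_rpush_of_isZero_rpushAb _ _ p (hn (M.restrict U.ι) inferInstance p hp')).of_iso e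

/-- Bounded coherent complexes with proper support have bounded direct image. -/
theorem exists_isLE_Rpush [IsNoetherian S] [LocallyOfFiniteType f] [DCoh.HasRpush f]
    (E : DCoh.D X) (a b : ℤ) [E.IsGE a] [E.IsLE b] (hE : DCoh.IsCohD E)
    (hsupp : ∀ i : ℤ, ClSub.IsProperOver f (CohB1.support (DCoh.HD E i))) :
    ∃ b' : ℤ, ((DCoh.Rpush f).obj E).IsLE b' := by
  haveI := HigherDirect.hasInjectiveResolutions_modules X
  choose n hn using fun i : ℤ => exists_bound_rpush_proper_support f (DCoh.HD E i) (hE i) (hsupp i)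
  suffices key : ∀ (k : ℕ) (c : ℤ), b < c + k →
      ∃ B : ℤ, ∀ i, B < i → IsZero (DCoh.HD ((DCoh.Rpush f).obj (tge c E)) i) by
    obtain ⟨B, hB⟩ := key (b - a + 1).toNat a (by omega)
    haveI : IsIso (tgeπ a E) := by
      rw [DerivedCategory.isIso_iff]
      intro i
      by_cases h : a ≤ i
      · exact isIso_homology_tgeπ E h
      · exact isIso_of_source_target_iso_zero _
          ((DerivedCategory.isGE_iff E a).1 inferInstance i (by omega)).isoZero
          (isZero_homology_tge E (by omega)).isoZero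
    refine ⟨B, (DerivedCategory.isLE_iff _ B).2 fun i hi => (hB i hi).of_iso
      ((homologyFunctor S.Modules i).mapIso ((DCoh.Rpush f).mapIso (asIso (tgeπ a E))))⟩
  intro k
  induction k with
  | zero =>
    intro c hc
    refine ⟨0, fun i _ => ?_⟩
    haveI := preservesZeroMorphisms_RFun (Scheme.Modules.pushforward f) (DerAdj.modules_hKinj X)
    have hz : IsZero (tge c E) := by
      have : IsIso (0 : tge c E ⟶ 0) := by
        rw [DerivedCategory.isIso_iff]
        intro l
        refine isIso_of_source_target_iso_zero _ (IsZero.isoZero ?_)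
          ((homologyFunctor X.Modules l).map_isZero (isZero_zero _)).isoZero
        by_cases hl : c ≤ l
        · haveI := isIso_homology_tgeπ E hl
          exact ((DerivedCategory.isLE_iff E b).1 inferInstance l (by omega)).of_iso
            (asIso ((homologyFunctor X.Modules l).map (tgeπ c E))).symm
        · exact isZero_homology_tge E (by omega)
      exact (isZero_zero _).of_iso (asIso (0 : tge c E ⟶ 0))
    exact (homologyFunctor S.Modules i).map_isZero ((DerAdj.RFun (Scheme.Modules.pushforward f)).map_isZero hz)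
  | succ k ih =>
    intro c hc
    obtain ⟨B, hB⟩ := ih (c + 1) (by omega)
    obtain ⟨F, φ, δ, hT, ⟨e⟩⟩ := exists_layer E c (c + 1) rfl
    obtain ⟨γ, hγ⟩ := DerAdj.exists_distinguished_map (Scheme.Modules.pushforward f) (DerAdj.modules_hKinj X) _ hT
    refine ⟨max B (c + n c), fun i hi => (HomologySequence.exact₂ _ hγ i).isZero_X₂ ?_
      ((hB i (lt_of_le_of_lt (le_max_left _ _) hi)).eq_of_tgt _ _)⟩
    refine IsZero.eq_of_src ?_ _ _
    refine isZero_HD_Rpush_single f F c i fun p hp => (hn c p ?_).of_iso ((Coh.Rpush f p).mapIso e)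
    have := lt_of_le_of_lt (le_max_right _ _) hi
    omega

end Groth.Agent.DQCPush
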