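import Groth.Agent.DQCPush.Window

/-!
# Canonical truncations from above in `D_QCoh`
-/

set_option autoImplicit false
set_option linter.style.haveILetI false
universe u

open CategoryTheory CategoryTheory.Limits CategoryTheory.Pretriangulated CategoryTheory.Triangulated AlgebraicGeometry

attribute [local instance] HasDerivedCategory.standard

namespace Groth.Agent.DQCPush

section Generic

variable {A : Type*} [Category* A] [Abelian A] [HasDerivedCategory A]

/-- `Hⁱ(τ≤n X) → Hⁱ(X)` is invertible for `i ≤ n`. -/
theorem isIso_homology_truncLEι (X : DerivedCategory A) (n i : ℤ) (hi : i ≤ n) :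
    IsIso ((DerivedCategory.homologyFunctor A i).map
      ((DerivedCategory.TStructure.t.truncLEι n).app X)) := by
  let t : TStructure (DerivedCategory A) := DerivedCategory.TStructure.t
  have hT := t.triangleLEGE_distinguished n (n + 1) rfl X
  have hz : ∀ j, j ≤ n → IsZero ((DerivedCategory.homologyFunctor A j).obj
      ((t.triangleLEGE n (n + 1) rfl).obj X).obj₃) := fun j hj => by
    haveI : ((t.triangleLEGE n (n + 1) rfl).obj X).obj₃.IsGE (n + 1) :=
      inferInstanceAs (t.IsGE ((t.truncGE (n + 1)).obj X) (n + 1))
    exact (DerivedCategory.isGE_iff _ (n + 1)).1 inferInstance j (by omega)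
  haveI := (DerivedCategory.HomologySequence.exact₁ _ hT (i - 1) i (by omega)).mono_g
    ((hz (i - 1) (by omega)).eq_of_src _ _)
  haveI := (DerivedCategory.HomologySequence.exact₂ _ hT i).epi_f ((hz i hi).eq_of_tgt _ _)
  exact isIso_of_mono_of_epi ((DerivedCategory.homologyFunctor A i).map ((t.triangleLEGE n (n + 1) rfl).obj X).mor₁)

end Generic

variable {X : Scheme.{u}}

theorem isQCohD_truncLE (K : DCoh.D X) (hK : DCoh.IsQCohD K) (n : ℤ) :
    DCoh.IsQCohD ((DerivedCategory.TStructure.t.truncLE n).obj K) := fun i => by
  by_cases h : i ≤ n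
  · haveI := isIso_homology_truncLEι K n i h
    exact @QCohLib.isQuasicoherent_of_iso _ _ _ (asIso ((DerivedCategory.homologyFunctor X.Modules i).map
      ((DerivedCategory.TStructure.t.truncLEι n).app K))).symm (hK i)
  · haveI : ((DerivedCategory.TStructure.t.truncLE n).obj K).IsLE n :=
      inferInstanceAs (DerivedCategory.TStructure.t.IsLE ((DerivedCategory.TStructure.t.truncLE n).obj K) n)
    exact QCohLib.isQuasicoherent_of_isZero ((DerivedCategory.isLE_iff _ n).1 inferInstance i (by omega))

end Groth.Agent.DQCPush
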