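import Groth.Agent.DQCPush.Window
import Groth.Agent.DQCPush.Local
import Groth.Agent.DQC.Local
import Groth.Agent.TriH.CountableSum

/-!
# Termwise computation of `Rf_*` on complexes of acyclic quasi-coherent modules
-/

set_option autoImplicit false
set_option linter.style.haveILetI false
set_option backward.isDefEq.respectTransparency false
set_option backward.isDefEq.respectTransparency.types false
universe u

open CategoryTheory CategoryTheory.Limits AlgebraicGeometry

attribute [local instance] HasDerivedCategory.standard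

namespace Groth.Agent.DQCPush

section Generic

variable {A : Type*} [Category* A] [Abelian A]

/-- A map of complexes which is invertible around degree `j` is invertible on `Hʲ`. -/
theorem isIso_homologyMap_of_window {K L : CochainComplex A ℤ} (g : K ⟶ L) (j : ℤ)
    (h : ∀ i, j - 1 ≤ i → IsIso (g.f i)) : IsIso (HomologicalComplex.homologyMap g j) := by
  let φ := (HomologicalComplex.shortComplexFunctor A (ComplexShape.up ℤ) j).map g
  haveI : IsIso φ.τ₁ := h _ (by simp)
  haveI : IsIso φ.τ₂ := h _ (by omega)
  haveI : IsIso φ.τ₃ := h _ (by simp; omega)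
  haveI : IsIso φ := ShortComplex.isIso_of_isIso φ
  exact inferInstanceAs (IsIso ((ShortComplex.homologyFunctor A).map φ))

end Generic

open Groth.Agent.TriH

variable {X S : Scheme.{u}} (f : X ⟶ S)

/-- The unit at a complex is invertible iff `f_*` of a K-injective resolution is a quasi-isomorphism. -/
theorem isIso_unit_iff_push [DCoh.HasRpush f] {F I : CochainComplex X.Modules ℤ} (s : F ⟶ I) [QuasiIso s]
    [I.IsKInjective] :
    IsIso ((CountableSum.unit (Scheme.Modules.pushforward f)).app
      ((HomotopyCategory.quotient X.Modules (ComplexShape.up ℤ)).obj F)) ↔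
    IsIso (DerivedCategory.Q.map (((Scheme.Modules.pushforward f).mapHomologicalComplex (ComplexShape.up ℤ)).map s)) := by
  rw [CountableSum.isIso_unit_iff (Scheme.Modules.pushforward f) (DerAdj.modules_hKinj X)
    ((HomotopyCategory.quotient X.Modules (ComplexShape.up ℤ)).map s)
    ((HomotopyCategory.quotient_map_mem_quasiIso_iff s).2 (by simpa using ‹QuasiIso s›))
    (CochainComplex.IsKInjective.rightOrthogonal I)]
  exact NatIso.isIso_map_iff ((Functor.associator _ _ _).symm ≪≫
    Functor.isoWhiskerRight ((Scheme.Modules.pushforward f).mapHomotopyCategoryFactors (ComplexShape.up ℤ)) _ ≪≫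
    Functor.associator _ _ _ ≪≫ Functor.isoWhiskerLeft _ (DerivedCategory.quotientCompQhIso S.Modules) :
      HomotopyCategory.quotient X.Modules (ComplexShape.up ℤ) ⋙ CountableSum.Phi (Scheme.Modules.pushforward f) ≅
        (Scheme.Modules.pushforward f).mapHomologicalComplex (ComplexShape.up ℤ) ⋙ DerivedCategory.Q) s

variable [QuasiCompact f] [QuasiSeparated f] [DCoh.HasRpush f]

/-- Acyclic quasi-coherent terms, with a bound. -/
theorem isIso_unit_of_bound [HasInjectiveResolutions X.Modules] {N : ℤ} (hN : Bound f N)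
    (F : CochainComplex X.Modules ℤ) (hq : ∀ n : ℤ, Coh.IsQCoh (F.X n))
    (hac : ∀ (n : ℤ) (i : ℕ), 0 < i → IsZero ((Coh.Rpush f i).obj (F.X n))) :
    IsIso ((CountableSum.unit (Scheme.Modules.pushforward f)).app
      ((HomotopyCategory.quotient X.Modules (ComplexShape.up ℤ)).obj F)) := by
  haveI := HigherDirect.enoughInjectives_modules X
  haveI := HigherDirect.preservesFiniteLimits_pushforward f
  refine FiltDerived.isIso_unit_of_cmp (Scheme.Modules.pushforward f) F ?_
  rw [DerivedCategory.isIso_iff]
  intro j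
  let P := (Scheme.Modules.pushforward f).mapHomologicalComplex (ComplexShape.up ℤ)
  let n := max (N + 3 - j).toNat (2 - j).toNat
  let σ := StupidTower.σ F n
  let ι := StupidTower.incl F n
  have hι : ∀ i, -(n : ℤ) ≤ i → IsIso (ι.f i) := fun i hi =>
    (inferInstanceAs (IsIso (StupidTower.xIso F n i hi).hom))
  have hqσ : ∀ i, Coh.IsQCoh (σ.X i) := fun i => by
    by_cases h : -(n : ℤ) ≤ i
    · exact @QCohLib.isQuasicoherent_of_iso _ _ _ (StupidTower.xIso F n i h).symm (hq i)
    · exact QCohLib.isQuasicoherent_of_isZero (σ.isZero_of_isStrictlyGE (-(n : ℤ)) i (by omega))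
  haveI : IsIso ((FiltDerived.cmp (Scheme.Modules.pushforward f)).app σ) := by
    refine FiltDerived.isIso_cmp_app _ σ (CountableSum.isIso_unit_of_isStrictlyGE _ (DerAdj.modules_hKinj X) σ
      (-(n : ℤ)) fun m => ?_)
    by_cases h : -(n : ℤ) ≤ m
    · intro i hi
      exact (hac m i hi).of_iso ((Coh.Rpush f i).mapIso (StupidTower.xIso F n m h))
    · exact isAcyclicObj_of_isZero _ (σ.isZero_of_isStrictlyGE (-(n : ℤ)) m (by omega))
  let H := DerivedCategory.homologyFunctor S.Modules j
  haveI h1 : IsIso (H.map ((DCoh.Rpush f).map (DerivedCategory.Q.map ι))) :=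
    isIso_HD_Rpush_map f hN (DerivedCategory.Q.map ι) (DQC.isQCohD_toD σ hqσ) (DQC.isQCohD_toD F hq)
      (-(n : ℤ) + 1) (fun i hi => by
        refine (NatIso.isIso_map_iff (DerivedCategory.homologyFunctorFactors X.Modules i) ι).2 ?_
        exact isIso_homologyMap_of_window ι i fun k hk => hι k (by omega)) j (by omega)
  haveI h2 : IsIso (H.map (DerivedCategory.Q.map (P.map ι))) := by
    refine (NatIso.isIso_map_iff (DerivedCategory.homologyFunctorFactors S.Modules j) (P.map ι)).2 ?_
    refine isIso_homologyMap_of_window (P.map ι) j fun k hk => ?_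
    haveI := hι k (by omega)
    exact inferInstanceAs (IsIso ((Scheme.Modules.pushforward f).map (ι.f k)))
  have hsq : H.map (DerivedCategory.Q.map (P.map ι)) ≫
      H.map ((FiltDerived.cmp (Scheme.Modules.pushforward f)).app F) =
      H.map ((FiltDerived.cmp (Scheme.Modules.pushforward f)).app σ) ≫
      H.map ((DCoh.Rpush f).map (DerivedCategory.Q.map ι)) := by
    rw [← H.map_comp, ← H.map_comp]
    exact congrArg H.map ((FiltDerived.cmp (Scheme.Modules.pushforward f)).naturality ι)
  haveI : IsIso (H.map (DerivedCategory.Q.map (P.map ι)) ≫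
      H.map ((FiltDerived.cmp (Scheme.Modules.pushforward f)).app F)) := by
    rw [hsq]
    infer_instance
  exact IsIso.of_isIso_comp_left (H.map (DerivedCategory.Q.map (P.map ι))) _

omit [DCoh.HasRpush f] in
/-- Acyclic quasi-coherent terms, over any base. -/
theorem isIso_unit_of_qcoh_acyclic [DCoh.HasRpush f] [HasInjectiveResolutions X.Modules]
    (F : CochainComplex X.Modules ℤ) (hq : ∀ n : ℤ, Coh.IsQCoh (F.X n))
    (hac : ∀ (n : ℤ) (i : ℕ), 0 < i → IsZero ((Coh.Rpush f i).obj (F.X n))) :
    IsIso ((CountableSum.unit (Scheme.Modules.pushforward f)).app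
      ((HomotopyCategory.quotient X.Modules (ComplexShape.up ℤ)).obj F)) := by
  obtain ⟨I, s, hI, hs⟩ := DerAdj.modules_hKinj X F
  haveI := hI
  haveI := hs
  rw [isIso_unit_iff_push f s]
  refine isIso_of_restrictD _ fun V => ?_
  intro hV
  let U := f ⁻¹ᵁ V.1
  haveI : IsAffine V.1.toScheme := V.2
  haveI : PreservesFiniteLimits (Scheme.Modules.restrictFunctor U.ι) := CxOX.preservesFiniteLimits_restrictFunctor _
  haveI := preservesFiniteColimits_restrict V.1.ι
  haveI := preservesFiniteColimits_restrict U.ι
  haveI := hasRpush (f ∣_ V.1)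
  haveI := HigherDirect.hasInjectiveResolutions_modules U.toScheme
  obtain ⟨φ⟩ := HigherDirect.nonempty_push_restrict_iso f V.1
  obtain ⟨N, hN⟩ := exists_Bound (f ∣_ V.1)
  let RU := (Scheme.Modules.restrictFunctor U.ι).mapHomologicalComplex (ComplexShape.up ℤ)
  haveI : CochainComplex.IsKInjective (RU.obj I) := isKInjective_restrict U I
  haveI : QuasiIso (RU.map s) := inferInstance
  have h := (isIso_unit_iff_push (f ∣_ V.1) (RU.map s)).1 (isIso_unit_of_bound (f ∣_ V.1) hN (RU.obj F)
    (fun n => isQCoh_restrict U.ι (hq n)) fun n i hi => by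
      obtain ⟨e⟩ := HigherDirect.nonempty_rpush_restrict_iso f V.1 i
      exact ((Scheme.Modules.restrictFunctor V.1.ι).map_isZero (hac n i hi)).of_iso (e.app (F.X n)).symm)
  refine (NatIso.isIso_map_iff (Functor.associator _ _ _ ≪≫
    Functor.isoWhiskerLeft _ (Scheme.Modules.restrictFunctor V.1.ι).mapDerivedCategoryFactors ≪≫
    (Functor.associator _ _ _).symm ≪≫ Functor.isoWhiskerRight
      (NatIso.ofComponents (fun K : CochainComplex X.Modules ℤ =>
        (HomologicalComplex.Hom.isoOfComponents (fun i => φ.app (K.X i))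
          (fun i j _ => (φ.hom.naturality (K.d i j)).symm) :
          ((Scheme.Modules.restrictFunctor V.1.ι).mapHomologicalComplex (ComplexShape.up ℤ)).obj
            (((Scheme.Modules.pushforward f).mapHomologicalComplex (ComplexShape.up ℤ)).obj K) ≅
          ((Scheme.Modules.pushforward (f ∣_ V.1)).mapHomologicalComplex (ComplexShape.up ℤ)).obj (RU.obj K)))
        (fun g => HomologicalComplex.hom_ext _ _ fun i => φ.hom.naturality (g.f i)) :
        (Scheme.Modules.pushforward f).mapHomologicalComplex (ComplexShape.up ℤ) ⋙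
          (Scheme.Modules.restrictFunctor V.1.ι).mapHomologicalComplex (ComplexShape.up ℤ) ≅
          RU ⋙ (Scheme.Modules.pushforward (f ∣_ V.1)).mapHomologicalComplex (ComplexShape.up ℤ)) _ ≪≫
    Functor.associator _ _ _ :
      ((Scheme.Modules.pushforward f).mapHomologicalComplex (ComplexShape.up ℤ) ⋙ DerivedCategory.Q) ⋙
        DCoh.restrictD V.1.ι ≅
      RU ⋙ (Scheme.Modules.pushforward (f ∣_ V.1)).mapHomologicalComplex (ComplexShape.up ℤ) ⋙ DerivedCategory.Q) s).2 h

end Groth.Agent.DQCPush
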