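import Groth.Agent.DQCPush.Window
import Groth.Agent.QCohLib.StalkLoc
import Groth.Agent.QCohLib.StalkRestrict

/-!
# `Rf_*` along an affine morphism reflects isomorphisms on `D_QCoh`
-/

set_option autoImplicit false
set_option linter.style.haveILetI false
set_option backward.isDefEq.respectTransparency false
set_option backward.isDefEq.respectTransparency.types false
universe u

open CategoryTheory CategoryTheory.Limits CategoryTheory.Pretriangulated AlgebraicGeometry DerivedCategory

attribute [local instance] HasDerivedCategory.standard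

namespace Groth.Agent.DQCPush

open RlimLib

variable {X S : Scheme.{u}} (f : X ⟶ S) [IsAffineHom f]

/-- A quasi-coherent sheaf with zero direct image along an affine morphism is zero. -/
theorem isZero_of_isZero_push (M : X.Modules) (hM : Coh.IsQCoh M)
    (h : IsZero ((Scheme.Modules.pushforward f).obj M)) : IsZero M := by
  haveI : M.IsQuasicoherent := hM
  refine QCohLib.isZero_of_subsingleton_stalk fun x => ?_
  obtain ⟨V, hV⟩ := QCohLib.exists_affine_mem (f x)
  refine (QCohLib.subsingleton_stalk_iff (V.2.preimage f) x hV).2 fun s => ⟨1, ?_, ?_⟩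
  · exact (X.basicOpen_of_isUnit isUnit_one).symm ▸ hV
  · haveI : Subsingleton Γ(M, f ⁻¹ᵁ V.1) := QCohLib.subsingleton_sections_of_isZero h V.1
    exact Subsingleton.elim _ _

variable [DCoh.HasRpush f] [HasInjectiveResolutions X.Modules]

/-- `Rf_* C = 0` forces `C = 0` for affine `f`. -/
theorem isZero_HD_of_isZero_Rpush (C : DCoh.D X) (hC : DCoh.IsQCohD C)
    (h : ∀ j, IsZero (DCoh.HD ((DCoh.Rpush f).obj C) j)) (i : ℤ) : IsZero (DCoh.HD C i) := by
  have hN := bound_zero_of_isAffineHom f
  let n := (-i).toNat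
  haveI := isIso_HD_Rpush_tge f 0 hN C hC n i (by omega)
  have key : ∀ (k : ℕ) (c : ℤ), -(n : ℤ) + k = c → c ≤ i → IsZero (DCoh.HD ((DCoh.Rpush f).obj (tge c C)) i) := by
    intro k
    induction k with
    | zero =>
      intro c hc _
      obtain rfl : c = -(n : ℤ) := by omega
      exact (h i).of_iso
        (asIso ((homologyFunctor S.Modules i).map ((DCoh.Rpush f).map (tgeπ (-(n : ℤ)) C)))).symm
    | succ k ih =>
      intro c hc hci
      obtain ⟨F, φ, δ, hT, ⟨e⟩⟩ := exists_layer C (c - 1) c (by omega)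
      obtain ⟨γ, hγ⟩ := DerAdj.exists_distinguished_map (Scheme.Modules.pushforward f) (DerAdj.modules_hKinj X) _ hT
      refine (HomologySequence.exact₃ _ hγ i (i + 1) rfl).isZero_X₂
        ((ih (c - 1) (by omega) (by omega)).eq_of_src _ _) (IsZero.eq_of_tgt ?_ _ _)
      exact isZero_HD_Rpush_single f F (c - 1) (i + 1) fun p hp =>
        (hN _ (hC (c - 1)) p (by omega)).of_iso ((Coh.Rpush f p).mapIso e)
  obtain ⟨F, φ, δ, hT, ⟨e⟩⟩ := exists_layer C i (i + 1) rfl
  obtain ⟨γ, hγ⟩ := DerAdj.exists_distinguished_map (Scheme.Modules.pushforward f) (DerAdj.modules_hKinj X) _ hT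
  haveI := isGE_tge C (i + 1)
  haveI := isGE_Rpush f (tge (i + 1) C) (i + 1)
  have hz : IsZero (DCoh.HD ((DCoh.Rpush f).obj ((singleFunctor X.Modules i).obj F)) i) :=
    (HomologySequence.exact₁ _ hγ (i - 1) i (by omega)).isZero_X₂
      (IsZero.eq_of_src (((DerivedCategory.isGE_iff ((DCoh.Rpush f).obj (tge (i + 1) C)) (i + 1)).1 inferInstance) (i - 1) (by omega)) _ _)
      ((key (n + i).toNat i (by omega) le_rfl).eq_of_tgt _ _)
  haveI := HigherDirect.preservesFiniteLimits_pushforward f
  obtain ⟨e'⟩ := (DerAdj.nonempty_homology_RF_single (Scheme.Modules.pushforward f) (DerAdj.modules_hKinj X) F i i).2 0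
    (by simp)
  exact (isZero_of_isZero_push f F (@QCohLib.isQuasicoherent_of_iso _ _ _ e.symm (hC i))
    (hz.of_iso (((Scheme.Modules.pushforward f).rightDerivedZeroIsoSelf.app F).symm ≪≫ e'.symm))).of_iso e.symm

/-- `Rf_*` reflects isomorphisms on `D_QCoh` for affine `f`. -/
theorem isIso_of_isIso_Rpush_map {E F : DCoh.D X} (hE : DCoh.IsQCohD E) (hF : DCoh.IsQCohD F) (α : E ⟶ F)
    (hα : IsIso ((DCoh.Rpush f).map α)) : IsIso α := by
  obtain ⟨C, g, d, hT⟩ := distinguished_cocone_triangle α
  obtain ⟨γ, hγ⟩ := DerAdj.exists_distinguished_map (Scheme.Modules.pushforward f) (DerAdj.modules_hKinj X) _ hT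
  have hz : IsZero ((DCoh.Rpush f).obj C) := (Triangle.isZero₃_iff_isIso₁ _ hγ).2 hα
  have hC := isZero_HD_of_isZero_Rpush f C (isQCoh_obj₃ hT hE hF)
    fun j => (homologyFunctor S.Modules j).map_isZero hz
  rw [DerivedCategory.isIso_iff]
  intro i
  haveI hm := (HomologySequence.mono_homologyMap_mor₁_iff _ hT (i - 1) i (by omega)).2 ((hC (i - 1)).eq_of_src _ _)
  haveI he := (HomologySequence.epi_homologyMap_mor₁_iff _ hT i).2 ((hC i).eq_of_tgt _ _)
  exact @isIso_of_mono_of_epi _ _ _ _ _ _ hm he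

end Groth.Agent.DQCPush
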