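import Groth.Agent.DQCPush.Restrict
import Groth.Agent.RlimLib.SitePush
import Groth.Agent.HigherDirect.Base
import Groth.Agent.HigherDirect.KerCx
import Groth.Prelude.Def_DCoh2

/-!
# `Rf_*` on complexes with quasi-coherent cohomology: amplitude and quasi-coherence
-/

set_option autoImplicit false
set_option linter.style.haveILetI false
set_option backward.isDefEq.respectTransparency false
set_option backward.isDefEq.respectTransparency.types false
universe u

open CategoryTheory CategoryTheory.Limits CategoryTheory.Pretriangulated AlgebraicGeometry Opposite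
  TopologicalSpace

attribute [local instance] HasDerivedCategory.standard

namespace Groth.Agent.DQCPush

open RlimLib

variable {X S : Scheme.{u}} (f : X ⟶ S)

/-- `Rf_*` preserves lower bounds of cohomology. -/
theorem isGE_Rpush [DCoh.HasRpush f] (F : DCoh.D X) (n : ℤ) [F.IsGE n] : ((DCoh.Rpush f).obj F).IsGE n := by
  haveI := HigherDirect.enoughInjectives_modules X
  obtain ⟨L, _, ⟨e⟩⟩ := DerivedCategory.exists_iso_Q_obj_of_isGE F n
  obtain ⟨I, i, hi, hI, hIn⟩ := CochainComplex.Plus.modelCategoryQuillen.exists_quasiIso_injective L n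
  haveI := hIn
  haveI : ∀ k, Injective (I.X k) := hI
  haveI : I.IsKInjective := CochainComplex.isKInjective_of_injective I n
  haveI := hi
  obtain ⟨e'⟩ := DerAdj.nonempty_RF_iso (Scheme.Modules.pushforward f) (DerAdj.modules_hKinj X) I
  exact DerivedCategory.TStructure.t.isGE_of_iso
    (((DCoh.Rpush f).mapIso (e ≪≫ asIso (DerivedCategory.Q.map i))) ≪≫ e').symm n

/-- Direct images of one sheaf in degree `a`. -/
theorem isZero_HD_Rpush_single [DCoh.HasRpush f] [HasInjectiveResolutions X.Modules] (M : X.Modules) (a i : ℤ)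
    (h : ∀ p : ℕ, a + (p : ℤ) = i → IsZero ((Coh.Rpush f p).obj M)) :
    IsZero (DCoh.HD ((DCoh.Rpush f).obj ((DerivedCategory.singleFunctor X.Modules a).obj M)) i) := by
  obtain ⟨h1, h2⟩ := DerAdj.nonempty_homology_RF_single (Scheme.Modules.pushforward f) (DerAdj.modules_hKinj X) M a i
  by_cases hlt : i < a
  · exact h1 hlt
  · obtain ⟨p, hp⟩ : ∃ p : ℕ, a + (p : ℤ) = i := ⟨(i - a).toNat, by omega⟩
    exact IsZero.of_iso (h p hp) (h2 p hp).some

/-- Quasi-coherent sheaves have no higher cohomology on an affine open. -/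
theorem subsingleton_HU_affine (M : X.Modules) (hM : Coh.IsQCoh M) {U : X.Opens} (hU : IsAffineOpen U) (k : ℕ)
    (hk : 0 < k) : Subsingleton (ModSite.HU X.sheaf M k U) := by
  obtain ⟨k, rfl⟩ := Nat.exists_eq_succ_of_ne_zero hk.ne'
  haveI : M.IsQuasicoherent := hM
  exact CohVanish.subsingleton_EU_of_isAffineOpen M hU k

/-- Uniform bound over the affine opens contained in a fixed affine open of the base. -/
theorem exists_bound_HU_affine [QuasiCompact f] [QuasiSeparated f] {V : S.Opens} (hV : IsAffineOpen V) :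
    ∃ d : ℕ, ∀ (U : S.Opens), IsAffineOpen U → U ≤ V →
      ∀ (M : X.Modules), Coh.IsQCoh M → ∀ k : ℕ, d < k → Subsingleton (ModSite.HU X.sheaf M k (f ⁻¹ᵁ U)) := by
  haveI : IsAffine V.toScheme := hV
  let Z : Scheme.{u} := (f ⁻¹ᵁ V : X.Opens)
  haveI : QuasiSeparatedSpace Z := quasiSeparatedSpace_of_quasiSeparated (f ∣_ V)
  haveI : CompactSpace Z := QuasiCompact.compactSpace_of_compactSpace (f ∣_ V)
  obtain ⟨d, hd⟩ := HigherDirect.exists_uniform_bound (⊤ : Z.Opens) isCompact_univ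
  refine ⟨d, fun U hU hUV M hM n hn => ?_⟩
  haveI : M.IsQuasicoherent := hM
  let j : Z ⟶ X := (f ⁻¹ᵁ V).ι
  let D : Z.Opens := (f ∣_ V) ⁻¹ᵁ (V.ι ⁻¹ᵁ U)
  have hD : ∀ W : Z.Opens, IsAffineOpen W → W ≤ ⊤ → IsAffineOpen (W ⊓ D) := fun W hW _ => by
    have h : IsAffineOpen (V.ι ⁻¹ᵁ U) := hU.preimage_of_isOpenImmersion V.ι (by simpa using hUV)
    haveI : IsAffine (W : Scheme.{u}) := hW
    haveI : IsAffineHom (W.ι ≫ (f ∣_ V)) := isAffineHom_of_isAffine _
    have h2 := (h.preimage (W.ι ≫ (f ∣_ V))).image_of_isOpenImmersion W.ι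
    rwa [Scheme.Hom.comp_preimage, Scheme.Hom.image_preimage_eq_opensRange_inf, Scheme.Opens.opensRange_ι] at h2
  have h2 := hd D hD (M.restrict j) n hn.le
  rw [top_inf_eq] at h2
  obtain ⟨e⟩ := CohVanish.nonempty_EU_restrict_equiv (X := CohVanish.sp Z) (Y := CohVanish.sp X) j.isOpenEmbedding
    (Coh.toAb M) D n
  have he : j ''ᵁ D = f ⁻¹ᵁ U := by
    rw [show D = (f ∣_ V) ⁻¹ᵁ (V.ι ⁻¹ᵁ U) from rfl, image_morphismRestrict_preimage,
      Scheme.Hom.image_preimage_eq_opensRange_inf, Scheme.Opens.opensRange_ι, inf_eq_right.2 hUV]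
  rw [← he]
  exact @Function.Injective.subsingleton _ _ _ e.injective h2

theorem covers_affine (S : Scheme.{u}) :
    RlimLib.Covers (Opens.grothendieckTopology S) (fun V : S.Opens => IsAffineOpen V) := by
  intro U
  refine ⟨Sieve.ofArrows (fun V : {V : S.Opens // IsAffineOpen V ∧ V ≤ U} => V.1) (fun V => homOfLE V.2.2),
    fun x hx => ?_, fun W w hw => ?_⟩
  · obtain ⟨V, hV, hxV, hle⟩ := Opens.isBasis_iff_nbhd.mp S.isBasis_affineOpens hx
    exact ⟨V, homOfLE hle, Sieve.ofArrows_mk _ _ (⟨V, hV, hle⟩ : {V : S.Opens // IsAffineOpen V ∧ V ≤ U}), hxV⟩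
  · obtain ⟨W', a, b, ⟨V⟩, rfl⟩ := hw
    exact ⟨_, a, _, V.2.1, rfl⟩

/-- Covering families of affine opens refining a sieve. -/
theorem exists_affine_refinement {V : S.Opens} (T : Sieve V) (hT : T ∈ Opens.grothendieckTopology S V) :
    ∃ (ι : Type u) (Y : ι → S.Opens) (g : ∀ i, Y i ⟶ V), (∀ i, T.arrows (g i)) ∧
      Sieve.ofArrows Y g ∈ Opens.grothendieckTopology S V ∧ ∀ i, IsAffineOpen (Y i) ∧ Y i ≤ V := by
  refine ⟨{W : S.Opens // IsAffineOpen W ∧ ∃ h : W ≤ V, T.arrows (homOfLE h)}, fun W => W.1,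
    fun W => homOfLE W.2.2.choose, fun W => W.2.2.choose_spec, fun x hx => ?_, fun W => ⟨W.2.1, W.2.2.choose⟩⟩
  obtain ⟨U, g, hg, hxU⟩ := hT x hx
  obtain ⟨W, hW, hxW, hle⟩ := Opens.isBasis_iff_nbhd.mp S.isBasis_affineOpens hxU
  exact ⟨W, homOfLE (hle.trans (leOfHom g)), Sieve.ofArrows_mk _ _
    (⟨W, hW, hle.trans (leOfHom g), T.downward_closed hg (homOfLE hle)⟩ :
      {W : S.Opens // IsAffineOpen W ∧ ∃ h : W ≤ V, T.arrows (homOfLE h)}), hxW⟩

/-- For a bound `N` on the higher direct images of quasi-coherent sheaves, `Rf_*` sees only a truncation. -/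
theorem isIso_HD_Rpush_tge [QuasiCompact f] [QuasiSeparated f] [DCoh.HasRpush f]
    [HasInjectiveResolutions X.Modules] (N : ℤ)
    (hN : ∀ M : X.Modules, Coh.IsQCoh M → ∀ p : ℕ, N < (p : ℤ) → IsZero ((Coh.Rpush f p).obj M))
    (K : DCoh.D X) (hK : DCoh.IsQCohD K) (n : ℕ) (j : ℤ) (hj : N - (n : ℤ) ≤ j) :
    IsIso ((DerivedCategory.homologyFunctor S.Modules j).map ((DCoh.Rpush f).map (tgeπ (-(n : ℤ)) K))) := by
  haveI : HasInjectiveResolutions (ModSite.Mod X.sheaf) := ‹HasInjectiveResolutions X.Modules›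
  haveI : SiteCmp.HasRpushD (ModSite.RMor.ofScheme f) := ‹DCoh.HasRpush f›
  refine RlimLib.isIso_RpushD_tge (ModSite.RMor.ofScheme f) (fun M : X.Modules => Coh.IsQCoh M)
    (fun V : X.Opens => IsAffineOpen V) (covers_affine X) (fun V hV => ⟨0, fun T hT => ?_⟩)
    (fun V : S.Opens => IsAffineOpen V) (covers_affine S) (fun V hV => ?_)
    (fun e h => @QCohLib.isQuasicoherent_of_iso _ _ _ e h) N hN K hK n j hj
  · obtain ⟨ι, Y, g, h1, h2, h3⟩ := exists_affine_refinement T hT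
    exact ⟨ι, Y, g, h1, h2, fun i M hM k hk => subsingleton_HU_affine M hM (h3 i).1 k hk⟩
  · obtain ⟨d, hd⟩ := exists_bound_HU_affine f hV
    refine ⟨d, fun T hT => ?_⟩
    obtain ⟨ι, Y, g, h1, h2, h3⟩ := exists_affine_refinement T hT
    exact ⟨ι, Y, g, h1, h2, fun i M hM k hk => hd _ (h3 i).1 (h3 i).2 M hM k hk⟩

/-- `Rf_*` has bounded amplitude on complexes with quasi-coherent cohomology. -/
theorem exists_bound [QuasiCompact f] [QuasiSeparated f] [CompactSpace S] [DCoh.HasRpush f] :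
    ∃ N : ℤ, ∀ (E : DCoh.D X), DCoh.IsQCohD E → E.IsLE 0 → ∀ m : ℤ, N ≤ m →
      IsZero (DCoh.HD ((DCoh.Rpush f).obj E) m) := by
  haveI := HigherDirect.hasInjectiveResolutions_modules X
  obtain ⟨N, hN⟩ := HigherDirect.exists_bound_rpushAb f
  have hN' : ∀ M : X.Modules, Coh.IsQCoh M → ∀ p : ℕ, (N : ℤ) < (p : ℤ) → IsZero ((Coh.Rpush f p).obj M) :=
    fun M hM p hp => HigherDirect.isZero_rpush_of_isZero_rpushAb f M p (hN M hM p (by omega))
  refine ⟨N + 1, fun E hE hE0 m hm => ?_⟩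
  haveI := isIso_HD_Rpush_tge f N hN' E hE 0 m (by omega)
  refine IsZero.of_iso ?_ (asIso ((DerivedCategory.homologyFunctor S.Modules m).map
    ((DCoh.Rpush f).map (tgeπ (-((0 : ℕ) : ℤ)) E))))
  let T := tge (-((0 : ℕ) : ℤ)) E
  haveI : T.IsGE 0 := by
    rw [DerivedCategory.isGE_iff]
    exact fun i hi => isZero_homology_tge E (by simpa using hi)
  haveI : T.IsLE 0 := by
    rw [DerivedCategory.isLE_iff]
    intro i hi
    haveI := isIso_homology_tgeπ E (a := -((0 : ℕ) : ℤ)) (i := i) (by omega)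
    exact ((DerivedCategory.isLE_iff E 0).1 hE0 i hi).of_iso
      (asIso ((DerivedCategory.homologyFunctor X.Modules i).map (tgeπ (-((0 : ℕ) : ℤ)) E))).symm
  obtain ⟨M, ⟨e⟩⟩ := DerivedCategory.exists_iso_singleFunctor_obj_of_isGE_of_isLE T 0
  have hM : Coh.IsQCoh M := by
    haveI := isIso_homology_tgeπ E (a := -((0 : ℕ) : ℤ)) (i := 0) (by simp)
    haveI : (DCoh.HD E 0).IsQuasicoherent := hE 0
    exact QCohLib.isQuasicoherent_of_iso
      (asIso ((DerivedCategory.homologyFunctor X.Modules 0).map (tgeπ (-((0 : ℕ) : ℤ)) E)) ≪≫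
        (DerivedCategory.homologyFunctor X.Modules 0).mapIso e ≪≫
        (DerivedCategory.singleFunctorCompHomologyFunctorIso X.Modules 0).app M)
  exact (isZero_HD_Rpush_single f M 0 m fun p hp => hN' M hM p (by omega)).of_iso
    ((DerivedCategory.homologyFunctor S.Modules m).mapIso ((DCoh.Rpush f).mapIso e))

end Groth.Agent.DQCPush
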