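import Groth.Agent.DQCPush.Window

/-!
# Derived functors on bounded objects, by dévissage
-/

set_option autoImplicit false
set_option linter.style.haveILetI false
set_option backward.isDefEq.respectTransparency false
set_option backward.isDefEq.respectTransparency.types false

universe w u

open CategoryTheory CategoryTheory.Limits CategoryTheory.Pretriangulated DerivedCategory ZeroObject

namespace Groth.Agent.DQCPush

open RlimLib

variable {A : Type (u + 1)} [Category.{u} A] [Abelian A] [HasDerivedCategory.{w} A]
  {B : Type (u + 1)} [Category.{u} B] [Abelian B] [HasDerivedCategory.{w} B] [HasInjectiveResolutions A] (F : A ⥤ B) [F.Additive]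
  [(F.mapHomotopyCategory (ComplexShape.up ℤ) ⋙ DerivedCategory.Qh).HasRightDerivedFunctor
    (HomotopyCategory.quasiIso A (ComplexShape.up ℤ))]

/-- Vanishing of `Hⁱ(RF E)` for `E` in degrees `[a, b]`. -/
theorem isZero_RF_of_amplitude
    (hKinj : ∀ K : CochainComplex A ℤ, ∃ (I : CochainComplex A ℤ) (f : K ⟶ I), I.IsKInjective ∧ QuasiIso f)
    (E : DerivedCategory A) (a b : ℤ) (hab : ∀ k : ℤ, k < a ∨ b < k → IsZero ((homologyFunctor A k).obj E))
    (i : ℤ) (h : ∀ (c : ℤ) (M : A), a ≤ c → c ≤ b → ((homologyFunctor A c).obj E ≅ M) →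
      ∀ p : ℕ, c + (p : ℤ) = i → IsZero ((F.rightDerived p).obj M)) :
    IsZero ((homologyFunctor B i).obj ((DerAdj.RFun F).obj E)) := by
  haveI := preservesZeroMorphisms_RFun F hKinj
  haveI : IsIso (tgeπ a E) := by
    rw [DerivedCategory.isIso_iff]
    intro l
    by_cases hl : a ≤ l
    · exact isIso_homology_tgeπ E hl
    · exact isIso_of_source_target_iso_zero _ (hab l (by omega)).isoZero
        (isZero_homology_tge E (by omega)).isoZero
  refine IsZero.of_iso ?_ ((homologyFunctor B i).mapIso ((DerAdj.RFun F).mapIso (asIso (tgeπ a E))))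
  suffices key : ∀ (k : ℕ) (c : ℤ), a ≤ c → b < c + k →
      IsZero ((homologyFunctor B i).obj ((DerAdj.RFun F).obj (tge c E))) from
    key (b - a + 1).toNat a le_rfl (by omega)
  intro k
  induction k with
  | zero =>
    intro c hc hcb
    have hz : IsZero (tge c E) := by
      haveI : IsIso (0 : tge c E ⟶ 0) := by
        rw [DerivedCategory.isIso_iff]
        intro l
        refine isIso_of_source_target_iso_zero _ (IsZero.isoZero ?_)
          ((homologyFunctor A l).map_isZero (isZero_zero _)).isoZero
        by_cases hl : c ≤ l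
        · haveI := isIso_homology_tgeπ E hl
          exact (hab l (by omega)).of_iso (asIso ((homologyFunctor A l).map (tgeπ c E))).symm
        · exact isZero_homology_tge E (by omega)
      exact (isZero_zero _).of_iso (asIso (0 : tge c E ⟶ 0))
    exact (homologyFunctor B i).map_isZero ((DerAdj.RFun F).map_isZero hz)
  | succ k ih =>
    intro c hc hcb
    by_cases hcb' : b < c + k
    · exact ih c hc hcb'
    obtain ⟨M, φ, δ, hT, ⟨e⟩⟩ := exists_layer E c (c + 1) rfl
    obtain ⟨γ, hγ⟩ := DerAdj.exists_distinguished_map F hKinj _ hT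
    refine (HomologySequence.exact₂ _ hγ i).isZero_X₂ (IsZero.eq_of_src ?_ _ _)
      ((ih (c + 1) (by omega) (by omega)).eq_of_tgt _ _)
    obtain ⟨h1, h2⟩ := DerAdj.nonempty_homology_RF_single F hKinj M c i
    by_cases hlt : i < c
    · exact h1 hlt
    · obtain ⟨p, hp⟩ : ∃ p : ℕ, c + (p : ℤ) = i := ⟨(i - c).toNat, by omega⟩
      exact (h c M hc (by omega) e.symm p hp).of_iso (h2 p hp).some

end Groth.Agent.DQCPush
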