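import Groth.Agent.DerAdj.RFHomology
import Groth.Agent.DerAdj.Basic

/-!
# Total right derived functors and composition with exact functors
-/

set_option autoImplicit false
set_option linter.style.haveILetI false

universe w₁ w₂ w₃ w₄ v₁ v₂ v₃ v₄ u₁ u₂ u₃ u₄

open CategoryTheory CategoryTheory.Limits

namespace Groth.Agent.DQCPush

section General

variable {C D H : Type*} [Category* C] [Category* D] [Category* H]
  (L : C ⥤ D) (W : MorphismProperty C) [L.IsLocalization W] {F : C ⥤ H}

/-- A functor computed by the derived-bijective objects of a resolving family is the right derived functor. -/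
theorem isRightDerivedFunctor_of_isIso_app (G : D ⥤ H) (α : F ⟶ L ⋙ G)
    (hres : ∀ Y : C, ∃ (I : C) (s : Y ⟶ I), W s ∧
      (∀ X : C, Function.Bijective (L.map : (X ⟶ I) → _)) ∧ IsIso (α.app I)) :
    G.IsRightDerivedFunctor α W := by
  have hres' : ∀ Y : C, ∃ (I : C) (s : Y ⟶ I), W s ∧
      ∀ X : C, Function.Bijective (L.map : (X ⟶ I) → _) := fun Y => by
    obtain ⟨I, s, h1, h2, -⟩ := hres Y
    exact ⟨I, s, h1, h2⟩
  haveI := TriH.hasPointwiseRightDerivedFunctor_of_bijective hres' F
  let P := F.totalRightDerived L W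
  let u := F.totalRightDerivedUnit L W
  rw [P.isRightDerivedFunctor_iff_isIso_rightDerivedDesc u W]
  haveI := Localization.essSurj L W
  set τ := P.rightDerivedDesc u W G α
  haveI : ∀ Y : D, IsIso (τ.app Y) := fun Y => by
    obtain ⟨I, s, hs, hbij, hα⟩ := hres (L.objPreimage Y)
    haveI : IsIso (L.map s) := Localization.inverts L W s hs
    haveI : IsIso (u.app I) := TriH.isIso_unit_of_bijective (W := W) F P u I hbij
    have hI : IsIso (τ.app (L.obj I)) :=
      @IsIso.of_isIso_fac_left _ _ _ _ _ (u.app I) _ _ _ hα (P.rightDerived_fac_app u W G α I)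
    exact (NatTrans.isIso_app_iff_of_iso τ ((L.objObjPreimageIso Y).symm ≪≫ asIso (L.map s))).mpr hI
  exact NatIso.isIso_of_isIso_app τ

end General

section Exact

variable {A : Type u₁} [Category.{v₁} A] [Abelian A] [HasDerivedCategory.{w₁} A]
  {B : Type u₂} [Category.{v₂} B] [Abelian B] [HasDerivedCategory.{w₂} B]
  {A' : Type u₃} [Category.{v₃} A'] [Abelian A'] [HasDerivedCategory.{w₃} A']
  {B' : Type u₄} [Category.{v₄} B'] [Abelian B'] [HasDerivedCategory.{w₄} B']
  (F : A ⥤ B) [F.Additive] (R : B ⥤ B') [R.Additive] [PreservesFiniteLimits R] [PreservesFiniteColimits R]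
  (R' : A ⥤ A') [R'.Additive] [PreservesFiniteLimits R'] [PreservesFiniteColimits R']
  (F' : A' ⥤ B') [F'.Additive]
  [(F.mapHomotopyCategory (ComplexShape.up ℤ) ⋙ DerivedCategory.Qh).HasRightDerivedFunctor
    (HomotopyCategory.quasiIso A (ComplexShape.up ℤ))]
  [(F'.mapHomotopyCategory (ComplexShape.up ℤ) ⋙ DerivedCategory.Qh).HasRightDerivedFunctor
    (HomotopyCategory.quasiIso A' (ComplexShape.up ℤ))]

/-- An isomorphism `F ⋙ R ≅ R' ⋙ F'` on homotopy categories. -/
noncomputable def mapHomotopyIso (φ : F ⋙ R ≅ R' ⋙ F') :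
    F.mapHomotopyCategory (ComplexShape.up ℤ) ⋙ R.mapHomotopyCategory (ComplexShape.up ℤ) ≅
      R'.mapHomotopyCategory (ComplexShape.up ℤ) ⋙ F'.mapHomotopyCategory (ComplexShape.up ℤ) :=
  NatIso.ofComponents
    (fun K => (HomotopyCategory.quotient B' (ComplexShape.up ℤ)).mapIso
      (HomologicalComplex.Hom.isoOfComponents (fun i => φ.app (K.as.X i))
        (fun i j _ => (φ.hom.naturality (K.as.d i j)).symm) :
        (R.mapHomologicalComplex _).obj ((F.mapHomologicalComplex _).obj K.as) ≅
          (F'.mapHomologicalComplex _).obj ((R'.mapHomologicalComplex _).obj K.as)))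
    (by
      rintro ⟨K⟩ ⟨L⟩ ⟨f : K ⟶ L⟩
      refine congrArg (HomotopyCategory.quotient B' (ComplexShape.up ℤ)).map
        (a₁ := (R.mapHomologicalComplex _).map ((F.mapHomologicalComplex _).map f) ≫ _)
        (a₂ := _ ≫ (F'.mapHomologicalComplex _).map ((R'.mapHomologicalComplex _).map f))
        (HomologicalComplex.hom_ext _ _ fun i => φ.hom.naturality (f.f i)))

/-- `RF` followed by an exact functor is `RF'` after an exact functor preserving K-injectives. -/
theorem nonempty_RF_comp_exact_iso (φ : F ⋙ R ≅ R' ⋙ F')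
    (hA : ∀ K : CochainComplex A ℤ, ∃ (I : CochainComplex A ℤ) (f : K ⟶ I), I.IsKInjective ∧ QuasiIso f)
    (hA' : ∀ K : CochainComplex A' ℤ, ∃ (I : CochainComplex A' ℤ) (f : K ⟶ I), I.IsKInjective ∧ QuasiIso f)
    (hR' : ∀ I : CochainComplex A ℤ, I.IsKInjective →
      CochainComplex.IsKInjective ((R'.mapHomologicalComplex _).obj I)) :
    Nonempty (DerAdj.RFun F ⋙ R.mapDerivedCategory ≅ R'.mapDerivedCategory ⋙ DerAdj.RFun F') := by
  let WA := HomotopyCategory.quasiIso A (ComplexShape.up ℤ)
  let WA' := HomotopyCategory.quasiIso A' (ComplexShape.up ℤ)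
  let P := F.mapHomotopyCategory (ComplexShape.up ℤ) ⋙ DerivedCategory.Qh
  let P' := F'.mapHomotopyCategory (ComplexShape.up ℤ) ⋙ DerivedCategory.Qh
  let β := P.totalRightDerivedUnit DerivedCategory.Qh WA
  let β' := P'.totalRightDerivedUnit DerivedCategory.Qh WA'
  haveI : P'.HasPointwiseRightDerivedFunctor WA' :=
    TriH.hasPointwiseRightDerivedFunctor_of_bijective (L := DerivedCategory.Qh)
      (TriH.exists_kInjective_homotopy hA') P'
  haveI h₁ : (DerAdj.RFun F ⋙ R.mapDerivedCategory).IsRightDerivedFunctor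
      (Functor.whiskerRight β R.mapDerivedCategory ≫ (Functor.associator _ _ _).hom) WA :=
    DerAdj.isRightDerivedFunctor_comp DerivedCategory.Qh WA (TriH.exists_kInjective_homotopy hA) _ β _
  let e : P ⋙ R.mapDerivedCategory ≅ R'.mapHomotopyCategory (ComplexShape.up ℤ) ⋙ P' :=
    Functor.associator _ _ _ ≪≫ Functor.isoWhiskerLeft _ R.mapDerivedCategoryFactorsh ≪≫
      (Functor.associator _ _ _).symm ≪≫ Functor.isoWhiskerRight (mapHomotopyIso F R R' F' φ) _ ≪≫
      Functor.associator _ _ _
  let α : P ⋙ R.mapDerivedCategory ⟶ DerivedCategory.Qh ⋙ (R'.mapDerivedCategory ⋙ DerAdj.RFun F') :=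
    e.hom ≫ Functor.whiskerLeft _ β' ≫ (Functor.associator _ _ _).inv ≫
      Functor.whiskerRight R'.mapDerivedCategoryFactorsh.inv _ ≫ (Functor.associator _ _ _).hom
  haveI h₂ : (R'.mapDerivedCategory ⋙ DerAdj.RFun F').IsRightDerivedFunctor α WA := by
    refine isRightDerivedFunctor_of_isIso_app DerivedCategory.Qh WA _ α fun Y => ?_
    obtain ⟨K, rfl⟩ := HomotopyCategory.quotient_obj_surjective Y
    obtain ⟨I, f, hI, hf⟩ := hA K
    refine ⟨_, (HomotopyCategory.quotient _ _).map f,
      (HomotopyCategory.quotient_map_mem_quasiIso_iff f).2 (by simpa using hf),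
      fun X => TriH.Qh_bijective_of_isKInjective I X, ?_⟩
    haveI := hR' I hI
    haveI : IsIso (β'.app ((R'.mapHomotopyCategory (ComplexShape.up ℤ)).obj
        ((HomotopyCategory.quotient A _).obj I))) :=
      TriH.isIso_unit_of_bijective (W := WA') P' _ β' _
        (fun X => TriH.Qh_bijective_of_isKInjective ((R'.mapHomologicalComplex _).obj I) X)
    simp only [α, NatTrans.comp_app, Functor.whiskerLeft_app, Functor.whiskerRight_app,
      Functor.associator_inv_app, Functor.associator_hom_app, Category.id_comp, Category.comp_id]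
    infer_instance
  exact ⟨Functor.rightDerivedUnique _ _ (Functor.whiskerRight β R.mapDerivedCategory ≫ (Functor.associator _ _ _).hom) α WA⟩

end Exact

end Groth.Agent.DQCPush
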