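import Groth.Agent.DQCPush.GammaUnit

/-!
# `RΓ(Y, Rf_*) = RΓ(X, -)`
-/

set_option autoImplicit false
set_option linter.style.haveILetI false
set_option backward.isDefEq.respectTransparency false
set_option backward.isDefEq.respectTransparency.types false
universe u

open CategoryTheory CategoryTheory.Limits AlgebraicGeometry

attribute [local instance] HasDerivedCategory.standard

namespace Groth.Agent.DQCPush

section

variable {A B C : Type*} [Category* A] [Abelian A] [Category* B] [Abelian B] [Category* C] [Abelian C]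
  (F : A ⥤ B) [F.Additive] (G : B ⥤ C) [G.Additive] (H : A ⥤ C) [H.Additive]

/-- Composites on homotopy categories. -/
noncomputable def mapHomotopyCompIso (φ : F ⋙ G ≅ H) :
    F.mapHomotopyCategory (ComplexShape.up ℤ) ⋙ G.mapHomotopyCategory (ComplexShape.up ℤ) ≅
      H.mapHomotopyCategory (ComplexShape.up ℤ) :=
  NatIso.ofComponents
    (fun K => (HomotopyCategory.quotient C (ComplexShape.up ℤ)).mapIso
      (HomologicalComplex.Hom.isoOfComponents (fun i => φ.app (K.as.X i))
        (fun i j _ => (φ.hom.naturality (K.as.d i j)).symm) :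
        (G.mapHomologicalComplex _).obj ((F.mapHomologicalComplex _).obj K.as) ≅
          (H.mapHomologicalComplex _).obj K.as))
    (by
      rintro ⟨K⟩ ⟨L⟩ ⟨f : K ⟶ L⟩
      refine congrArg (HomotopyCategory.quotient C (ComplexShape.up ℤ)).map
        (a₁ := (G.mapHomologicalComplex _).map ((F.mapHomologicalComplex _).map f) ≫ _)
        (a₂ := _ ≫ (H.mapHomologicalComplex _).map f)
        (HomologicalComplex.hom_ext _ _ fun i => φ.hom.naturality (f.f i)))

end

variable {X Y : Scheme.{u}} (f : X ⟶ Y)

/-- Derived global sections of the derived direct image. -/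
theorem nonempty_Rpush_RΓ_iso [DCoh.HasRpush f] [DCoh.HasRΓ X] [DCoh.HasRΓ Y] :
    Nonempty (DCoh.Rpush f ⋙ DCoh.RΓ Y ≅ DCoh.RΓ X) := by
  let WX := HomotopyCategory.quasiIso X.Modules (ComplexShape.up ℤ)
  let e : DCoh.gammaKh X ≅
      (Scheme.Modules.pushforward f).mapHomotopyCategory (ComplexShape.up ℤ) ⋙ DCoh.gammaKh Y :=
    Functor.isoWhiskerRight (mapHomotopyCompIso (Scheme.Modules.pushforward f) (DCoh.gammaAb Y) (DCoh.gammaAb X)
      (NatIso.ofComponents (fun _ => Iso.refl _) (fun _ => (Category.comp_id _).trans (Category.id_comp _).symm))).symm _ ≪≫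
      Functor.associator _ _ _
  let uf := TriH.CountableSum.unit (Scheme.Modules.pushforward f)
  let uΓ := TriH.CountableSum.unit (DCoh.gammaAb Y)
  let α : DCoh.gammaKh X ⟶ DerivedCategory.Qh ⋙ (DCoh.Rpush f ⋙ DCoh.RΓ Y) :=
    e.hom ≫ Functor.whiskerLeft _ uΓ ≫ (Functor.associator _ _ _).inv ≫
      Functor.whiskerRight uf (DCoh.RΓ Y) ≫ (Functor.associator _ _ _).hom
  haveI : (DCoh.Rpush f ⋙ DCoh.RΓ Y).IsRightDerivedFunctor α WX := by
    refine isRightDerivedFunctor_of_isIso_app DerivedCategory.Qh WX _ α fun K => ?_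
    obtain ⟨K, rfl⟩ := HomotopyCategory.quotient_obj_surjective K
    obtain ⟨I, s, hI, hs⟩ := DerAdj.modules_hKinj X K
    refine ⟨_, (HomotopyCategory.quotient _ _).map s,
      (HomotopyCategory.quotient_map_mem_quasiIso_iff s).2 (by simpa using hs),
      fun T => TriH.Qh_bijective_of_isKInjective I T, ?_⟩
    haveI h₁ : IsIso (uf.app ((HomotopyCategory.quotient X.Modules (ComplexShape.up ℤ)).obj I)) :=
      TriH.CountableSum.isIso_unit_inj (Scheme.Modules.pushforward f) (DerAdj.modules_hKinj X)
        (CochainComplex.IsKInjective.rightOrthogonal I)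
    haveI : IsIso (uΓ.app (((Scheme.Modules.pushforward f).mapHomotopyCategory (ComplexShape.up ℤ)).obj
        ((HomotopyCategory.quotient X.Modules (ComplexShape.up ℤ)).obj I))) :=
      isIso_unit_gamma_pushforward f I
    simp only [α, NatTrans.comp_app, Functor.whiskerLeft_app, Functor.whiskerRight_app,
      Functor.associator_inv_app, Functor.associator_hom_app, Category.id_comp, Category.comp_id]
    infer_instance
  exact ⟨Functor.rightDerivedUnique _ _ α
    ((DCoh.gammaKh X).totalRightDerivedUnit DerivedCategory.Qh WX) WX⟩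

end Groth.Agent.DQCPush
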