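import Groth.Agent.DQCPush.GammaAcyclic

/-!
# The unit of derived sections at direct images of K-injective complexes
-/

set_option autoImplicit false
set_option linter.style.haveILetI false
set_option backward.isDefEq.respectTransparency false
set_option backward.isDefEq.respectTransparency.types false
universe u

open CategoryTheory CategoryTheory.Limits AlgebraicGeometry

attribute [local instance] HasDerivedCategory.standard

namespace Groth.Agent.DQCPush

variable {X Y : Scheme.{u}} (f : X ⟶ Y)

/-- The unit of `RΓ` at the direct image of a K-injective complex is an isomorphism. -/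
theorem isIso_unit_gamma_pushforward [DCoh.HasRΓ Y] (B : CochainComplex X.Modules ℤ) [B.IsKInjective] :
    IsIso ((TriH.CountableSum.unit (DCoh.gammaAb Y)).app ((HomotopyCategory.quotient Y.Modules (ComplexShape.up ℤ)).obj
      (((Scheme.Modules.pushforward f).mapHomologicalComplex (ComplexShape.up ℤ)).obj B))) := by
  obtain ⟨J, s, hJ, hs⟩ := DerAdj.modules_hKinj Y
    (((Scheme.Modules.pushforward f).mapHomologicalComplex (ComplexShape.up ℤ)).obj B)
  rw [TriH.CountableSum.isIso_unit_iff (DCoh.gammaAb Y) (DerAdj.modules_hKinj Y)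
    ((HomotopyCategory.quotient Y.Modules (ComplexShape.up ℤ)).map s)
    ((HomotopyCategory.quotient_map_mem_quasiIso_iff s).2 (by simpa using hs))
    (CochainComplex.IsKInjective.rightOrthogonal J)]
  refine (NatIso.isIso_map_iff ((Functor.associator _ _ _).symm ≪≫
    Functor.isoWhiskerRight ((DCoh.gammaAb Y).mapHomotopyCategoryFactors (ComplexShape.up ℤ)) _ ≪≫
    Functor.associator _ _ _ ≪≫ Functor.isoWhiskerLeft _ (DerivedCategory.quotientCompQhIso AddCommGrpCat.{u}) :
      HomotopyCategory.quotient Y.Modules (ComplexShape.up ℤ) ⋙ TriH.CountableSum.Phi (DCoh.gammaAb Y) ≅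
        (DCoh.gammaAb Y).mapHomologicalComplex (ComplexShape.up ℤ) ⋙ DerivedCategory.Q) s).2 ?_
  haveI := quasiIso_gamma_pushforward f B s
  exact inferInstanceAs (IsIso (DerivedCategory.Q.map
    (((DCoh.gammaAb Y).mapHomologicalComplex (ComplexShape.up ℤ)).map s)))

/-- The same over an open of the target. -/
theorem isIso_unit_gamma_restrict (B : CochainComplex X.Modules ℤ) [B.IsKInjective] (U : Y.Opens)
    [DCoh.HasRΓ (U : Scheme.{u})] :
    IsIso (((DCoh.gammaKh (U : Scheme.{u})).totalRightDerivedUnit DerivedCategory.Qh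
      (HomotopyCategory.quasiIso (U : Scheme.{u}).Modules (ComplexShape.up ℤ))).app
      ((HomotopyCategory.quotient (U : Scheme.{u}).Modules (ComplexShape.up ℤ)).obj
        ((DCoh.restrictCx U).obj (((Scheme.Modules.pushforward f).mapHomologicalComplex (ComplexShape.up ℤ)).obj B)))) := by
  obtain ⟨φ⟩ := HigherDirect.nonempty_push_restrict_iso f U
  haveI := isKInjective_restrict (f ⁻¹ᵁ U) B
  let e := (mapHomotopyIso (Scheme.Modules.pushforward f) (Scheme.Modules.restrictFunctor U.ι)
    (Scheme.Modules.restrictFunctor (f ⁻¹ᵁ U).ι) (Scheme.Modules.pushforward (f ∣_ U)) φ).app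
      ((HomotopyCategory.quotient X.Modules (ComplexShape.up ℤ)).obj B)
  exact (NatTrans.isIso_app_iff_of_iso (TriH.CountableSum.unit (DCoh.gammaAb (U : Scheme.{u}))) e).2
    (isIso_unit_gamma_pushforward (f ∣_ U)
      (((Scheme.Modules.restrictFunctor (f ⁻¹ᵁ U).ι).mapHomologicalComplex (ComplexShape.up ℤ)).obj B))

end Groth.Agent.DQCPush
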