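import Groth.Agent.DQCPush.MVTri
import Groth.Agent.DQCPush.QCohD
import Groth.Agent.TriH.RPlus

/-!
# Sections with support outside a quasi-compact open
-/

set_option autoImplicit false
set_option linter.style.haveILetI false
set_option backward.isDefEq.respectTransparency false
set_option backward.isDefEq.respectTransparency.types false
universe u

open CategoryTheory CategoryTheory.Limits AlgebraicGeometry Opposite TopologicalSpace

attribute [local instance] HasDerivedCategory.standard

namespace Groth.Agent.DQCPush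

open Groth.Agent.HigherDirect

variable {X : Scheme.{u}} (U : X.Opens)

/-- The inclusion of sections with support. -/
noncomputable def gammaZι : DCoh.gammaZ U.ι ⟶ 𝟭 X.Modules where
  app F := kernel.ι _
  naturality F G φ := kernel.lift_ι _ _ _

lemma gammaZι_η (F : X.Modules) : (gammaZι U).app F ≫ (η U).app F = 0 := kernel.condition _

/-- The short complex of complexes. -/
noncomputable def zCx (I : CochainComplex X.Modules ℤ) : ShortComplex (CochainComplex X.Modules ℤ) :=
  ShortComplex.mk
    (X₂ := ((𝟭 X.Modules).mapHomologicalComplex _).obj I)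
    ((NatTrans.mapHomologicalComplex (gammaZι U) (ComplexShape.up ℤ)).app I)
    ((NatTrans.mapHomologicalComplex (η U) (ComplexShape.up ℤ)).app I)
    (HomologicalComplex.hom_ext _ _ fun n => gammaZι_η U (I.X n))

theorem shortExact_zCx (I : CochainComplex X.Modules ℤ) (hI : ∀ n, Injective (I.X n)) : (zCx U I).ShortExact :=
  HomologicalComplex.shortExact_of_degreewise_shortExact _ fun n => by
    haveI := hI n
    refine { exact := ?_, mono_f := ?_, epi_g := ?_ }
    · exact ShortComplex.exact_of_f_is_kernel _ (kernelIsKernel ((η U).app (I.X n)))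
    · exact inferInstanceAs (Mono (kernel.ι ((η U).app (I.X n))))
    · exact epi_of_app_surjective ((η U).app (I.X n)) fun O => res_surjective (I.X n) (U.ι.image_preimage_le O)

theorem isZero_restrict_gammaZ (F : X.Modules) :
    IsZero ((Scheme.Modules.restrictFunctor U.ι).obj ((DCoh.gammaZ U.ι).obj F)) := by
  haveI : PreservesFiniteLimits (Scheme.Modules.restrictFunctor U.ι) := CxOX.preservesFiniteLimits_restrictFunctor _
  let R := Scheme.Modules.restrictFunctor U.ι
  haveI : IsIso (R.map ((η U).app F)) := Scheme.Modules.Hom.isIso_iff_isIso_app.2 fun O =>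
    η_app_isIso U F (by
      intro x hx
      obtain ⟨y, _, rfl⟩ := hx
      exact y.2)
  haveI : Mono (R.map (kernel.ι ((η U).app F))) := inferInstance
  have h : R.map (kernel.ι ((η U).app F)) ≫ R.map ((η U).app F) = 0 := by
    rw [← Functor.map_comp, kernel.condition, Functor.map_zero]
  exact IsZero.of_mono_eq_zero (R.map (kernel.ι ((η U).app F))) (by
    rw [← cancel_mono (R.map ((η U).app F)), h, zero_comp])

theorem support_subset_of_isZero_restrict (M : X.Modules)
    (h : IsZero ((Scheme.Modules.restrictFunctor U.ι).obj M)) : CohB1.support M ⊆ (U : Set X)ᶜ := by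
  intro x hx hxU
  refine hx ⟨fun a b => ?_⟩
  suffices ∀ a : M.presheaf.stalk x, a = 0 by rw [this a, this b]
  intro a
  obtain ⟨V, hV, s, rfl⟩ := TopCat.Presheaf.exists_germ_eq M.presheaf a
  let W : X.Opens := U.ι ''ᵁ (U.ι ⁻¹ᵁ V)
  have hxW : x ∈ W := ⟨⟨x, hxU⟩, hV, rfl⟩
  rw [← TopCat.Presheaf.germ_res_apply M.presheaf (homOfLE (U.ι.image_preimage_le V)) x hxW s]
  have hz : IsZero ((CechShRes.secF (U.ι ⁻¹ᵁ V)).obj ((Scheme.Modules.restrictFunctor U.ι).obj M)) :=
    Functor.map_isZero _ h
  haveI : Subsingleton Γ(M, U.ι ''ᵁ U.ι ⁻¹ᵁ V) := AddCommGrpCat.subsingleton_of_isZero hz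
  rw [show M.presheaf.map (homOfLE (U.ι.image_preimage_le V)).op s = 0 from Subsingleton.elim _ _, map_zero]

/-- Cohomology of sections with support. -/
theorem gammaZ_qcoh [QuasiCompact U.ι] (I : CochainComplex X.Modules ℤ) [I.IsKInjective]
    (hI : ∀ n, Injective (I.X n)) (hE : DCoh.IsQCohD (DerivedCategory.Q.obj I)) (i : ℤ) :
    Coh.IsQCoh ((((DCoh.gammaZ U.ι).mapHomologicalComplex (ComplexShape.up ℤ)).obj I).homology i) ∧
    CohB1.support ((((DCoh.gammaZ U.ι).mapHomologicalComplex (ComplexShape.up ℤ)).obj I).homology i) ⊆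
      (U : Set X)ᶜ := by
  haveI : PreservesFiniteLimits (Scheme.Modules.restrictFunctor U.ι) := CxOX.preservesFiniteLimits_restrictFunctor _
  haveI := preservesFiniteColimits_restrict U.ι
  constructor
  · haveI := hasRpush U.ι
    have hI' : ∀ k, Coh.IsQCoh ((((𝟭 X.Modules).mapHomologicalComplex (ComplexShape.up ℤ)).obj I).homology k) :=
      fun k => @QCohLib.isQuasicoherent_of_iso _ _ _
        ((DerivedCategory.homologyFunctorFactors X.Modules k).app I) (hE k)
    obtain ⟨e⟩ := nonempty_RF_restrict_iso U (Scheme.Modules.pushforward U.ι) I (Iso.refl _)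
    have hU : DCoh.IsQCohD ((DCoh.restrictD U.ι).obj (DerivedCategory.Q.obj I)) := fun k =>
      @QCohLib.isQuasicoherent_of_iso _ _ _ (HDRestrictIso U.ι _ k).symm (isQCoh_restrict U.ι (hE k))
    have hJ' : ∀ k, Coh.IsQCoh ((((J U).mapHomologicalComplex (ComplexShape.up ℤ)).obj I).homology k) :=
      fun k => @QCohLib.isQuasicoherent_of_iso _ _ _
        (((DerivedCategory.homologyFunctor X.Modules k).mapIso e).symm ≪≫
          (DerivedCategory.homologyFunctorFactors X.Modules k).app _)
        (isQCohD_Rpush U.ι _ hU k)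
    have hS := shortExact_zCx U I hI
    exact isQCoh_mid _ _ _ _ _ _ _ (hS.homology_exact₃ (i - 1) i (by simp))
      (hS.homology_exact₁ (i - 1) i (by simp)) (hS.homology_exact₂ i) (hI' (i - 1)) (hJ' (i - 1)) (hI' i) (hJ' i)
  · refine support_subset_of_isZero_restrict U _ (IsZero.of_iso ?_
      (ShortComplex.mapHomologyIso (((((DCoh.gammaZ U.ι).mapHomologicalComplex (ComplexShape.up ℤ)).obj I)).sc i)
        (Scheme.Modules.restrictFunctor U.ι)).symm)
    exact (ShortComplex.exact_iff_isZero_homology _).1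
      (ShortComplex.exact_of_isZero_X₂ _ (isZero_restrict_gammaZ U (I.X i)))

/-- `RΓ_Z` has quasi-coherent cohomology supported on the complement. -/
theorem RgammaZPlus_qcoh [QuasiCompact U.ι] [EnoughInjectives X.Modules]
    (E : DerivedCategory.Plus X.Modules) (hE : DCoh.IsQCohD E.obj) :
    DCoh.IsQCohD ((DCoh.RgammaZPlus U.ι).obj E).obj ∧
    ∀ i : ℤ, CohB1.support (DCoh.HD ((DCoh.RgammaZPlus U.ι).obj E).obj i) ⊆ (U : Set X)ᶜ := by
  let i' := (InjectiveObject.ι X.Modules).mapHomotopyCategoryPlus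
  obtain ⟨Y, ⟨e⟩⟩ : ∃ Y, Nonempty ((TriH.injToDerived X.Modules).obj Y ≅ E) :=
    ⟨_, ⟨(TriH.injToDerived X.Modules).objObjPreimageIso E⟩⟩
  obtain ⟨L, rfl⟩ := HomotopyCategory.Plus.quotient_obj_surjective Y
  let I : CochainComplex X.Modules ℤ := ((InjectiveObject.ι X.Modules).mapHomologicalComplex (.up ℤ)).obj L.obj
  have hIinj : ∀ n, Injective (I.X n) := fun n => (L.obj.X n).property
  haveI : I.IsKInjective := inferInstanceAs (CochainComplex.IsKInjective
    (((InjectiveObject.ι X.Modules).mapHomologicalComplex (.up ℤ)).obj L.obj))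
  let eI : DerivedCategory.Q.obj I ≅ E.obj :=
    ((DerivedCategory.quotientCompQhIso X.Modules).app I).symm ≪≫ DerivedCategory.Plus.ι.mapIso e
  have hI : DCoh.IsQCohD (DerivedCategory.Q.obj I) := fun k =>
    @QCohLib.isQuasicoherent_of_iso _ _ _ ((DerivedCategory.homologyFunctor X.Modules k).mapIso eI).symm (hE k)
  let eG : DerivedCategory.Q.obj (((DCoh.gammaZ U.ι).mapHomologicalComplex (ComplexShape.up ℤ)).obj I) ≅
      ((DCoh.RgammaZPlus U.ι).obj E).obj :=
    ((DerivedCategory.quotientCompQhIso X.Modules).app _).symm ≪≫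
      DerivedCategory.Qh.mapIso (((DCoh.gammaZ U.ι).mapHomotopyCategoryFactors _).app I).symm ≪≫
      DerivedCategory.Plus.ι.mapIso (asIso ((DCoh.gammaZ U.ι).rightDerivedFunctorPlusUnit.app
        (i'.obj ((HomotopyCategory.Plus.quotient (InjectiveObject X.Modules)).obj L))) ≪≫
          (DCoh.RgammaZPlus U.ι).mapIso e)
  have key : ∀ k, (((DCoh.gammaZ U.ι).mapHomologicalComplex (ComplexShape.up ℤ)).obj I).homology k ≅
      DCoh.HD ((DCoh.RgammaZPlus U.ι).obj E).obj k := fun k =>
    ((DerivedCategory.homologyFunctorFactors X.Modules k).app _).symm ≪≫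
      (DerivedCategory.homologyFunctor X.Modules k).mapIso eG
  refine ⟨fun k => @QCohLib.isQuasicoherent_of_iso _ _ _ (key k) (gammaZ_qcoh U I hIinj hI k).1, fun k x hx => ?_⟩
  refine (gammaZ_qcoh U I hIinj hI k).2 fun hs => hx ?_
  exact (((TopCat.Presheaf.stalkFunctor AddCommGrpCat.{u} x).mapIso
    ((Scheme.Modules.toPresheaf X).mapIso (key k))).addCommGroupIsoToAddEquiv.toEquiv.subsingleton_congr).1 hs

end Groth.Agent.DQCPush
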