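import Groth.Agent.DQCPush.GammaD

/-!
# Mayer–Vietoris triangles
-/

set_option autoImplicit false
set_option linter.style.haveILetI false
set_option backward.isDefEq.respectTransparency false
set_option backward.isDefEq.respectTransparency.types false
universe u

open CategoryTheory CategoryTheory.Limits AlgebraicGeometry Opposite TopologicalSpace

attribute [local instance] HasDerivedCategory.standard

namespace Groth.Agent.DQCPush

open Groth.Agent.HigherDirect

variable {X : Scheme.{u}}

lemma isIso_J_map_η {U W : X.Opens} (h : W ≤ U) (M : X.Modules) : IsIso ((J W).map ((η U).app M)) :=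
  Scheme.Modules.Hom.isIso_iff_isIso_app.2 fun O => J_map_app_isIso W _ O
    (η_app_isIso U M (((im_eq W O).le.trans inf_le_left).trans h))

/-- Restriction from `U` to a smaller open. -/
noncomputable def ρ {U W : X.Opens} (h : W ≤ U) : J U ⟶ J W where
  app M := haveI := isIso_J_map_η h M; (η W).app ((J U).obj M) ≫ inv ((J W).map ((η U).app M))
  naturality M N φ := by
    haveI := isIso_J_map_η h M
    haveI := isIso_J_map_η h N
    have h1 := (η W).naturality ((J U).map φ)
    have h2 : (J W).map ((η U).app M) ≫ (J W).map ((J U).map φ) = (J W).map φ ≫ (J W).map ((η U).app N) := by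
      rw [← Functor.map_comp, ← Functor.map_comp]
      exact congrArg _ ((η U).naturality φ).symm
    simp only [Functor.id_map, Functor.id_obj] at h1 ⊢
    rw [← cancel_mono ((J W).map ((η U).app N)), Category.assoc, Category.assoc, Category.assoc,
      Category.assoc, IsIso.inv_hom_id, Category.comp_id, h1, ← h2, IsIso.inv_hom_id_assoc]

lemma η_ρ {U W : X.Opens} (h : W ≤ U) (M : X.Modules) : (η U).app M ≫ (ρ h).app M = (η W).app M := by
  haveI := isIso_J_map_η h M
  have h1 := (η W).naturality ((η U).app M)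
  simp only [Functor.id_map, Functor.id_obj] at h1
  change _ ≫ (_ ≫ inv _) = _
  rw [← Category.assoc, IsIso.comp_inv_eq]
  exact h1

lemma ρ_app {U W : X.Opens} (h : W ≤ U) (M : X.Modules) (O : X.Opens) (hle : im W O ≤ im U O)
    (x : Γ((J U).obj M, O)) : ((ρ h).app M).app O x = M.presheaf.map (homOfLE hle).op x := by
  haveI := isIso_J_map_η h M
  haveI := η_app_isIso U M (((im_eq W O).le.trans inf_le_left).trans h)
  apply ((ConcreteCategory.isIso_iff_bijective (((η U).app M).app (im W O))).1 inferInstance).1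
  have h0 : (ρ h).app M ≫ (J W).map ((η U).app M) = (η W).app ((J U).obj M) := by
    change (_ ≫ inv _) ≫ _ = _
    rw [Category.assoc, IsIso.inv_hom_id, Category.comp_id]
  have h1 : ((ρ h).app M ≫ (J W).map ((η U).app M)).app O x = ((η W).app ((J U).obj M)).app O x := by
    rw [h0]
    rfl
  refine h1.trans ?_
  rw [η_app, η_app]
  exact (ConcreteCategory.congr_hom (M.presheaf.map_comp (homOfLE hle).op (homOfLE (U.ι.image_preimage_le (im W O))).op) x)

variable (U V : X.Opens)

/-- The map to the two restrictions. -/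
noncomputable def mvA (M : X.Modules) : M ⟶ (J U).obj M ⊞ (J V).obj M :=
  biprod.lift ((η U).app M) ((η V).app M)

/-- The difference of the two restrictions. -/
noncomputable def mvB (M : X.Modules) : (J U).obj M ⊞ (J V).obj M ⟶ (J (U ⊓ V)).obj M :=
  biprod.desc ((ρ (inf_le_left : U ⊓ V ≤ U)).app M) (-(ρ (inf_le_right : U ⊓ V ≤ V)).app M)

lemma mvA_mvB (M : X.Modules) : mvA U V M ≫ mvB U V M = 0 := by
  simp [mvA, mvB, η_ρ]

/-- The Mayer–Vietoris sequence of an injective module. -/
theorem shortExact_mv (hUV : U ⊔ V = ⊤) (I : X.Modules) [Injective I] :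
    (ShortComplex.mk (mvA U V I) (mvB U V I) (mvA_mvB U V I)).ShortExact := by
  have hle : ∀ O, im U O ≤ O := fun O => U.ι.image_preimage_le O
  have hle' : ∀ O, im V O ≤ O := fun O => V.ι.image_preimage_le O
  have hwu : ∀ O, im (U ⊓ V) O ≤ im U O := fun O => by
    rw [im_eq, im_eq]; exact inf_le_inf_right _ inf_le_left
  have hwv : ∀ O, im (U ⊓ V) O ≤ im V O := fun O => by
    rw [im_eq, im_eq]; exact inf_le_inf_right _ inf_le_right
  have hcov : ∀ O, O ≤ im U O ⊔ im V O := fun O => by
    rw [im_eq, im_eq, ← inf_sup_right, hUV, top_inf_eq]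
  have hd : ∀ O, im U O ⊓ im V O ≤ im (U ⊓ V) O := fun O => by
    rw [im_eq, im_eq, im_eq]
    exact le_inf (le_inf (inf_le_left.trans inf_le_left) (inf_le_right.trans inf_le_left))
      (inf_le_left.trans inf_le_right)
  have hfst : ∀ O (x : Γ(I, O)), (biprod.fst (X := (J U).obj I) (Y := (J V).obj I)).app O ((mvA U V I).app O x) =
      I.presheaf.map (homOfLE (hle O)).op x := fun O x => by
    refine (ConcreteCategory.congr_hom (congrArg (fun φ => φ.app O) (biprod.lift_fst ((η U).app I) ((η V).app I))) x).trans ?_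
    rfl
  have hsnd : ∀ O (x : Γ(I, O)), (biprod.snd (X := (J U).obj I) (Y := (J V).obj I)).app O ((mvA U V I).app O x) =
      I.presheaf.map (homOfLE (hle' O)).op x := fun O x => by
    refine (ConcreteCategory.congr_hom (congrArg (fun φ => φ.app O) (biprod.lift_snd ((η U).app I) ((η V).app I))) x).trans ?_
    rfl
  have hext : ∀ O (z z' : Γ((J U).obj I ⊞ (J V).obj I, O)), Scheme.Modules.Hom.app biprod.fst O z = Scheme.Modules.Hom.app biprod.fst O z' →
      Scheme.Modules.Hom.app biprod.snd O z = Scheme.Modules.Hom.app biprod.snd O z' → z = z' := by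
    intro O z z' h1 h2
    have ht : ∀ w, (biprod.inl (X := (J U).obj I) (Y := (J V).obj I)).app O (Scheme.Modules.Hom.app biprod.fst O w) +
        Scheme.Modules.Hom.app biprod.inr O (Scheme.Modules.Hom.app biprod.snd O w) = w := fun w =>
      ConcreteCategory.congr_hom (congrArg (fun φ : (J U).obj I ⊞ (J V).obj I ⟶ (J U).obj I ⊞ (J V).obj I => Scheme.Modules.Hom.app φ O) biprod.total) w
    rw [← ht z, ← ht z', h1, h2]
  refine { exact := ?_, mono_f := ?_, epi_g := ?_ }
  · refine exact_of_locally_lift _ fun O z hz p hp => ⟨O, 𝟙 O, hp, ?_⟩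
    obtain ⟨x₀, hx₀⟩ := res_surjective I (hle O) (Scheme.Modules.Hom.app biprod.fst O z)
    have hρ : I.presheaf.map (homOfLE (hwu O)).op (Scheme.Modules.Hom.app biprod.fst O z) =
        I.presheaf.map (homOfLE (hwv O)).op (Scheme.Modules.Hom.app biprod.snd O z) := by
      rw [← ρ_app inf_le_left I O (hwu O), ← ρ_app inf_le_right I O (hwv O), ← sub_eq_zero]
      refine Eq.trans ?_ hz
      change _ = (mvB U V I).app O z
      rw [mvB, biprod.desc_eq]
      exact (sub_eq_add_neg _ _).trans rfl
    let y : Γ(I, im V O) := (show Γ(I, im V O) from Scheme.Modules.Hom.app biprod.snd O z) - I.presheaf.map (homOfLE (hle' O)).op x₀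
    have hy : I.presheaf.map (homOfLE (hwv O)).op y = 0 := by
      refine (map_sub _ _ _).trans ?_
      rw [← hρ, ← hx₀, sub_eq_zero]
      exact (ConcreteCategory.congr_hom (I.presheaf.map_comp (homOfLE (hle O)).op (homOfLE (hwu O)).op) x₀).symm.trans
        (ConcreteCategory.congr_hom (I.presheaf.map_comp (homOfLE (hle' O)).op (homOfLE (hwv O)).op) x₀)
    obtain ⟨x₁, hx₁, hx₁'⟩ := exists_glue I (hle O) (hle' O) (hcov O) (hwv O) (hd O) y hy
    refine ⟨x₀ + x₁, Eq.trans ?_ (ConcreteCategory.congr_hom (CategoryTheory.Functor.map_id _ (op O)) z).symm⟩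
    refine hext O _ _ ((hfst O _).trans ?_) ((hsnd O _).trans ?_)
    · exact (map_add _ _ _).trans ((congrArg₂ (· + ·) hx₀ hx₁).trans (add_zero _))
    · refine (map_add _ _ _).trans
        ((congrArg (fun t : Γ(I, im V O) => I.presheaf.map (homOfLE (hle' O)).op x₀ + t) hx₁').trans ?_)
      exact add_sub_cancel (I.presheaf.map (homOfLE (hle' O)).op x₀)
        (show Γ(I, im V O) from Scheme.Modules.Hom.app biprod.snd O z)
  · rw [QCohLib.mono_iff_app_injective]
    intro O x x' hx
    have h0 : (mvA U V I).app O (x - x') = 0 := (map_sub _ _ _).trans (sub_eq_zero.2 hx)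
    refine sub_eq_zero.1 (eq_zero_of_res I (hle O) (hle' O) (hcov O) _ ?_ ?_)
    · exact (hfst O _).symm.trans ((congrArg _ h0).trans (map_zero _))
    · exact (hsnd O _).symm.trans ((congrArg _ h0).trans (map_zero _))
  · refine epi_of_app_surjective _ fun O w => ?_
    obtain ⟨s, hs⟩ := res_surjective I (hwu O) w
    refine ⟨(biprod.inl (X := (J U).obj I) (Y := (J V).obj I)).app O s, ?_⟩
    refine (ConcreteCategory.congr_hom (congrArg (fun φ => φ.app O)
      (biprod.inl_desc ((ρ (inf_le_left : U ⊓ V ≤ U)).app I) (-(ρ (inf_le_right : U ⊓ V ≤ V)).app I))) s).trans ?_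
    exact (ρ_app inf_le_left I O (hwu O) s).trans hs

section Complexes

variable (I : CochainComplex X.Modules ℤ)

/-- The Mayer–Vietoris sequence of complexes. -/
noncomputable def mvCx : ShortComplex (CochainComplex X.Modules ℤ) :=
  ShortComplex.mk
    (X₂ := ((J U).mapHomologicalComplex _).obj I ⊞ ((J V).mapHomologicalComplex _).obj I)
    (biprod.lift ((NatTrans.mapHomologicalComplex (η U) (ComplexShape.up ℤ)).app I)
      ((NatTrans.mapHomologicalComplex (η V) (ComplexShape.up ℤ)).app I))
    (biprod.desc ((NatTrans.mapHomologicalComplex (ρ (inf_le_left : U ⊓ V ≤ U)) (ComplexShape.up ℤ)).app I)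
      (-(NatTrans.mapHomologicalComplex (ρ (inf_le_right : U ⊓ V ≤ V)) (ComplexShape.up ℤ)).app I))
    (by
      ext n
      simp [η_ρ])

theorem shortExact_mvCx_eval (hUV : U ⊔ V = ⊤) (n : ℤ) [Injective (I.X n)] :
    ((mvCx U V I).map (HomologicalComplex.eval _ (ComplexShape.up ℤ) n)).ShortExact := by
  refine ShortComplex.shortExact_of_iso (S₁ := ShortComplex.mk _ _ (mvA_mvB U V (I.X n))) (ShortComplex.isoMk (Iso.refl _) (HomologicalComplex.biprodXIso (((J U).mapHomologicalComplex _).obj I) (((J V).mapHomologicalComplex _).obj I) n).symm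
    (Iso.refl _) ?_ ?_) (shortExact_mv U V hUV (I.X n))
  · rw [← cancel_mono (HomologicalComplex.biprodXIso _ _ n).hom]
    apply biprod.hom_ext <;> simp [mvCx, mvA]
    all_goals first
      | exact (biprod.lift_fst _ _).symm
      | exact (biprod.lift_snd _ _).symm
  · apply biprod.hom_ext' <;> simp [mvCx, mvB]
    · refine (Category.assoc _ _ _).symm.trans
        ((congrArg (· ≫ _) (HomologicalComplex.inl_biprodXIso_inv _ _ n)).trans ?_)
      exact congrArg (fun φ => HomologicalComplex.Hom.f φ n) (biprod.inl_desc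
        ((NatTrans.mapHomologicalComplex (ρ (inf_le_left : U ⊓ V ≤ U)) (ComplexShape.up ℤ)).app I)
        (-(NatTrans.mapHomologicalComplex (ρ (inf_le_right : U ⊓ V ≤ V)) (ComplexShape.up ℤ)).app I))
    · refine (Category.assoc _ _ _).symm.trans
        ((congrArg (· ≫ _) (HomologicalComplex.inr_biprodXIso_inv _ _ n)).trans ?_)
      exact congrArg (fun φ => HomologicalComplex.Hom.f φ n) (biprod.inr_desc
        ((NatTrans.mapHomologicalComplex (ρ (inf_le_left : U ⊓ V ≤ U)) (ComplexShape.up ℤ)).app I)
        (-(NatTrans.mapHomologicalComplex (ρ (inf_le_right : U ⊓ V ≤ V)) (ComplexShape.up ℤ)).app I))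

variable {B : Type*} [Category* B] [Abelian B] [HasDerivedCategory B] (F : X.Modules ⥤ B) [F.Additive]

/-- The triangle of the Mayer–Vietoris sequence after an additive functor. -/
theorem exists_triangle_Q (hUV : U ⊔ V = ⊤) (hinj : ∀ n, Injective (I.X n))
    (TU TV TW : DerivedCategory B)
    (eU : DerivedCategory.Q.obj ((F.mapHomologicalComplex _).obj (((J U).mapHomologicalComplex _).obj I)) ≅ TU)
    (eV : DerivedCategory.Q.obj ((F.mapHomologicalComplex _).obj (((J V).mapHomologicalComplex _).obj I)) ≅ TV)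
    (eW : DerivedCategory.Q.obj ((F.mapHomologicalComplex _).obj (((J (U ⊓ V)).mapHomologicalComplex _).obj I)) ≅ TW)
    {T : DerivedCategory B} (e : DerivedCategory.Q.obj ((F.mapHomologicalComplex _).obj I) ≅ T) :
    ∃ (a : T ⟶ TU ⊞ TV) (b : TU ⊞ TV ⟶ TW) (c : TW ⟶ T⟦(1 : ℤ)⟧),
      Pretriangulated.Triangle.mk a b c ∈ Pretriangulated.distinguishedTriangles := by
  let S := (mvCx U V I).map (F.mapHomologicalComplex (ComplexShape.up ℤ))
  have hS : S.ShortExact := HomologicalComplex.shortExact_of_degreewise_shortExact S fun n => by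
    haveI := hinj n
    have h := shortExact_mvCx_eval U V I hUV n
    haveI : Injective ((mvCx U V I).map (HomologicalComplex.eval _ (ComplexShape.up ℤ) n)).X₁ := hinj n
    exact (h.splittingOfInjective.map F).shortExact
  let G := F.mapHomologicalComplex (ComplexShape.up ℤ) ⋙ (DerivedCategory.Q : _ ⥤ DerivedCategory B)
  haveI := preservesBinaryBiproduct_of_preservesBinaryProduct G
    (X := ((J U).mapHomologicalComplex _).obj I) (Y := ((J V).mapHomologicalComplex _).obj I)
  let e₂ : DerivedCategory.Q.obj S.X₂ ≅ TU ⊞ TV := G.mapBiprod _ _ ≪≫ biprod.mapIso eU eV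
  refine ⟨e.inv ≫ DerivedCategory.Q.map S.f ≫ e₂.hom, e₂.inv ≫ DerivedCategory.Q.map S.g ≫ eW.hom,
    eW.inv ≫ DerivedCategory.triangleOfSESδ hS ≫ e.hom⟦(1 : ℤ)⟧', ?_⟩
  refine Pretriangulated.isomorphic_distinguished _ (DerivedCategory.triangleOfSES_distinguished hS) _
    (Pretriangulated.Triangle.isoMk _ _ e.symm e₂.symm eW.symm ?_ ?_ ?_)
  · simp [DerivedCategory.triangleOfSES]
  · simp [DerivedCategory.triangleOfSES]
  · simp [DerivedCategory.triangleOfSES, ← Functor.map_comp]

end Complexes

end Groth.Agent.DQCPush
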