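import Groth.Agent.DQC.RHomPerfect
import Mathlib.Algebra.Homology.HomotopyCategory.KInjective
import Mathlib.Algebra.Homology.HomotopyCategory.DegreewiseSplit

/-!
# A K-injective complex tensored with a bounded complex of finite free modules is K-injective
-/

set_option autoImplicit false
set_option linter.style.haveILetI false
set_option maxHeartbeats 800000

universe u v

open CategoryTheory CategoryTheory.Limits AlgebraicGeometry HomologicalComplex

namespace Groth.Agent.DQCPush.Proj

section Split

variable {C : Type u} [Category.{v} C] [Abelian C]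

/-- Degreewise split extensions of K-injective complexes are K-injective. -/
lemma isKInjective_of_split (S : ShortComplex (CochainComplex C ℤ))
    (σ : ∀ n, (S.map (eval C (ComplexShape.up ℤ) n)).Splitting)
    [S.X₁.IsKInjective] [S.X₃.IsKInjective] : S.X₂.IsKInjective := by
  rw [CochainComplex.isKInjective_iff_rightOrthogonal]
  exact (HomotopyCategory.subcategoryAcyclic C).rightOrthogonal.ext_of_isTriangulatedClosed₂
    (CochainComplex.trianglehOfDegreewiseSplit S σ)
    (HomotopyCategory.distinguished_iff_iso_trianglehOfDegreewiseSplit _ |>.2 ⟨S, σ, ⟨Iso.refl _⟩⟩)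
    (CochainComplex.IsKInjective.rightOrthogonal S.X₁) (CochainComplex.IsKInjective.rightOrthogonal S.X₃)

lemma isKInjective_of_isZero' {L : CochainComplex C ℤ} (h : IsZero L) : L.IsKInjective where
  nonempty_homotopy_zero f _ := ⟨Homotopy.ofEq (h.eq_of_tgt _ _)⟩

end Split

variable {X : Scheme.{u}} (I : CochainComplex X.Modules ℤ) [I.IsKInjective]

/-- The functor `I ⊗ -`. -/
noncomputable abbrev tI : CochainComplex X.Modules ℤ ⥤ CochainComplex X.Modules ℤ :=
  (DCoh.tensorCx (X := X)).obj I

lemma isKInjective_tensor_isZero {E : CochainComplex X.Modules ℤ} (h : IsZero E) : ((tI I).obj E).IsKInjective := by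
  haveI : (tI I).Additive := inferInstanceAs (KFlat.tensR (DCoh.tensorBi (X := X)) I).Additive
  exact isKInjective_of_isZero' ((tI I).map_isZero h)

lemma isKInjective_tensor_split (S : ShortComplex (CochainComplex X.Modules ℤ))
    (σ : ∀ n, (S.map (eval X.Modules (ComplexShape.up ℤ) n)).Splitting)
    (h₁ : ((tI I).obj S.X₁).IsKInjective) (h₃ : ((tI I).obj S.X₃).IsKInjective) :
    ((tI I).obj S.X₂).IsKInjective :=
  @isKInjective_of_split _ _ _ (S.map (KFlat.tensR (DCoh.tensorBi (X := X)) I))
    (KFlat.splittingR (DCoh.tensorBi (X := X)) S σ I) h₁ h₃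

lemma isKInjective_tensor_free_zero : ∀ r : ℕ,
    ((tI I).obj ((single X.Modules (ComplexShape.up ℤ) 0).obj (FlatMod.freeMod X r))).IsKInjective
  | 0 => isKInjective_tensor_isZero I ((single X.Modules (ComplexShape.up ℤ) 0).map_isZero
      ((IsZero.iff_id_eq_zero _).2 (Sigma.hom_ext _ _ fun i => i.elim0)))
  | r + 1 =>
    isKInjective_tensor_split I ((DQC.freeSeq X r).map (single X.Modules (ComplexShape.up ℤ) 0))
      (fun n => (DQC.freeSeqSplitting X r).map (single X.Modules (ComplexShape.up ℤ) 0 ⋙ eval X.Modules (ComplexShape.up ℤ) n))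
      (isKInjective_tensor_free_zero r)
      (CochainComplex.isKInjective_of_iso (L₁ := I) (DQC.tensEUnit.app I).symm)

lemma isKInjective_tensor_single {M : X.Modules} {r : ℕ} (e : M ≅ FlatMod.freeMod X r) (n : ℤ) :
    ((tI I).obj ((single X.Modules (ComplexShape.up ℤ) n).obj M)).IsKInjective := by
  haveI := isKInjective_tensor_free_zero I r
  let e0 : ((single X.Modules (ComplexShape.up ℤ) 0).obj (FlatMod.freeMod X r))⟦-n⟧ ≅
      (single X.Modules (ComplexShape.up ℤ) n).obj M :=
    ((CochainComplex.singleFunctors X.Modules).shiftIso (-n) n 0 (by omega)).app _ ≪≫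
      (single X.Modules (ComplexShape.up ℤ) n).mapIso e.symm
  haveI : ((DQC.tensE ((single X.Modules (ComplexShape.up ℤ) 0).obj (FlatMod.freeMod X r)) ⋙
      shiftFunctor (CochainComplex X.Modules ℤ) (-n)).obj I).IsKInjective :=
    inferInstanceAs ((((tI I).obj ((single X.Modules (ComplexShape.up ℤ) 0).obj (FlatMod.freeMod X r)))⟦-n⟧).IsKInjective)
  exact CochainComplex.isKInjective_of_iso
    (((DQC.tensEShift ((single X.Modules (ComplexShape.up ℤ) 0).obj (FlatMod.freeMod X r)) (-n)).app I).symm ≪≫
      (tI I).mapIso e0)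

/-- `I ⊗ E` is K-injective for bounded `E` with finite free terms. -/
theorem isKInjective_tensor_free {E : CochainComplex X.Modules ℤ} (a b : ℤ)
    (hz : ∀ i, i < a ∨ b < i → IsZero (E.X i)) (hl : ∀ i, ∃ r, Nonempty (E.X i ≅ FlatMod.freeMod X r)) :
    ((tI I).obj E).IsKInjective := by
  obtain ⟨k, hk⟩ : ∃ k : ℕ, b - a < k := ⟨(b - a + 1).toNat, by omega⟩
  induction k generalizing E b with
  | zero =>
    exact isKInjective_tensor_isZero I ((IsZero.iff_id_eq_zero _).2
      (HomologicalComplex.hom_ext _ _ fun i => (hz i (by omega)).eq_of_src _ _))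
  | succ k ih =>
    obtain ⟨S, hS, h1, h2, h3, h3'⟩ := PCohLib.exists_ses_top E b (hz (b + 1) (Or.inr (by omega)))
    have hz3 : ∀ i, i < a ∨ b - 1 < i → IsZero (S.X₃.X i) := fun i hi => by
      by_cases hib : i = b
      · exact hib ▸ h3
      · exact (hz i (by omega)).of_iso (h3' i hib).some.symm
    have hl3 : ∀ i, ∃ r, Nonempty (S.X₃.X i ≅ FlatMod.freeMod X r) := fun i => by
      by_cases hib : i = b
      · exact ⟨0, ⟨(hib ▸ h3 : IsZero (S.X₃.X i)).iso
          ((IsZero.iff_id_eq_zero _).2 (Sigma.hom_ext _ _ fun i => i.elim0))⟩⟩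
      · obtain ⟨r, ⟨e⟩⟩ := hl i
        exact ⟨r, ⟨(h3' i hib).some.symm ≪≫ e⟩⟩
    have σ : ∀ n, (S.map (eval X.Modules (ComplexShape.up ℤ) n)).Splitting := fun n => by
      refine DQC.splittingOfEither (hS.map_of_exact _) ?_
      by_cases hnb : n = b
      · exact Or.inr (hnb ▸ h3)
      · left
        change IsZero (S.X₁.X n)
        rw [h1]
        exact isZero_single_obj_X _ _ _ _ hnb
    rw [← h2]
    refine isKInjective_tensor_split I S σ ?_ (ih (b - 1) hz3 hl3 (by omega))
    obtain ⟨r, ⟨e⟩⟩ := hl b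
    rw [h1]
    exact isKInjective_tensor_single I e b

end Groth.Agent.DQCPush.Proj
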