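import Groth.Agent.DQCPush.ProjLocal
import Groth.Agent.DQCPush.ProjKInj
import Groth.Agent.DQCPush.Unit
import Groth.Agent.DQCPush.MVTri

/-!
# The projection formula along any morphism for perfect complexes
-/

set_option autoImplicit false
set_option linter.style.haveILetI false
set_option maxHeartbeats 1000000
set_option backward.isDefEq.respectTransparency false
set_option backward.isDefEq.respectTransparency.types false

universe u v w

open CategoryTheory CategoryTheory.Limits AlgebraicGeometry HomologicalComplex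

attribute [local instance] HasDerivedCategory.standard

namespace Groth.Agent.DQCPush.Proj

open ModGroth ModGroth.Stalk

/-- A map of `D(O_X)` invertible near every point is invertible. -/
theorem isIso_of_coverD {X : Scheme.{u}} {K L : DCoh.D X} (φ : K ⟶ L)
    (h : ∀ x : X, ∃ V : X.Opens, x ∈ V ∧ ∀ [PreservesFiniteLimits (Scheme.Modules.restrictFunctor V.ι)],
      IsIso ((DCoh.restrictD V.ι).map φ)) : IsIso φ := by
  rw [DerivedCategory.isIso_iff]
  intro i
  rw [QCohLib.isIso_iff_stalk_bijective]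
  intro x
  obtain ⟨V, hV, hφ⟩ := h x
  haveI : PreservesFiniteLimits (Scheme.Modules.restrictFunctor V.ι) := CxOX.preservesFiniteLimits_restrictFunctor _
  haveI := hφ
  obtain ⟨h1, h2⟩ := (QCohLib.isIso_iff_stalk_bijective _).1
    ((NatIso.isIso_map_iff (HDRestrictNatIso V.ι i) φ).1 (inferInstanceAs (IsIso
      ((DerivedCategory.homologyFunctor _ i).map ((DCoh.restrictD V.ι).map φ))))) ⟨x, hV⟩
  let ψ := (DerivedCategory.homologyFunctor X.Modules i).map φ
  refine ⟨fun a b hab => ?_, fun b => ?_⟩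
  · obtain ⟨a, rfl⟩ := (QCohLib.restrictStalkIso_bijective V.ι _ ⟨x, hV⟩).2 a
    obtain ⟨b, rfl⟩ := (QCohLib.restrictStalkIso_bijective V.ι _ ⟨x, hV⟩).2 b
    refine congrArg _ (h1 ((QCohLib.restrictStalkIso_bijective V.ι _ ⟨x, hV⟩).1 ?_))
    exact (QCohLib.stalkHom_restrict V.ι ψ ⟨x, hV⟩ a).trans
      (hab.trans (QCohLib.stalkHom_restrict V.ι ψ ⟨x, hV⟩ b).symm)
  · obtain ⟨n, rfl⟩ := (QCohLib.restrictStalkIso_bijective V.ι _ ⟨x, hV⟩).2 b
    obtain ⟨m, rfl⟩ := h2 n
    exact ⟨_, (QCohLib.stalkHom_restrict V.ι ψ ⟨x, hV⟩ m).symm⟩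

variable {X Y : Scheme.{u}} (f : X ⟶ Y) [DCoh.HasRpush f] (I : CochainComplex X.Modules ℤ)

/-- `f_*I ⊗ L ⟶ Rf_*(I ⊗ f^*L)`. -/
noncomputable def Phi (L : CochainComplex Y.Modules ℤ) :
    DerivedCategory.Q.obj (((DCoh.tensorCx (X := Y)).obj ((pus f).obj I)).obj L) ⟶
      (DCoh.Rpush f).obj (DerivedCategory.Q.obj (((DCoh.tensorCx (X := X)).obj I).obj ((pcx f).obj L))) :=
  DerivedCategory.Q.map (tot f I L) ≫ (FiltDerived.cmp (Scheme.Modules.pushforward f)).app _

lemma Phi_natural {L L' : CochainComplex Y.Modules ℤ} (b : L ⟶ L') :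
    DerivedCategory.Q.map (((DCoh.tensorCx (X := Y)).obj ((pus f).obj I)).map b) ≫ Phi f I L' =
      Phi f I L ≫ (DCoh.Rpush f).map (DerivedCategory.Q.map (((DCoh.tensorCx (X := X)).obj I).map ((pcx f).map b))) := by
  simp only [Phi]
  rw [← Category.assoc, ← Functor.map_comp, tot_natural, Functor.map_comp, Category.assoc, Category.assoc]
  exact congrArg (_ ≫ ·) ((FiltDerived.cmp (Scheme.Modules.pushforward f)).naturality _)

lemma isIso_Phi_transfer {C : Type w} [Category.{v} C] (F : DCoh.D Y ⥤ C)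
    {L L' : CochainComplex Y.Modules ℤ} (b : L ⟶ L')
    (h₁ : IsIso (F.map (DerivedCategory.Q.map (((DCoh.tensorCx (X := Y)).obj ((pus f).obj I)).map b))))
    (h₂ : IsIso (F.map ((DCoh.Rpush f).map (DerivedCategory.Q.map (((DCoh.tensorCx (X := X)).obj I).map ((pcx f).map b)))))) :
    IsIso (F.map (Phi f I L)) ↔ IsIso (F.map (Phi f I L')) := by
  haveI := h₁
  haveI := h₂
  have e := congrArg F.map (Phi_natural f I b)
  rw [Functor.map_comp, Functor.map_comp] at e
  constructor
  · intro h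
    haveI := h
    haveI : IsIso (F.map (DerivedCategory.Q.map (((DCoh.tensorCx (X := Y)).obj ((pus f).obj I)).map b)) ≫
        F.map (Phi f I L')) := by rw [e]; infer_instance
    exact IsIso.of_isIso_comp_left (F.map (DerivedCategory.Q.map (((DCoh.tensorCx (X := Y)).obj ((pus f).obj I)).map b))) _
  · intro h
    haveI := h
    haveI : IsIso (F.map (Phi f I L) ≫ F.map ((DCoh.Rpush f).map
        (DerivedCategory.Q.map (((DCoh.tensorCx (X := X)).obj I).map ((pcx f).map b))))) := by
      rw [← e]; infer_instance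
    exact IsIso.of_isIso_comp_right _ (F.map ((DCoh.Rpush f).map
      (DerivedCategory.Q.map (((DCoh.tensorCx (X := X)).obj I).map ((pcx f).map b)))))

/-- Quasi-isomorphisms between K-flat complexes do not change anything. -/
lemma isIso_Phi_qis {C : Type w} [Category.{v} C] (F : DCoh.D Y ⥤ C) {L L' : CochainComplex Y.Modules ℤ}
    (b : L ⟶ L') (hb : QuasiIso b) (hL : DCoh.IsKFlat L) (hL' : DCoh.IsKFlat L') :
    IsIso (F.map (Phi f I L)) ↔ IsIso (F.map (Phi f I L')) := by
  refine isIso_Phi_transfer f I F b ?_ ?_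
  · haveI := quasiIso_tensor_left (O := Y.sheaf) b hb hL hL' ((pus f).obj I)
    haveI : IsIso (DerivedCategory.Q.map (((DCoh.tensorCx (X := Y)).obj ((pus f).obj I)).map b)) :=
      Amp.isIso_Q_map _ this
    infer_instance
  · haveI : IsIso (DerivedCategory.Q.map (((DCoh.tensorCx (X := X)).obj I).map ((pcx f).map b))) :=
      Amp.isIso_Q_map _ (quasiIso_tensor_left (O := X.sheaf) ((pcx f).map b) (Stalk.goodInverts_pullback f b hL hL' hb)
        (Stalk.isKFlat_pullback f L hL) (Stalk.isKFlat_pullback f L' hL') I)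
    infer_instance

lemma isIso_restrictD_Q {Z : Scheme.{u}} (U : Z.Opens) [PreservesFiniteLimits (Scheme.Modules.restrictFunctor U.ι)]
    {K L : CochainComplex Z.Modules ℤ} (g : K ⟶ L) (h : ∀ n, IsIso ((R U).map (g.f n))) :
    IsIso ((DCoh.restrictD U.ι).map (DerivedCategory.Q.map g)) := by
  haveI := preservesFiniteColimits_restrict U.ι
  refine (NatIso.isIso_map_iff (Scheme.Modules.restrictFunctor U.ι).mapDerivedCategoryFactors g).2 ?_
  haveI : ∀ n, IsIso ((((Scheme.Modules.restrictFunctor U.ι).mapHomologicalComplex (ComplexShape.up ℤ)).map g).f n) := h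
  haveI := Hom.isIso_of_components (((Scheme.Modules.restrictFunctor U.ι).mapHomologicalComplex (ComplexShape.up ℤ)).map g)
  exact inferInstanceAs (IsIso (DerivedCategory.Q.map (((Scheme.Modules.restrictFunctor U.ι).mapHomologicalComplex (ComplexShape.up ℤ)).map g)))

variable (W : Y.Opens)

/-- Maps invertible over `W` do not change anything over `W`. -/
lemma isIso_Phi_restrict [PreservesFiniteLimits (Scheme.Modules.restrictFunctor W.ι)]
    {L L' : CochainComplex Y.Modules ℤ} (b : L ⟶ L') (h : ∀ q, IsIso ((R W).map (b.f q))) :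
    IsIso ((DCoh.restrictD W.ι).map (Phi f I L)) ↔ IsIso ((DCoh.restrictD W.ι).map (Phi f I L')) := by
  refine isIso_Phi_transfer f I _ b (isIso_restrictD_Q W _ (isIso_tensorCx W _ b h)) ?_
  haveI : PreservesFiniteLimits (Scheme.Modules.restrictFunctor (f ⁻¹ᵁ W).ι) :=
    CxOX.preservesFiniteLimits_restrictFunctor _
  haveI := hasRpush (f ∣_ W)
  obtain ⟨e⟩ := nonempty_Rpush_restrict_iso f W
  refine (NatIso.isIso_map_iff e _).2 ?_
  haveI := isIso_restrictD_Q (f ⁻¹ᵁ W) _
    (isIso_tensorCx (f ⁻¹ᵁ W) I ((pcx f).map b) fun q => isIso_pull f W _ (h q))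
  exact inferInstanceAs (IsIso ((DCoh.Rpush (f ∣_ W)).map ((DCoh.restrictD (f ⁻¹ᵁ W).ι).map
    (DerivedCategory.Q.map (((DCoh.tensorCx (X := X)).obj I).map ((pcx f).map b))))))

/-- Restriction of complexes commutes with tensor products. -/
noncomputable def restrTotIso (U : X.Opens) (A B : CochainComplex X.Modules ℤ) :
    ((DCoh.tensorCx (X := (U : Scheme.{u}))).obj ((DCoh.restrictCx U).obj A)).obj ((DCoh.restrictCx U).obj B) ≅
      (DCoh.restrictCx U).obj (((DCoh.tensorCx (X := X)).obj A).obj B) :=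
  let ρ := NatIso.mapHomologicalComplex (Scheme.Modules.restrictFunctorIsoPullback U.ι) (ComplexShape.up ℤ)
  ((DCoh.tensorCx (X := (U : Scheme.{u}))).mapIso (ρ.app A)).app _ ≪≫
    ((DCoh.tensorCx (X := (U : Scheme.{u}))).obj _).mapIso (ρ.app B) ≪≫
    (pullTotIso U.ι A B).symm ≪≫ (ρ.app _).symm

variable [I.IsKInjective]

/-- `Φ` is invertible where the complex is bounded with finite free terms. -/
theorem isIso_Phi_free [PreservesFiniteLimits (Scheme.Modules.restrictFunctor W.ι)]
    (L : CochainComplex Y.Modules ℤ) (a b : ℤ) (hz : ∀ q, q < a ∨ b < q → IsZero (L.X q))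
    (hl : ∀ q, ∃ r, Nonempty ((R W).obj (L.X q) ≅ FlatMod.freeMod (W : Scheme.{u}) r)) :
    IsIso ((DCoh.restrictD W.ι).map (Phi f I L)) := by
  haveI h0 := isIso_restrictD_Q W (tot f I L) (isIso_totX f W I L a b hz hl)
  let U := f ⁻¹ᵁ W
  haveI : PreservesFiniteLimits (Scheme.Modules.restrictFunctor U.ι) := CxOX.preservesFiniteLimits_restrictFunctor _
  haveI := preservesFiniteColimits_restrict W.ι
  haveI := preservesFiniteColimits_restrict U.ι
  haveI := HigherDirect.enoughInjectives_modules X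
  let F := Scheme.Modules.pushforward f
  let T := ((DCoh.tensorCx (X := X)).obj I).obj ((pcx f).obj L)
  haveI hT : ((DCoh.restrictCx U).obj T).IsKInjective := by
    haveI := isKInjective_restrict U I
    haveI := (Scheme.Modules.pullbackPushforwardAdjunction f).left_adjoint_additive
    refine @CochainComplex.isKInjective_of_iso _ _ _ _ _ (restrTotIso U I ((pcx f).obj L)) ?_
    refine isKInjective_tensor_free _ a b (fun q hq => (R U).map_isZero ((Scheme.Modules.pullback f).map_isZero (hz q hq))) ?_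
    intro q
    obtain ⟨r, ⟨e⟩⟩ := hl q
    exact ⟨r, ⟨((Perf.restrPullIso f (f ∣_ W) _ _ (morphismRestrict_ι f W)).app (L.X q)).symm ≪≫
      (Scheme.Modules.pullback (f ∣_ W)).mapIso e ≪≫ Perf.pullFreeModIso (f ∣_ W) r⟩⟩
  obtain ⟨J, s, hJ, hs⟩ := DerAdj.modules_hKinj X T
  haveI := hJ
  haveI := hs
  haveI : IsIso ((FiltDerived.cmp F).app J) := FiltDerived.isIso_cmp_app F J
    (TriH.CountableSum.isIso_unit_inj F (DerAdj.modules_hKinj X) (CochainComplex.IsKInjective.rightOrthogonal J))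
  haveI hps : IsIso ((DCoh.restrictD W.ι).map (DerivedCategory.Q.map ((pus f).map s))) := by
    obtain ⟨φ⟩ := HigherDirect.nonempty_push_restrict_iso f W
    let RU := (Scheme.Modules.restrictFunctor U.ι).mapHomologicalComplex (ComplexShape.up ℤ)
    haveI : CochainComplex.IsKInjective (RU.obj J) := isKInjective_restrict U J
    haveI : CochainComplex.IsKInjective (RU.obj T) := hT
    refine (NatIso.isIso_map_iff (Functor.associator _ _ _ ≪≫
      Functor.isoWhiskerLeft _ (Scheme.Modules.restrictFunctor W.ι).mapDerivedCategoryFactors ≪≫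
      (Functor.associator _ _ _).symm ≪≫ Functor.isoWhiskerRight
        (NatIso.ofComponents (fun K : CochainComplex X.Modules ℤ =>
          (HomologicalComplex.Hom.isoOfComponents (fun i => φ.app (K.X i))
            (fun i j _ => (φ.hom.naturality (K.d i j)).symm) :
            ((Scheme.Modules.restrictFunctor W.ι).mapHomologicalComplex (ComplexShape.up ℤ)).obj ((pus f).obj K) ≅
            (pus (f ∣_ W)).obj (RU.obj K)))
          (fun g => HomologicalComplex.hom_ext _ _ fun i => φ.hom.naturality (g.f i)) :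
          pus f ⋙ (Scheme.Modules.restrictFunctor W.ι).mapHomologicalComplex (ComplexShape.up ℤ) ≅
            RU ⋙ pus (f ∣_ W)) _ ≪≫ Functor.associator _ _ _ :
        (pus f ⋙ DerivedCategory.Q) ⋙ DCoh.restrictD W.ι ≅ RU ⋙ pus (f ∣_ W) ⋙ DerivedCategory.Q) s).2 ?_
    haveI : QuasiIso (RU.map s) := inferInstance
    let q := (HomotopyCategory.quotient (U : Scheme.{u}).Modules (ComplexShape.up ℤ))
    haveI : IsIso (DerivedCategory.Qh.map (q.map (RU.map s))) :=
      Localization.inverts DerivedCategory.Qh (HomotopyCategory.quasiIso _ (ComplexShape.up ℤ)) _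
        ((HomotopyCategory.quotient_map_mem_quasiIso_iff _).2 ((mem_quasiIso_iff _).2 inferInstance))
    haveI : IsIso (q.map (RU.map s)) := by
      obtain ⟨t, ht⟩ := (TriH.Qh_bijective_of_isKInjective (RU.obj T) (q.obj (RU.obj J))).2
        (inv (DerivedCategory.Qh.map (q.map (RU.map s))))
      refine ⟨t, (TriH.Qh_bijective_of_isKInjective (RU.obj T) _).1 ?_, (TriH.Qh_bijective_of_isKInjective (RU.obj J) _).1 ?_⟩
      · rw [Functor.map_comp, ht, IsIso.hom_inv_id, CategoryTheory.Functor.map_id]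
      · rw [Functor.map_comp, ht, IsIso.inv_hom_id, CategoryTheory.Functor.map_id]
    refine (NatIso.isIso_map_iff ((Functor.associator _ _ _).symm ≪≫
      Functor.isoWhiskerRight ((Scheme.Modules.pushforward (f ∣_ W)).mapHomotopyCategoryFactors (ComplexShape.up ℤ)) _ ≪≫
      Functor.associator _ _ _ ≪≫ Functor.isoWhiskerLeft _ (DerivedCategory.quotientCompQhIso (W : Scheme.{u}).Modules) :
        q ⋙ TriH.CountableSum.Phi (Scheme.Modules.pushforward (f ∣_ W)) ≅ pus (f ∣_ W) ⋙ DerivedCategory.Q)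
        (RU.map s)).1 ?_
    exact Functor.map_isIso (TriH.CountableSum.Phi (Scheme.Modules.pushforward (f ∣_ W))) (q.map (RU.map s))
  haveI hRs : IsIso ((DCoh.restrictD W.ι).map ((DCoh.Rpush f).map (DerivedCategory.Q.map s))) := inferInstance
  haveI : IsIso ((DCoh.restrictD W.ι).map ((FiltDerived.cmp F).app T)) := by
    have e := congrArg (DCoh.restrictD W.ι).map ((FiltDerived.cmp F).naturality s)
    rw [Functor.map_comp, Functor.map_comp] at e
    haveI : IsIso ((DCoh.restrictD W.ι).map ((FiltDerived.cmp F).app T) ≫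
        (DCoh.restrictD W.ι).map ((DCoh.Rpush f).map (DerivedCategory.Q.map s))) := by
      refine Eq.mpr (congrArg IsIso e.symm) ?_
      exact @IsIso.comp_isIso _ _ _ _ _ _ _ hps inferInstance
    exact IsIso.of_isIso_comp_right _ ((DCoh.restrictD W.ι).map ((DCoh.Rpush f).map (DerivedCategory.Q.map s)))
  rw [Phi, Functor.map_comp]
  exact @IsIso.comp_isIso _ _ _ _ _ _ _ h0 this

omit [DCoh.HasRpush f] [I.IsKInjective] in
/-- `j_!` preserves K-flat complexes. -/
theorem isKFlat_jS (V : Y.Opens) {C : CochainComplex (V : Scheme.{u}).Modules ℤ} (hC : DCoh.IsKFlat C) :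
    DCoh.IsKFlat (((DQC.jS V).mapHomologicalComplex (ComplexShape.up ℤ)).obj C) := fun M hM i => by
  haveI : PreservesFiniteLimits (Scheme.Modules.restrictFunctor V.ι) := CxOX.preservesFiniteLimits_restrictFunctor _
  haveI := preservesFiniteColimits_restrict V.ι
  haveI : ∀ n : ℤ, PreservesColimitsOfShape (Discrete (ModGroth.DegIdx n)) (DQC.jS V) := fun _ => inferInstance
  have hM' : ∀ j, IsZero (((DCoh.restrictCx V).obj M).homology j) := fun j =>
    ((Scheme.Modules.restrictFunctor V.ι).map_isZero (hM j)).of_iso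
      (ShortComplex.mapHomologyIso (M.sc j) (Scheme.Modules.restrictFunctor V.ι))
  have hz := (ModGroth.flatL_site (O := (V : Scheme.{u}).sheaf) hC) _ hM' i
  refine (((DQC.jS V).map_isZero hz).of_iso
    (ShortComplex.mapHomologyIso (HomologicalComplex.sc _ i) (DQC.jS V))).of_iso
    ((homologyFunctor _ _ i).mapIso (ModGroth.cxSymm (ModSite.tensorBi Y.sheaf) ModGroth.tensorFlipIso M _ ≪≫
      ModGroth.Mixed.totCompareIso (DQC.jSCompat V) C M))

/-- The projection formula for perfect complexes. -/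
theorem isIso_Phi_perfect (P : CochainComplex Y.Modules ℤ) (hP : DCoh.IsKFlat P)
    (hperf : DCoh.IsPerfect (DerivedCategory.Q.obj P)) : IsIso (Phi f I P) := by
  refine isIso_of_coverD _ fun y => ?_
  obtain ⟨V, hy, hV⟩ := hperf y
  obtain ⟨E, hE, ⟨e⟩⟩ := hV P ⟨Iso.refl _⟩
  obtain ⟨⟨a, b, hz⟩, hl⟩ := hE
  choose U r hU eU using fun q : ↥(Finset.Icc a b) => hl q.1 ⟨y, hy⟩
  let W₀ : (V : Scheme.{u}).Opens := ⟨⋂ q, (U q : Set (V : Scheme.{u})), isOpen_iInter_of_finite fun q => (U q).2⟩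
  let W : Y.Opens := V.ι ''ᵁ W₀
  have hyW : y ∈ W := ⟨⟨y, hy⟩, Set.mem_iInter.2 hU, rfl⟩
  refine ⟨W, hyW, fun {_} => ?_⟩
  let jc := (DQC.jS V).mapHomologicalComplex (ComplexShape.up ℤ)
  let RV := DCoh.restrictCx V
  let adj := DQC.jSAdj V
  obtain ⟨Z, s, hs, g, he⟩ := DerivedCategory.right_fac e.symm.hom
  haveI := hs
  haveI hsq : QuasiIso s := (DerivedCategory.isIso_Q_map_iff_quasiIso (φ := s)).1 hs
  haveI hg : QuasiIso g := by
    rw [← DerivedCategory.isIso_Q_map_iff_quasiIso]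
    exact IsIso.of_isIso_fac_left (f := inv (DerivedCategory.Q.map s)) he.symm
  obtain ⟨Z', q, hZ', -, hq, -⟩ := ModGroth.scheme_exists_resolution Z
  haveI := hq
  have hEk : DCoh.IsKFlat E := ModGroth.Perf.isKFlat_of_isStrictlyPerfect ⟨⟨a, b, hz⟩, hl⟩
  have hPV : DCoh.IsKFlat (RV.obj P) := ModGroth.Perf.isKFlat_restrictCx V hP
  haveI : QuasiIso (jc.map (q ≫ s)) := inferInstance
  haveI : QuasiIso (jc.map (q ≫ g)) := inferInstance
  let ε : jc.obj (RV.obj P) ⟶ P :=
    { f := fun n => adj.counit.app (P.X n)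
      comm' := fun i j _ => (adj.counit.naturality (P.d i j)).symm }
  have hWV : W ≤ V := fun z ⟨w, _, hw⟩ => hw ▸ w.2
  have hres : ∀ {N N' : Y.Modules} (φ : N ⟶ N'), IsIso ((R V).map φ) → IsIso ((R W).map φ) := fun φ h => by
    haveI := h
    exact (NatIso.isIso_map_iff ((Scheme.Modules.restrictFunctorCongr (Y.homOfLE_ι hWV)).symm ≪≫
      Scheme.Modules.restrictFunctorComp (Y.homOfLE hWV) V.ι) φ).2
      (inferInstanceAs (IsIso ((Scheme.Modules.restrictFunctor (Y.homOfLE hWV)).map ((R V).map φ))))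
  rw [← isIso_Phi_restrict f I W ε fun n => hres _ (IsIso.of_isIso_fac_left (adj.right_triangle_components (P.X n))),
    ← isIso_Phi_qis f I _ (jc.map (q ≫ g)) inferInstance (isKFlat_jS V hZ') (isKFlat_jS V hPV),
    isIso_Phi_qis f I _ (jc.map (q ≫ s)) inferInstance (isKFlat_jS V hZ') (isKFlat_jS V hEk)]
  refine isIso_Phi_free f I W _ a b (fun n hn => (DQC.jS V).map_isZero (hz n hn)) fun n => ?_
  let k : (W : Scheme.{u}) ⟶ (V : Scheme.{u}) := Y.homOfLE hWV
  let eW : ((R W).obj ((DQC.jS V).obj (E.X n))) ≅ (Scheme.Modules.restrictFunctor k).obj (E.X n) :=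
    ((Scheme.Modules.restrictFunctorCongr (Y.homOfLE_ι hWV)).symm ≪≫
      Scheme.Modules.restrictFunctorComp (Y.homOfLE hWV) V.ι).app _ ≪≫
      (Scheme.Modules.restrictFunctor k).mapIso (asIso (adj.unit.app (E.X n))).symm
  by_cases hn : n ∈ Finset.Icc a b
  · have hr : k.opensRange ≤ U ⟨n, hn⟩ := by
      rintro z ⟨w, rfl⟩
      obtain ⟨v, hv, hvw⟩ := w.2
      have : k w = v := Subtype.ext ((Scheme.homOfLE_apply (X := Y) hWV w).trans hvw.symm)
      show k w ∈ U ⟨n, hn⟩
      rw [this]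
      exact Set.mem_iInter.1 hv ⟨n, hn⟩
    let l : (W : Scheme.{u}) ⟶ (U ⟨n, hn⟩ : Scheme.{u}) := IsOpenImmersion.lift (U ⟨n, hn⟩).ι k
      (fun z hz => by rw [Scheme.Opens.range_ι]; exact hr hz)
    have hl' : l ≫ (U ⟨n, hn⟩).ι = k := IsOpenImmersion.lift_fac _ _ _
    exact ⟨_, ⟨eW ≪≫ ((Scheme.Modules.restrictFunctorCongr hl'.symm) ≪≫
      Scheme.Modules.restrictFunctorComp l (U ⟨n, hn⟩).ι).app _ ≪≫
      (Scheme.Modules.restrictFunctor l).mapIso (eU ⟨n, hn⟩).some ≪≫ LocFree.restrictFreeIso _ _⟩⟩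
  · rw [Finset.mem_Icc] at hn
    exact ⟨0, ⟨eW ≪≫ ((Scheme.Modules.restrictFunctor k).map_isZero (hz n (by omega))).iso
      ((IsZero.iff_id_eq_zero _).2 (Sigma.hom_ext _ _ fun i => i.elim0))⟩⟩

end Groth.Agent.DQCPush.Proj
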