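import Groth.Agent.ModGroth.TotMap

/-!
# Comparison maps of total complexes along a pair of functors
-/

set_option autoImplicit false
set_option maxHeartbeats 400000

universe v v' u u'

open CategoryTheory CategoryTheory.Limits HomologicalComplex

namespace Groth.Agent.DQCPush.ProjMap

variable {C : Type u} [Category.{v} C] [Abelian C] {D : Type u'} [Category.{v'} D] [Abelian D]
  (F₁ : C ⥤ C ⥤ C) [F₁.Additive] [∀ X, (F₁.obj X).Additive]
  (F₂ : D ⥤ D ⥤ D) [F₂.Additive] [∀ X, (F₂.obj X).Additive]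
  [∀ K L : CochainComplex C ℤ, HasMapBifunctor K L F₁ (ComplexShape.up ℤ)]
  [∀ K L : CochainComplex D ℤ, HasMapBifunctor K L F₂ (ComplexShape.up ℤ)]
  (Φ : C ⥤ D) [Φ.Additive] (Ψ : D ⥤ C) [Ψ.Additive]

/-- Maps `Φ A ⊗ B ⟶ Φ (A ⊗ Ψ B)`, natural in both variables. -/
structure Data where
  /-- the maps -/
  app : ∀ (A : C) (B : D), (F₂.obj (Φ.obj A)).obj B ⟶ Φ.obj ((F₁.obj A).obj (Ψ.obj B))
  natL : ∀ {A A' : C} (a : A ⟶ A') (B : D),
    (F₂.map (Φ.map a)).app B ≫ app A' B = app A B ≫ Φ.map ((F₁.map a).app (Ψ.obj B))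
  natR : ∀ (A : C) {B B' : D} (b : B ⟶ B'),
    (F₂.obj (Φ.obj A)).map b ≫ app A B' = app A B ≫ Φ.map ((F₁.obj A).map (Ψ.map b))

variable {F₁ F₂ Φ Ψ} (μ : Data F₁ F₂ Φ Ψ)

/-- `Φ` on complexes. -/
local notation "Φc" => Φ.mapHomologicalComplex (ComplexShape.up ℤ)

/-- `Ψ` on complexes. -/
local notation "Ψc" => Ψ.mapHomologicalComplex (ComplexShape.up ℤ)

/-- The map at one bidegree. -/
noncomputable def bX (K : CochainComplex C ℤ) (L : CochainComplex D ℤ) (p q : ℤ) :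
    (F₂.obj (((Φc).obj K).X p)).obj (L.X q) ⟶ Φ.obj ((F₁.obj (K.X p)).obj (((Ψc).obj L).X q)) :=
  μ.app (K.X p) (L.X q)

lemma bX_natL (K : CochainComplex C ℤ) (L : CochainComplex D ℤ) (p p' q : ℤ) :
    (F₂.map (((Φc).obj K).d p p')).app (L.X q) ≫ bX μ K L p' q =
      bX μ K L p q ≫ Φ.map ((F₁.map (K.d p p')).app (((Ψc).obj L).X q)) :=
  μ.natL (K.d p p') (L.X q)

lemma bX_natR (K : CochainComplex C ℤ) (L : CochainComplex D ℤ) (p q q' : ℤ) :
    (F₂.obj (((Φc).obj K).X p)).map (L.d q q') ≫ bX μ K L p q' =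
      bX μ K L p q ≫ Φ.map ((F₁.obj (K.X p)).map (((Ψc).obj L).d q q')) :=
  μ.natR (K.X p) (L.d q q')

lemma bX_natural (K : CochainComplex C ℤ) {L L' : CochainComplex D ℤ} (b : L ⟶ L') (p q : ℤ) :
    (F₂.obj (((Φc).obj K).X p)).map (b.f q) ≫ bX μ K L' p q =
      bX μ K L p q ≫ Φ.map ((F₁.obj (K.X p)).map (((Ψc).map b).f q)) :=
  μ.natR (K.X p) (b.f q)

/-- Degree `n` of the comparison map. -/
noncomputable def totX (K : CochainComplex C ℤ) (L : CochainComplex D ℤ) (n : ℤ) :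
    (mapBifunctor ((Φc).obj K) L F₂ (ComplexShape.up ℤ)).X n ⟶
      Φ.obj ((mapBifunctor K ((Ψc).obj L) F₁ (ComplexShape.up ℤ)).X n) :=
  mapBifunctorDesc fun p q h => bX μ K L p q ≫ Φ.map (ιMapBifunctor K ((Ψc).obj L) F₁ (ComplexShape.up ℤ) p q n h)

lemma ι_totX (K : CochainComplex C ℤ) (L : CochainComplex D ℤ) (p q n : ℤ) (h : p + q = n) :
    ιMapBifunctor ((Φc).obj K) L F₂ (ComplexShape.up ℤ) p q n h ≫ totX μ K L n =
      bX μ K L p q ≫ Φ.map (ιMapBifunctor K ((Ψc).obj L) F₁ (ComplexShape.up ℤ) p q n h) :=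
  ι_mapBifunctorDesc ..

lemma tot_d₁ (K : CochainComplex C ℤ) (L : CochainComplex D ℤ) (p q n' : ℤ) :
    mapBifunctor.d₁ ((Φc).obj K) L F₂ (ComplexShape.up ℤ) p q n' ≫ totX μ K L n' =
      bX μ K L p q ≫ Φ.map (mapBifunctor.d₁ K ((Ψc).obj L) F₁ (ComplexShape.up ℤ) p q n') := by
  by_cases h : p + 1 + q = n'
  · rw [mapBifunctor.d₁_eq _ _ _ _ (show (ComplexShape.up ℤ).Rel p (p + 1) from rfl) q n' h,
      mapBifunctor.d₁_eq _ _ _ _ (show (ComplexShape.up ℤ).Rel p (p + 1) from rfl) q n' h,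
      Units.smul_def, Units.smul_def, Preadditive.zsmul_comp, Functor.map_zsmul, Preadditive.comp_zsmul,
      Category.assoc, ι_totX, Functor.map_comp, ← Category.assoc, bX_natL, Category.assoc]
  · rw [mapBifunctor.d₁_eq_zero' _ _ _ _ (show (ComplexShape.up ℤ).Rel p (p + 1) from rfl) q n' h,
      mapBifunctor.d₁_eq_zero' _ _ _ _ (show (ComplexShape.up ℤ).Rel p (p + 1) from rfl) q n' h,
      zero_comp]
    exact ((congrArg (bX μ K L p q ≫ ·) (Φ.map_zero _ _)).trans comp_zero).symm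

lemma tot_d₂ (K : CochainComplex C ℤ) (L : CochainComplex D ℤ) (p q n' : ℤ) :
    mapBifunctor.d₂ ((Φc).obj K) L F₂ (ComplexShape.up ℤ) p q n' ≫ totX μ K L n' =
      bX μ K L p q ≫ Φ.map (mapBifunctor.d₂ K ((Ψc).obj L) F₁ (ComplexShape.up ℤ) p q n') := by
  by_cases h : p + (q + 1) = n'
  · rw [mapBifunctor.d₂_eq _ _ _ _ p (show (ComplexShape.up ℤ).Rel q (q + 1) from rfl) n' h,
      mapBifunctor.d₂_eq _ _ _ _ p (show (ComplexShape.up ℤ).Rel q (q + 1) from rfl) n' h,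
      Units.smul_def, Units.smul_def, Preadditive.zsmul_comp, Functor.map_zsmul, Preadditive.comp_zsmul,
      Category.assoc, ι_totX, Functor.map_comp, ← Category.assoc, bX_natR, Category.assoc]
  · rw [mapBifunctor.d₂_eq_zero' _ _ _ _ p (show (ComplexShape.up ℤ).Rel q (q + 1) from rfl) n' h,
      mapBifunctor.d₂_eq_zero' _ _ _ _ p (show (ComplexShape.up ℤ).Rel q (q + 1) from rfl) n' h,
      zero_comp]
    exact ((congrArg (bX μ K L p q ≫ ·) (Φ.map_zero _ _)).trans comp_zero).symm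

/-- The comparison map. -/
noncomputable def tot (K : CochainComplex C ℤ) (L : CochainComplex D ℤ) :
    mapBifunctor ((Φc).obj K) L F₂ (ComplexShape.up ℤ) ⟶
      (Φc).obj (mapBifunctor K ((Ψc).obj L) F₁ (ComplexShape.up ℤ)) where
  f n := totX μ K L n
  comm' n n' _ := by
    refine mapBifunctor.hom_ext fun p q h => ?_
    change ιMapBifunctor _ _ _ _ p q n h ≫ totX μ K L n ≫
        Φ.map ((mapBifunctor K ((Ψc).obj L) F₁ (ComplexShape.up ℤ)).d n n') =
      ιMapBifunctor _ _ _ _ p q n h ≫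
        (mapBifunctor ((Φc).obj K) L F₂ (ComplexShape.up ℤ)).d n n' ≫ totX μ K L n'
    rw [← Category.assoc, ι_totX, Category.assoc, ← Functor.map_comp, mapBifunctor.d_eq,
      mapBifunctor.d_eq, Preadditive.comp_add, Preadditive.add_comp, Preadditive.comp_add,
      mapBifunctor.ι_D₁, mapBifunctor.ι_D₂, ← Category.assoc, ← Category.assoc, mapBifunctor.ι_D₁,
      mapBifunctor.ι_D₂, tot_d₁, tot_d₂, Functor.map_add, Preadditive.comp_add]

lemma tot_natural (K : CochainComplex C ℤ) {L L' : CochainComplex D ℤ} (b : L ⟶ L') :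
    (F₂.map₂CochainComplex.obj ((Φc).obj K)).map b ≫ tot μ K L' =
      tot μ K L ≫ (Φc).map ((F₁.map₂CochainComplex.obj K).map ((Ψc).map b)) := by
  refine HomologicalComplex.hom_ext _ _ fun n => mapBifunctor.hom_ext fun p q h => ?_
  refine ((ι_mapBifunctorMap_assoc (𝟙 ((Φc).obj K)) b F₂ (ComplexShape.up ℤ) p q n h _).trans ?_).trans
    ((reassoc_of% (ι_totX μ K L p q n h)) _).symm
  erw [ι_totX]
  refine Eq.trans ?_ (congrArg (bX μ K L p q ≫ ·)
    ((congrArg Φ.map (ι_mapBifunctorMap (𝟙 K) ((Ψc).map b) F₁ (ComplexShape.up ℤ) p q n h)).symm.trans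
      (Φ.map_comp _ _)))
  simp only [HomologicalComplex.id_f, CategoryTheory.Functor.map_id, NatTrans.id_app, Category.id_comp,
    Functor.map_comp]
  exact (reassoc_of% (bX_natural μ K b p q)) _

end Groth.Agent.DQCPush.ProjMap
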