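import Groth.Agent.ModGroth.PushTensor
import Groth.Agent.ModGroth.LTensorCx
import Groth.Agent.DQCPush.ProjGenMap

/-!
# The projection map of complexes along any morphism
-/

set_option autoImplicit false
set_option maxHeartbeats 400000
set_option linter.style.haveILetI false

universe u

open CategoryTheory CategoryTheory.Limits HomologicalComplex AlgebraicGeometry

namespace Groth.Agent.DQCPush.Proj

open ModGroth ModGroth.Stalk ModGroth.PushStalk

variable {X Y : Scheme.{u}} (f : X ⟶ Y) (K : CochainComplex X.Modules ℤ) (L : CochainComplex Y.Modules ℤ)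

/-- `f_*` on complexes. -/
noncomputable abbrev pus {X Y : Scheme.{u}} (f : X ⟶ Y) :
    CochainComplex X.Modules ℤ ⥤ CochainComplex Y.Modules ℤ :=
  (Scheme.Modules.pushforward f).mapHomologicalComplex (ComplexShape.up ℤ)

/-- The projection maps of modules. -/
noncomputable def data : ProjMap.Data (DCoh.tensorBi (X := X)) (DCoh.tensorBi (X := Y))
    (Scheme.Modules.pushforward f) (Scheme.Modules.pullback f) where
  app A B := beta f A B
  natL a B := beta_natL f a B
  natR A {_ _} b := beta_natR f A b

/-- The projection map at one bidegree. -/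
noncomputable abbrev bX (p q : ℤ) :
    ((DCoh.tensorBi (X := Y)).obj (((pus f).obj K).X p)).obj (L.X q) ⟶
      (Scheme.Modules.pushforward f).obj (((DCoh.tensorBi (X := X)).obj (K.X p)).obj (((pcx f).obj L).X q)) :=
  ProjMap.bX (data f) K L p q

/-- Degree `n` of the projection map. -/
noncomputable abbrev totX (n : ℤ) :
    (mapBifunctor ((pus f).obj K) L (DCoh.tensorBi (X := Y)) (ComplexShape.up ℤ)).X n ⟶
      (Scheme.Modules.pushforward f).obj
        ((mapBifunctor K ((pcx f).obj L) (DCoh.tensorBi (X := X)) (ComplexShape.up ℤ)).X n) :=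
  ProjMap.totX (data f) K L n

lemma ι_totX (p q n : ℤ) (h : p + q = n) :
    ιMapBifunctor ((pus f).obj K) L (DCoh.tensorBi (X := Y)) (ComplexShape.up ℤ) p q n h ≫ totX f K L n =
      bX f K L p q ≫ (Scheme.Modules.pushforward f).map
        (ιMapBifunctor K ((pcx f).obj L) (DCoh.tensorBi (X := X)) (ComplexShape.up ℤ) p q n h) :=
  ProjMap.ι_totX (data f) K L p q n h

/-- `f_*K ⊗ L ⟶ f_*(K ⊗ f^*L)`. -/
noncomputable abbrev tot :
    ((DCoh.tensorCx (X := Y)).obj ((pus f).obj K)).obj L ⟶
      (pus f).obj (((DCoh.tensorCx (X := X)).obj K).obj ((pcx f).obj L)) :=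
  ProjMap.tot (data f) K L

lemma tot_natural {L' : CochainComplex Y.Modules ℤ} (b : L ⟶ L') :
    ((DCoh.tensorCx (X := Y)).obj ((pus f).obj K)).map b ≫ tot f K L' =
      tot f K L ≫ (pus f).map (((DCoh.tensorCx (X := X)).obj K).map ((pcx f).map b)) :=
  ProjMap.tot_natural (data f) K b

end Groth.Agent.DQCPush.Proj
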