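import Groth.Agent.DQCPush.ProjUnit
import Groth.Agent.DQCPush.ProjTot
import Groth.Agent.DQC.Shriek
import Groth.Agent.ModGroth.FinLocFree
import Groth.Agent.ModGroth.KFlatExact
import Groth.Agent.HigherDirect.QCohGlobal

/-!
# The projection map over an open where the complex is bounded with finite free terms
-/

set_option autoImplicit false
set_option linter.style.haveILetI false
set_option maxHeartbeats 800000
set_option backward.isDefEq.respectTransparency false
set_option backward.isDefEq.respectTransparency.types false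

universe u v v' w w'

open CategoryTheory CategoryTheory.Limits AlgebraicGeometry HomologicalComplex

namespace Groth.Agent.DQCPush.Proj

open ModGroth ModGroth.Stalk ModGroth.PushStalk

section Support

variable {A : Type w} [Category.{v} A] [Preadditive A] {B : Type w'} [Category.{v'} B] [Preadditive B]
  (G : A ⥤ B) [G.Additive] {ι : Type} [DecidableEq ι] {F : ι → A}

/-- Additive functors preserve coproducts with finite support. -/
noncomputable def isColimitMapOfSupport {c : Cofan F} (hc : IsColimit c) (S : Finset ι)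
    (hS : ∀ i, i ∉ S → IsZero (F i)) : IsColimit (G.mapCocone c) :=
  let π : ∀ i, c.pt ⟶ F i := fun i =>
    Cofan.IsColimit.desc hc fun j => if h : j = i then eqToHom (by rw [h]) else 0
  have hπ : ∀ i j, c.inj j ≫ π i = if h : j = i then eqToHom (by rw [h]) else 0 :=
    fun i j => Cofan.IsColimit.fac hc _ j
  have hid : ∑ i ∈ S, π i ≫ c.inj i = 𝟙 c.pt := Cofan.IsColimit.hom_ext hc _ _ fun j => by
    rw [Preadditive.comp_sum, Category.comp_id]
    by_cases hj : j ∈ S
    · rw [Finset.sum_eq_single_of_mem j hj]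
      · rw [← Category.assoc, hπ, dif_pos rfl, eqToHom_refl, Category.id_comp]
      · intro i _ hi
        rw [← Category.assoc, hπ, dif_neg (Ne.symm hi), zero_comp]
    · exact (hS j hj).eq_of_src _ _
  { desc := fun s => ∑ i ∈ S, G.map (π i) ≫ s.ι.app ⟨i⟩
    fac := fun s j => by
      obtain ⟨j⟩ := j
      change G.map (c.inj j) ≫ (∑ i ∈ S, G.map (π i) ≫ s.ι.app ⟨i⟩) = s.ι.app ⟨j⟩
      rw [Preadditive.comp_sum]
      by_cases hj : j ∈ S
      · rw [Finset.sum_eq_single_of_mem j hj]
        · rw [← Category.assoc, ← G.map_comp, hπ, dif_pos rfl, eqToHom_refl]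
          exact (congrArg (· ≫ _) (G.map_id _)).trans (Category.id_comp _)
        · intro i _ hi
          rw [← Category.assoc, ← G.map_comp, hπ, dif_neg (Ne.symm hi), G.map_zero, zero_comp]
      · exact (G.map_isZero (hS j hj)).eq_of_src _ _
    uniq := fun s m hm => by
      calc m = G.map (∑ i ∈ S, π i ≫ c.inj i) ≫ m := by rw [hid, G.map_id, Category.id_comp]
        _ = _ := by
          rw [G.map_sum, Preadditive.sum_comp]
          refine Finset.sum_congr rfl fun i _ => ?_
          rw [G.map_comp, Category.assoc]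
          exact congrArg (_ ≫ ·) (hm ⟨i⟩) }

end Support

variable {X Y : Scheme.{u}} (f : X ⟶ Y) (W : Y.Opens)

/-- Restriction to `W`. -/
noncomputable abbrev R : Y.Modules ⥤ (W : Scheme.{u}).Modules := Scheme.Modules.restrictFunctor W.ι

lemma isIso_pull {N N' : Y.Modules} (b : N ⟶ N') (h : IsIso ((R W).map b)) :
    IsIso ((R (f ⁻¹ᵁ W)).map ((Scheme.Modules.pullback f).map b)) :=
  (NatIso.isIso_map_iff (Perf.restrPullIso f (f ∣_ W) _ _ (morphismRestrict_ι f W)) b).1
    (haveI := h; inferInstanceAs (IsIso ((Scheme.Modules.pullback (f ∣_ W)).map ((R W).map b))))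

lemma isIso_tensor (M : Y.Modules) {N N' : Y.Modules} (b : N ⟶ N') (h : IsIso ((R W).map b)) :
    IsIso ((R W).map (((DCoh.tensorBi (X := Y)).obj M).map b)) := by
  haveI := h
  haveI : IsIso ((R W).map (((DCoh.tensorBi (X := Y)).obj M).map b) ≫ (Perf.restrTensorIso W.ι M N').hom) := by
    rw [DQC.restrTensorIso_natR]
    infer_instance
  exact IsIso.of_isIso_comp_right _ (Perf.restrTensorIso W.ι M N').hom

lemma isIso_push {P P' : X.Modules} (g : P ⟶ P') (h : IsIso ((R (f ⁻¹ᵁ W)).map g)) :
    IsIso ((R W).map ((Scheme.Modules.pushforward f).map g)) := by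
  obtain ⟨φ⟩ := HigherDirect.nonempty_push_restrict_iso f W
  exact (NatIso.isIso_map_iff φ g).2
    (haveI := h; inferInstanceAs (IsIso ((Scheme.Modules.pushforward (f ∣_ W)).map ((R (f ⁻¹ᵁ W)).map g))))

lemma isIso_beta_transfer (M : X.Modules) {N N' : Y.Modules} (b : N ⟶ N') (h : IsIso ((R W).map b)) :
    IsIso ((R W).map (beta f M N)) ↔ IsIso ((R W).map (beta f M N')) := by
  haveI := isIso_tensor W ((Scheme.Modules.pushforward f).obj M) b h
  haveI := isIso_push f W _ (isIso_tensor (f ⁻¹ᵁ W) M ((Scheme.Modules.pullback f).map b) (isIso_pull f W b h))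
  have e := congrArg (R W).map (beta_natR f M b)
  rw [Functor.map_comp, Functor.map_comp] at e
  constructor
  · intro h1
    haveI := h1
    haveI : IsIso ((R W).map (((DCoh.tensorBi (X := Y)).obj ((Scheme.Modules.pushforward f).obj M)).map b) ≫
        (R W).map (beta f M N')) := by rw [e]; infer_instance
    exact IsIso.of_isIso_comp_left ((R W).map (((DCoh.tensorBi (X := Y)).obj ((Scheme.Modules.pushforward f).obj M)).map b)) _
  · intro h1
    haveI := h1
    haveI : IsIso ((R W).map (beta f M N) ≫ (R W).map ((Scheme.Modules.pushforward f).map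
        (((DCoh.tensorBi (X := X)).obj M).map ((Scheme.Modules.pullback f).map b)))) := by
      rw [← e]; infer_instance
    exact IsIso.of_isIso_comp_right _ ((R W).map ((Scheme.Modules.pushforward f).map
      (((DCoh.tensorBi (X := X)).obj M).map ((Scheme.Modules.pullback f).map b))))

/-- `f_*M ⊗ O^r ≅ f_*(M ⊗ f^*O^r)`. -/
lemma isIso_beta_free (M : X.Modules) (r : ℕ) : IsIso (beta f M (FlatMod.freeMod Y r)) := by
  let G₁ := (DCoh.tensorBi (X := Y)).obj ((Scheme.Modules.pushforward f).obj M)
  let G₂ := Scheme.Modules.pullback f ⋙ (DCoh.tensorBi (X := X)).obj M ⋙ Scheme.Modules.pushforward f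
  haveI := (Scheme.Modules.pullbackPushforwardAdjunction f).left_adjoint_additive
  let F : Fin r → Y.Modules := fun _ => Coh.structureModule Y
  let hc₁ := isColimitMapOfSupport G₁ (coproductIsCoproduct F) Finset.univ (fun i hi => absurd (Finset.mem_univ i) hi)
  let hc₂ := isColimitMapOfSupport G₂ (coproductIsCoproduct F) Finset.univ (fun i hi => absurd (Finset.mem_univ i) hi)
  let θ : Discrete.functor F ⋙ G₁ ≅ Discrete.functor F ⋙ G₂ :=
    Discrete.natIso fun _ => @asIso _ _ _ _ (beta f M (Coh.structureModule Y)) (isIso_beta_unit f M)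
  have e : beta f M (FlatMod.freeMod Y r) = (IsColimit.coconePointsIsoOfNatIso hc₁ hc₂ θ).hom :=
    hc₁.hom_ext fun i => (beta_natR f M (Sigma.ι F i.as)).trans
      (IsColimit.comp_coconePointsIsoOfNatIso_hom hc₁ hc₂ θ i).symm
  rw [e]
  exact (IsColimit.coconePointsIsoOfNatIso hc₁ hc₂ θ).isIso_hom

/-- Over an open where `N` is finite free. -/
lemma isIso_beta_of_free (M : X.Modules) {N : Y.Modules} {r : ℕ}
    (e : (R W).obj N ≅ FlatMod.freeMod (W : Scheme.{u}) r) : IsIso ((R W).map (beta f M N)) := by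
  let O := FlatMod.freeMod Y r
  let h0 : (R W).obj O ≅ (R W).obj N :=
    (Scheme.Modules.restrictFunctorIsoPullback W.ι).app O ≪≫ Perf.pullFreeModIso W.ι r ≪≫ e.symm
  let adj := DQC.jSAdj W
  let ε := adj.counit.app O
  let g : (DQC.jS W).obj ((R W).obj O) ⟶ N := (adj.homEquiv _ _).symm h0.hom
  have hε : IsIso ((R W).map ε) :=
    IsIso.of_isIso_fac_left (adj.right_triangle_components O)
  have hg : IsIso ((R W).map g) :=
    IsIso.of_isIso_fac_left ((adj.homEquiv_unit (f := g)).symm.trans ((adj.homEquiv _ _).apply_symm_apply h0.hom))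
  haveI := isIso_beta_free f M r
  exact (isIso_beta_transfer f W M g hg).1
    ((isIso_beta_transfer f W M (N := (DQC.jS W).obj ((R W).obj O)) (N' := O) ε hε).2 inferInstance)

/-- Maps of complexes invertible on `W` stay so after tensoring. -/
lemma isIso_tensorCx (M : CochainComplex Y.Modules ℤ) {L L' : CochainComplex Y.Modules ℤ} (b : L ⟶ L')
    (h : ∀ q, IsIso ((R W).map (b.f q))) (n : ℤ) :
    IsIso ((R W).map ((((DCoh.tensorCx (X := Y)).obj M).map b).f n)) := by
  let T := DCoh.tensorBi (X := Y)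
  haveI : PreservesColimitsOfSize.{0, 0} (R W) := (Scheme.Modules.restrictAdjunction W.ι).leftAdjoint_preservesColimits
  let hc₁ := isColimitOfPreserves (R W) (isColimitDegCofan T M L n)
  let hc₂ := isColimitOfPreserves (R W) (isColimitDegCofan T M L' n)
  let θ : Discrete.functor (fun x : DegIdx n => (T.obj (M.X x.1.1)).obj (L.X x.1.2)) ⋙ R W ≅
      Discrete.functor (fun x : DegIdx n => (T.obj (M.X x.1.1)).obj (L'.X x.1.2)) ⋙ R W :=
    Discrete.natIso fun x => @asIso _ _ _ _ ((R W).map ((T.obj (M.X x.as.1.1)).map (b.f x.as.1.2)))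
      (isIso_tensor W _ _ (h _))
  have e : (R W).map (((((DCoh.tensorCx (X := Y)).obj M)).map b).f n) = (IsColimit.coconePointsIsoOfNatIso hc₁ hc₂ θ).hom := by
    refine hc₁.hom_ext fun x => Eq.trans ?_ (IsColimit.comp_coconePointsIsoOfNatIso_hom hc₁ hc₂ θ x).symm
    refine ((R W).map_comp _ _).symm.trans ((congrArg (R W).map ?_).trans ((R W).map_comp _ _))
    exact degNat_comm T M b n x
  rw [e]
  exact (IsColimit.coconePointsIsoOfNatIso hc₁ hc₂ θ).isIso_hom

/-- The comparison is invertible on `W`. -/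
theorem isIso_totX (K : CochainComplex X.Modules ℤ) (L : CochainComplex Y.Modules ℤ) (a b : ℤ)
    (hz : ∀ q, q < a ∨ b < q → IsZero (L.X q))
    (hl : ∀ q, ∃ r, Nonempty ((R W).obj (L.X q) ≅ FlatMod.freeMod (W : Scheme.{u}) r)) (n : ℤ) :
    IsIso ((R W).map (totX f K L n)) := by
  haveI : PreservesColimitsOfSize.{0, 0} (R W) := (Scheme.Modules.restrictAdjunction W.ι).leftAdjoint_preservesColimits
  haveI := (Scheme.Modules.pullbackPushforwardAdjunction f).left_adjoint_additive
  let T := DCoh.tensorBi (X := Y)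
  let T' := DCoh.tensorBi (X := X)
  let hc₁ := isColimitOfPreserves (R W) (isColimitDegCofan T ((pus f).obj K) L n)
  let S : Finset (DegIdx n) := (Finset.Icc a b).image fun q => ⟨(n - q, q), by simp⟩
  have hS : ∀ x : DegIdx n, x ∉ S → IsZero ((T'.obj (K.X x.1.1)).obj (((pcx f).obj L).X x.1.2)) := fun x hx => by
    refine Functor.map_isZero _ ((Scheme.Modules.pullback f).map_isZero (hz _ ?_))
    by_contra hc
    push_neg at hc
    refine hx (Finset.mem_image.2 ⟨x.1.2, Finset.mem_Icc.2 hc, Subtype.ext (Prod.ext ?_ rfl)⟩)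
    have := x.2
    show n - x.1.2 = x.1.1
    omega
  let hc₂ := isColimitMapOfSupport (Scheme.Modules.pushforward f ⋙ R W)
    (isColimitDegCofan T' K ((pcx f).obj L) n) S hS
  let θ : Discrete.functor (fun x : DegIdx n => (T.obj (((pus f).obj K).X x.1.1)).obj (L.X x.1.2)) ⋙ R W ≅
      Discrete.functor (fun x : DegIdx n => (T'.obj (K.X x.1.1)).obj (((pcx f).obj L).X x.1.2)) ⋙
        (Scheme.Modules.pushforward f ⋙ R W) :=
    Discrete.natIso fun x => @asIso _ _ _ _ ((R W).map (bX f K L x.as.1.1 x.as.1.2))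
      (by obtain ⟨r, ⟨e⟩⟩ := hl x.as.1.2; exact isIso_beta_of_free f W _ e)
  have e : (R W).map (totX f K L n) = (IsColimit.coconePointsIsoOfNatIso hc₁ hc₂ θ).hom := by
    refine hc₁.hom_ext fun x => Eq.trans ?_ (IsColimit.comp_coconePointsIsoOfNatIso_hom hc₁ hc₂ θ x).symm
    refine ((R W).map_comp _ _).symm.trans ((congrArg (R W).map ?_).trans ((R W).map_comp _ _))
    exact ι_totX f K L x.as.1.1 x.as.1.2 n x.as.2
  rw [e]
  exact (IsColimit.coconePointsIsoOfNatIso hc₁ hc₂ θ).isIso_hom

end Groth.Agent.DQCPush.Proj
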