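import Groth.Agent.ModGroth.PushTensor
import Groth.Agent.QCohLib.Pullback

/-!
# The projection map at the structure sheaf
-/

set_option autoImplicit false
set_option linter.style.haveILetI false
set_option backward.isDefEq.respectTransparency false
set_option backward.isDefEq.respectTransparency.types false

universe u

open CategoryTheory CategoryTheory.Limits Opposite TopologicalSpace AlgebraicGeometry MonoidalCategory

namespace Groth.Agent.DQCPush.Proj

open ModGroth ModGroth.Stalk ModGroth.PushStalk

variable {X Y : Scheme.{u}} (f : X ⟶ Y)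

/-- `toPres` of a module is a sheaf: the unit is invertible. -/
lemma isIso_eta_toPres (A : X.Modules) : IsIso (eta (O := X.sheaf) (toPres.obj A)) := by
  haveI : IsIso ((adjn X.sheaf).counit) :=
    inferInstanceAs (IsIso (PresheafOfModules.sheafificationAdjunction
      (𝟙 (ModSite.ringSh X.sheaf).obj)).counit)
  haveI : IsIso ((forgetPM X.sheaf).map ((adjn X.sheaf).counit.app A)) :=
    Functor.map_isIso _ _
  exact IsIso.of_isIso_fac_right ((adjn X.sheaf).right_triangle_components A)

lemma isIso_eta_unit (A : X.Modules) :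
    IsIso (eta (O := X.sheaf) (toPres.obj A ⊗ toPres.obj (Coh.structureModule X))) := by
  haveI := isIso_eta_toPres A
  let ρ : (toPres.obj A ⊗ toPres.obj (Coh.structureModule X) : Pres X.presheaf) ≅ toPres.obj A :=
    ρ_ (toPres.obj A)
  haveI : IsIso (eta' (O := X.sheaf) (toPres.obj A)) := ‹_›
  have h := eta'_naturality (O := X.sheaf) ρ.hom
  exact IsIso.of_isIso_fac_right h.symm

lemma pullbackUnitIso_pSec (U : Y.Opens) :
    (toPres.map (QCohLib.pullbackUnitIso f).hom).app (op (f ⁻¹ᵁ U))
      (pSec f (Coh.structureModule Y) (U := U) (1 : Y.presheaf.obj (op U))) = (1 : X.presheaf.obj (op (f ⁻¹ᵁ U))) := by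
  have h := ((SheafOfModules.pullbackPushforwardAdjunction f.toRingCatSheafHom).homEquiv_unit
    (f := SheafOfModules.pullbackObjUnitToUnit f.toRingCatSheafHom)).symm.trans
    (SheafOfModules.pullbackPushforwardAdjunction_homEquiv_pullbackObjUnitToUnit f.toRingCatSheafHom)
  exact (congrArg (fun t : Coh.structureModule Y ⟶ (Scheme.Modules.pushforward f).obj (Coh.structureModule X) =>
    (toPres.map t).app (op U) (1 : Y.presheaf.obj (op U))) h).trans
    (map_one (f.app U).hom)

lemma bijective_betaSec_one (M : X.Modules) (U : Y.Opens) :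
    Function.Bijective (fun m : (toPres.obj ((Scheme.Modules.pushforward f).obj M)).obj (op U) =>
      betaSec f M (Coh.structureModule Y) m (1 : Y.presheaf.obj (op U))) := by
  let c := ((DCoh.tensorBi (X := X)).obj M).map (QCohLib.pullbackUnitIso f).hom
  haveI := isIso_eta_unit M
  have hc : Function.Bijective ((toPres.map c).app (op (f ⁻¹ᵁ U))) :=
    ConcreteCategory.bijective_of_isIso ((PresheafOfModules.evaluation _ (op (f ⁻¹ᵁ U))).map (toPres.map c))
  refine (Function.Bijective.of_comp_iff' hc _).1 ?_
  have hη : Function.Bijective ((eta (O := X.sheaf) (toPres.obj M ⊗ toPres.obj (Coh.structureModule X))).app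
      (op (f ⁻¹ᵁ U))) :=
    ConcreteCategory.bijective_of_isIso ((PresheafOfModules.evaluation _ (op (f ⁻¹ᵁ U))).map
      (eta (O := X.sheaf) (toPres.obj M ⊗ toPres.obj (Coh.structureModule X))))
  have hρ : Function.Bijective (fun m : (toPres.obj M).obj (op (f ⁻¹ᵁ U)) =>
      tm' (toPres.obj M) (toPres.obj (Coh.structureModule X)) m (1 : X.presheaf.obj (op (f ⁻¹ᵁ U)))) :=
    (ρ_ ((toPres.obj M).obj (op (f ⁻¹ᵁ U)))).toLinearEquiv.symm.bijective
  refine Eq.mpr ?_ (hη.comp hρ)
  refine congrArg Function.Bijective (funext fun m => ?_)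
  refine (eta_natR M (QCohLib.pullbackUnitIso f).hom (U := f ⁻¹ᵁ U) m _).trans ?_
  exact congrArg (fun t => (eta (O := X.sheaf) _).app (op (f ⁻¹ᵁ U)) (tm' (toPres.obj M) _ (U := f ⁻¹ᵁ U) m t))
    (pullbackUnitIso_pSec f U)

/-- `f_*M ⊗ O ≅ f_*(M ⊗ f^*O)`. -/
theorem isIso_beta_unit (M : X.Modules) : IsIso (beta f M (Coh.structureModule Y)) := by
  let F := (Scheme.Modules.pushforward f).obj M
  haveI := isIso_eta_unit F
  haveI : IsIso (betaPre f M (Coh.structureModule Y)) := by
    haveI : ∀ U, IsIso ((PresheafOfModules.evaluation _ U).map (betaPre f M (Coh.structureModule Y))) := fun U => by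
      rw [ConcreteCategory.isIso_iff_bijective]
      let r : ((toPres.obj F).obj U ⊗ 𝟙_ _ : ModuleCat _) ≅ (toPres.obj F).obj U := ρ_ _
      have h := (bijective_betaSec_one f M U.unop).comp r.toLinearEquiv.bijective
      refine Eq.mpr (congrArg Function.Bijective (funext fun z => ?_)) h
      obtain ⟨m, rfl⟩ := r.symm.toLinearEquiv.surjective z
      refine Eq.trans ?_ (congrArg (fun t => betaSec f M (Coh.structureModule Y) (U := U.unop) t
        (1 : Y.presheaf.obj (op U.unop))) (r.toLinearEquiv.apply_symm_apply m)).symm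
      rfl
    haveI : IsIso ((PresheafOfModules.toPresheaf _).map (betaPre f M (Coh.structureModule Y))) := by
      refine @NatIso.isIso_of_isIso_app _ _ _ _ _ _ _ fun U => ?_
      exact Functor.map_isIso (forget₂ (ModuleCat _) AddCommGrpCat)
        ((PresheafOfModules.evaluation _ U).map (betaPre f M (Coh.structureModule Y)))
    exact isIso_of_reflects_iso _ (PresheafOfModules.toPresheaf _)
  haveI : IsIso (toPres.map (beta f M (Coh.structureModule Y))) :=
    @IsIso.of_isIso_fac_left _ _ _ _ _ _ _ _ (isIso_eta_unit F) ‹_› (eta_beta f M (Coh.structureModule Y))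
  haveI := (SheafOfModules.fullyFaithfulForget (ModSite.ringSh Y.sheaf)).reflectsIsomorphisms
  exact isIso_of_reflects_iso _ (toPres (X := Y))

end Groth.Agent.DQCPush.Proj
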